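import Cfsg.Agent.Fusion.Sylow
import Cfsg.Agent.EvenType.StronglyEmbedded

/-!
# Strongly `p`-embedded subgroups, as needed for Alperin's fusion theorem
-/

set_option autoImplicit false

namespace CfsgLib.Fusion

open Cfsg

variable {G : Type*} [Group G] [Finite G] {p : ℕ} [Fact p.Prime] {Y : Subgroup G}

/-- A `p`-subgroup meeting a strongly `p`-embedded subgroup nontrivially is contained in it. -/
theorem le_of_isStronglyPEmbedded (hY : IsStronglyPEmbedded p Y) {X R : Subgroup G}
    (hXR : X ≤ R) (hR : IsPGroup p R) (hXY : X ≤ Y) (hne : X ≠ ⊥) : R ≤ Y := by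
  induction hd : Nat.card R - Nat.card X using Nat.strong_induction_on generalizing X with
  | _ d ih =>
  rcases hXR.eq_or_lt with rfl | hlt
  · exact hXY
  have h1 := lt_normalizerIn hR hlt
  have h2 : Cfsg.FusionSystem.normalizerIn R X ≤ Y := inf_le_right.trans
    (CfsgLib.EvenType.normalizer_le_of_isStronglyPEmbedded hY hXY (hR.to_le hXR) hne)
  have h3 : Nat.card (Cfsg.FusionSystem.normalizerIn R X) ≤ Nat.card R :=
    Subgroup.card_le_of_le inf_le_left
  have h4 : Nat.card X < Nat.card (Cfsg.FusionSystem.normalizerIn R X) := by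
    refine lt_of_le_of_ne (Subgroup.card_le_of_le h1.le) fun h => ?_
    exact h1.ne (Subgroup.eq_of_le_of_card_ge h1.le h.ge)
  exact ih (Nat.card R - Nat.card (Cfsg.FusionSystem.normalizerIn R X)) (by omega) inf_le_left h2
    (fun h => hne (le_bot_iff.1 (h ▸ h1.le))) rfl

/-- If `T` is a Sylow subgroup inside a strongly `p`-embedded `Y`, every element conjugating a
nontrivial element of `T` into `T` lies in `Y`. -/
theorem mem_of_isStronglyPEmbedded (hY : IsStronglyPEmbedded p Y) (T : Sylow p G)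
    (hT : (T : Subgroup G) ≤ Y) {x t : G} (ht : t ∈ (T : Subgroup G)) (ht1 : t ≠ 1)
    (hxt : x * t * x⁻¹ ∈ (T : Subgroup G)) : x ∈ Y := by
  have hne : Subgroup.zpowers (x * t * x⁻¹) ≠ ⊥ := by
    rw [ne_eq, Subgroup.zpowers_eq_bot, mul_inv_eq_one, mul_eq_left]
    exact ht1
  have hR : (T : Subgroup G).map (MulAut.conj x).toMonoidHom ≤ Y :=
    le_of_isStronglyPEmbedded hY (X := Subgroup.zpowers (x * t * x⁻¹))
      (Subgroup.zpowers_le.2 ⟨t, ht, rfl⟩) (T.isPGroup'.map _)
      ((Subgroup.zpowers_le.2 hxt).trans hT) hne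
  have hTY : IsSylowIn p Y (T : Subgroup G) := ⟨T.subtype hT, rfl⟩
  obtain ⟨y, hy, hyT⟩ := hTY.exists_conj hR (T.isPGroup'.map _)
  have hyx : y * x ∈ Subgroup.normalizer ((T : Subgroup G) : Set G) :=
    Subgroup.mem_normalizer_fintype fun n hn => by
      have h1 := hyT _ ⟨n, hn, rfl⟩
      have h2 : y * x * n * (y * x)⁻¹ ∈ (T : Subgroup G) := by simpa [mul_assoc] using h1
      exact h2
  obtain ⟨P, hPne, hPY, -⟩ := CfsgLib.EvenType.exists_sylow_le_of_isStronglyPEmbedded hY
  have hTne : (T : Subgroup G) ≠ ⊥ := T.ne_bot_of_dvd_card hY.1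
  have h2 := CfsgLib.EvenType.normalizer_le_of_isStronglyPEmbedded hY hT T.isPGroup' hTne hyx
  simpa using Y.mul_mem (Y.inv_mem hy) h2

/-- A group with a strongly `p`-embedded subgroup has no nontrivial normal `p`-subgroup. -/
theorem eq_bot_of_isStronglyPEmbedded (hY : IsStronglyPEmbedded p Y) {N : Subgroup G} [N.Normal]
    (hN : IsPGroup p N) : N = ⊥ := by
  by_contra hne
  obtain ⟨P, -, hPY, -⟩ := CfsgLib.EvenType.exists_sylow_le_of_isStronglyPEmbedded hY
  have h := CfsgLib.EvenType.normalizer_le_of_isStronglyPEmbedded hY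
    ((hN.le_sylow_of_normal P).trans hPY) hN hne
  rw [Subgroup.normalizer_eq_top] at h
  exact hY.2.1 (top_le_iff.1 h)

end CfsgLib.Fusion
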