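import Cfsg.Agent.Fusion.Induction
import Cfsg.Agent.Fusion.StronglyEmbedded
import Cfsg.Agent.PLocal.Cores

/-!
# Essential subgroups and Alperin's fusion theorem
-/

set_option autoImplicit false

namespace CfsgLib.Fusion

open Cfsg Cfsg.FusionSystem

variable {Ω : Type*} [Group Ω] {S : Subgroup Ω} {F : FusionSystem S} {P Q R : Subgroup Ω}
variable {p : ℕ}

/-- The automorphisms of `P` extending to maps of the system on strictly larger subgroups. -/
def extendable (F : FusionSystem S) (P : Subgroup Ω) : Set (MulAut P) :=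
  {α : MulAut P | ∃ (Q : Subgroup Ω) (hPQ : P < Q) (φ : Q →* Ω),
    φ ∈ F.Hom Q ∧ ∀ x : P, φ (Subgroup.inclusion hPQ.le x) = α x}

theorem extendable_subset : extendable F P ⊆ F.autGroup P := by
  rintro α ⟨Q, hPQ, φ, hφ, h⟩
  exact mem_autGroup_of_le_of_eq (hPQ.le.trans (le_left hφ)) (restrict_mem hφ hPQ.le)
    fun x => (h x).symm

theorem closure_extendable_le : Subgroup.closure (extendable F P) ≤ F.autGroup P :=
  (Subgroup.closure_le _).2 extendable_subset

theorem autInducedBy_subset_extendable [Finite S] [Fact p.Prime] (hS : IsPGroup p S) (hP : P < S) :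
    (autInducedBy S P : Set (MulAut P)) ⊆ extendable F P := by
  intro α hα
  obtain ⟨g, hgS, -, hg⟩ := mem_autInducedBy_iff.1 hα
  exact ⟨normalizerIn S P, lt_normalizerIn hS hP, conjHom (normalizerIn S P) g,
    F.conj_mem (normalizerIn_le S P) hgS, fun x => (hg x).symm⟩

theorem mem_extendable_of_congr (hPr : F.IsReceptive P) {α : MulAut P} (hα : α ∈ F.autGroup P)
    {g : Ω} (hg : g ∈ normalizerIn S P) (hgP : g ∉ P) {β : MulAut P}
    (hβ : ∀ x : P, (β x : Ω) = g * x * g⁻¹) (h : α * β * α⁻¹ ∈ autInducedBy S P) :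
    α ∈ extendable F P := by
  have hI : IsIso F α := (mem_autGroup_iff hPr.1).1 hα
  rw [← congr_self_eq] at h
  have hgE := mem_extender_of_congr hg hβ h
  obtain ⟨ψ, hψ, hψx⟩ := exists_extension hPr hI le_rfl
  have hle : P ≤ extender S P (P.subtype.comp α.toMonoidHom) :=
    le_extender hPr.1 fun x => hPr.1 (α x).2
  exact ⟨_, SetLike.lt_iff_le_and_exists.2 ⟨hle, g, hgE, hgP⟩, ψ, hψ, fun x => hψx x (hle x.2)⟩

theorem autGroup_subset_extendable_of_not_centric [Finite S] [Fact p.Prime] (hS : IsPGroup p S)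
    (hF : F.IsSaturated p) (hP : F.IsFullyNormalized P) (hc : ¬ F.IsCentric P) :
    (F.autGroup P : Set (MulAut P)) ⊆ extendable F P := by
  obtain ⟨-, hPr⟩ := automized_receptive hS hF hP
  have hle : ¬ centralizerIn S P ≤ P := fun h =>
    hc (isCentric_of_fullyCentralized hS hF (fullyCentralized_of_normalized hS hF hP) h)
  obtain ⟨g, hg, hgP⟩ := SetLike.not_le_iff_exists.1 hle
  intro α hα
  refine mem_extendable_of_congr hPr hα (centralizerIn_le_normalizerIn S P hg) hgP (β := 1)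
    (fun x => ((mem_centralizerIn'.1 hg).2 x x.2).symm) ?_
  simp

theorem not_mem_Inn_of_not_mem (hP : F.IsCentric P) {g : Ω} (hg : g ∈ normalizerIn S P)
    (hgP : g ∉ P) {β : MulAut P} (hβ : ∀ x : P, (β x : Ω) = g * x * g⁻¹) : β ∉ Inn P := by
  rintro ⟨u, rfl⟩
  refine hgP ?_
  have h1 : (u : Ω)⁻¹ * g ∈ centralizerIn S P :=
    mem_centralizerIn'.2 ⟨S.mul_mem (S.inv_mem (hP.1 u.2)) hg.1, fun x hx => by
      have h2 := hβ ⟨x, hx⟩
      calc _ = (u : Ω)⁻¹ * (g * x * g⁻¹) * u := by simp [mul_assoc]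
        _ = x := by rw [← h2]; simp [MulAut.conj_apply, mul_assoc]⟩
  simpa using P.mul_mem u.2 (centralizerIn_le_of_centric hP h1)

variable (F P) in
/-- The projection of `Aut_F(P)` onto `Out_F(P)`. -/
theorem Inn_subgroupOf_normal : ((Inn P).subgroupOf (F.autGroup P)).Normal :=
  (Inn_normal P).subgroupOf _

/-- For a fully normalized centric proper subgroup, either the extendable automorphisms generate
`Aut_F(P)`, or their image in `Out_F(P)` is strongly `p`-embedded. -/
theorem stronglyPEmbedded_closure_extendable [Finite S] [Fact p.Prime] (hS : IsPGroup p S)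
    (hF : F.IsSaturated p) (hP : F.IsFullyNormalized P) (hPS : P < S) (hc : F.IsCentric P)
    [hn : ((Inn P).subgroupOf (F.autGroup P)).Normal]
    (hne : Subgroup.closure (extendable F P) ≠ F.autGroup P) :
    IsStronglyPEmbedded p (((Subgroup.closure (extendable F P)).subgroupOf (F.autGroup P)).map
      (QuotientGroup.mk' ((Inn P).subgroupOf (F.autGroup P)))) := by
  obtain ⟨hPa, hPr⟩ := automized_receptive hS hF hP
  have := finite_of_le hP.1
  obtain ⟨T, hT⟩ := hPa.2
  set H := Subgroup.closure (extendable F P) with hH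
  set π := QuotientGroup.mk' ((Inn P).subgroupOf (F.autGroup P)) with hπ
  have hπs : Function.Surjective π := QuotientGroup.mk'_surjective _
  have hker : π.ker = (Inn P).subgroupOf (F.autGroup P) := QuotientGroup.ker_mk' _
  have hInnB : Inn P ≤ autInducedBy S P := Inn_le_autInducedBy hP.1
  have hBH : autInducedBy S P ≤ H := fun β hβ =>
    Subgroup.subset_closure (autInducedBy_subset_extendable hS hPS hβ)
  -- the Sylow subgroup of `Out_F(P)`
  obtain ⟨g, hg, hgP⟩ := SetLike.exists_of_lt (lt_normalizerIn hS hPS)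
  let cg : MulAut P := P.normalizerMonoidHom ⟨g, hg.2⟩
  have hcg : cg ∈ autInducedBy S P := mem_autInducedBy_iff.2 ⟨g, hg.1, hg.2, fun _ => rfl⟩
  have hcgI : cg ∉ Inn P := not_mem_Inn_of_not_mem hc hg hgP fun _ => rfl
  let cg' : F.autGroup P := ⟨cg, autInducedBy_le_autGroup hP.1 hcg⟩
  let T' := T.mapSurjective hπs
  have hcgT : π cg' ∈ (T' : Subgroup (F.autGroup P ⧸ (Inn P).subgroupOf (F.autGroup P))) :=
    ⟨cg', show cg' ∈ (T : Subgroup (F.autGroup P)) from hT.symm ▸ hcg, rfl⟩
  have hT'ne : (T' : Subgroup (F.autGroup P ⧸ (Inn P).subgroupOf (F.autGroup P))) ≠ ⊥ := fun h => hcgI (by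
    have h0 : π cg' ∈ (T' : Subgroup (F.autGroup P ⧸ (Inn P).subgroupOf (F.autGroup P))) := hcgT
    rw [h] at h0
    have h1 : π cg' = 1 := Subgroup.mem_bot.1 h0
    exact (hker ▸ MonoidHom.mem_ker.2 h1 : cg' ∈ (Inn P).subgroupOf (F.autGroup P)))
  refine ⟨?_, ?_, T', ?_⟩
  · have h1 : Nontrivial (T' : Subgroup (F.autGroup P ⧸ (Inn P).subgroupOf (F.autGroup P))) :=
      (Subgroup.nontrivial_iff_ne_bot _).2 hT'ne
    obtain ⟨k, hk, hcard⟩ := T'.isPGroup'.nontrivial_iff_card.1 h1
    exact (dvd_pow_self p hk.ne').trans (hcard ▸ Subgroup.card_subgroup_dvd_card _)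
  · intro h
    refine hne (le_antisymm closure_extendable_le fun α hα => ?_)
    have h1 : π ⟨α, hα⟩ ∈ (H.subgroupOf (F.autGroup P)).map π := h ▸ Subgroup.mem_top _
    have hle : π.ker ≤ H.subgroupOf (F.autGroup P) :=
      hker.le.trans fun x hx => hBH (hInnB hx)
    rw [← Subgroup.mem_comap, Subgroup.comap_map_eq_self hle] at h1
    exact h1
  · refine iSup_le fun ⟨Qb, hQT, hQr⟩ => ?_
    intro xb hxb
    obtain ⟨x, rfl⟩ := hπs xb
    have hQne : Qb ≠ ⊥ := by
      rintro rfl
      refine hQr fun A _ _ => ?_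
      rw [Nat.sub_self, pow_zero]
      exact (Subgroup.card_subgroup_dvd_card A).trans (dvd_of_eq Subgroup.card_bot)
        |> Nat.le_of_dvd one_pos
    obtain ⟨qb, hqb, hqb1⟩ := Qb.bot_or_exists_ne_one.resolve_left hQne
    have hcomap : ∀ y : F.autGroup P, π y ∈ (T' : Subgroup (F.autGroup P ⧸ (Inn P).subgroupOf (F.autGroup P))) → (y : MulAut P) ∈ autInducedBy S P := by
      intro y hy
      have hle : π.ker ≤ (T : Subgroup (F.autGroup P)) := by
        rw [hker, hT]
        exact fun z hz => hInnB hz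
      have h1 : π y ∈ (T : Subgroup (F.autGroup P)).map π := hy
      rw [← Subgroup.mem_comap, Subgroup.comap_map_eq_self hle, hT] at h1
      exact h1
    obtain ⟨β, rfl⟩ := hπs qb
    obtain ⟨k, hkS, hkN, hk⟩ := mem_autInducedBy_iff.1 (hcomap β (hQT hqb))
    have hkP : k ∉ P := fun h => by
      refine hqb1 (MonoidHom.mem_ker.1 ?_)
      rw [hker]
      exact Subgroup.mem_subgroupOf.2 ⟨⟨k, h⟩, MulEquiv.ext fun y => Subtype.ext (hk y).symm⟩
    have hmem : ((x * β * x⁻¹ : F.autGroup P) : MulAut P) ∈ autInducedBy S P := by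
      refine hcomap _ (hQT ?_)
      rw [map_mul, map_mul, map_inv]
      exact (Subgroup.mem_normalizer_iff.1 hxb _).1 hqb
    exact ⟨x, Subgroup.subset_closure
      (mem_extendable_of_congr hPr x.2 ⟨hkS, hkN⟩ hkP hk hmem), rfl⟩

/-- For an essential subgroup the extendable automorphisms do not generate `Aut_F(P)`. -/
theorem closure_extendable_ne_of_essential [Finite S] [Fact p.Prime] (hS : IsPGroup p S)
    (hF : F.IsSaturated p) (hP : F.IsEssential p P) :
    Subgroup.closure (extendable F P) ≠ F.autGroup P := by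
  obtain ⟨hc, hfn, hn, Y, hY⟩ := hP
  intro hH
  obtain ⟨hPa, -⟩ := automized_receptive hS hF hfn
  have := finite_of_le hfn.1
  obtain ⟨T, hT⟩ := hPa.2
  have hπs := QuotientGroup.mk'_surjective ((Inn P).subgroupOf (F.autGroup P))
  have hker := QuotientGroup.ker_mk' ((Inn P).subgroupOf (F.autGroup P))
  generalize hπ : QuotientGroup.mk' ((Inn P).subgroupOf (F.autGroup P)) = π at hπs hker
  obtain ⟨T₀, -, hT₀Y, -⟩ := CfsgLib.EvenType.exists_sylow_le_of_isStronglyPEmbedded hY
  obtain ⟨a, ha⟩ := exists_conj_mem_sylow T₀ (T.mapSurjective hπs).isPGroup'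
  refine hY.2.1 (eq_top_iff.2 fun xb _ => ?_)
  obtain ⟨x, hx⟩ := hπs (a⁻¹ * xb * a)
  have hsub : F.autGroup P ≤
      ((Y.comap (MulAut.conj a).toMonoidHom).comap π).map (F.autGroup P).subtype := by
    refine hH.symm.le.trans ((Subgroup.closure_le _).2 ?_)
    intro α hα
    have hαA := extendable_subset hα
    refine ⟨⟨α, hαA⟩, ?_, rfl⟩
    obtain ⟨R, hPR, ψ, hψ, hψx⟩ := hα
    haveI := finite_of_le (le_left hψ)
    obtain ⟨g, hgN, hgP⟩ := SetLike.exists_of_lt
      (lt_normalizerIn (S := R) (hS.to_le (le_left hψ)) (P := P) hPR)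
    have hgR : g ∈ R := (Subgroup.mem_inf.1 hgN).1
    have hgNP := (Subgroup.mem_inf.1 hgN).2
    have hgS : g ∈ normalizerIn S P := ⟨le_left hψ hgR, hgNP⟩
    let β : MulAut P := P.normalizerMonoidHom ⟨g, hgNP⟩
    have hβ : β ∈ autInducedBy S P := mem_autInducedBy_iff.2 ⟨g, hgS.1, hgNP, fun _ => rfl⟩
    have hβ' : α * β * α⁻¹ ∈ autInducedBy S P := by
      refine Subgroup.subset_closure ⟨ψ ⟨g, hgR⟩, apply_mem hψ _, fun y => ?_⟩
      obtain ⟨z, rfl⟩ := (α : MulAut P).surjective y
      show (α (β (α⁻¹ (α z))) : Ω) = _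
      rw [show (α⁻¹ : MulAut P) (α z) = z from α.symm_apply_apply z, ← hψx, ← hψx,
        ← map_inv, ← map_mul, ← map_mul]
      rfl
    let β' : F.autGroup P := ⟨β, autInducedBy_le_autGroup hfn.1 hβ⟩
    have h1 : π β' ≠ 1 := fun h => not_mem_Inn_of_not_mem hc hgS hgP (β := β) (fun _ => rfl)
      (hker ▸ MonoidHom.mem_ker.2 h : β' ∈ (Inn P).subgroupOf (F.autGroup P))
    show a * π ⟨α, hαA⟩ * a⁻¹ ∈ Y
    refine mem_of_isStronglyPEmbedded hY T₀ hT₀Y (t := a * π β' * a⁻¹)
      (ha _ ⟨β', show β' ∈ (T : Subgroup (F.autGroup P)) from hT.symm ▸ hβ, rfl⟩) ?_ ?_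
    · rwa [ne_eq, mul_inv_eq_one, mul_eq_left]
    · have h2 := ha _ ⟨⟨α, hαA⟩ * β' * ⟨α, hαA⟩⁻¹,
        show (⟨α, hαA⟩ * β' * ⟨α, hαA⟩⁻¹ : F.autGroup P) ∈ (T : Subgroup (F.autGroup P)) from
          hT.symm ▸ hβ', rfl⟩
      simpa [mul_assoc] using h2
  obtain ⟨x', hx', hxx⟩ := hsub x.2
  rw [show x' = x from Subtype.ext hxx] at hx'
  have h3 : a * π x * a⁻¹ ∈ Y := hx'
  rw [hx] at h3
  simpa [mul_assoc] using h3

/-- A fully normalized subgroup which is not `S` and not essential has `Aut_F(P)` generated by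
extendable automorphisms. -/
theorem closure_extendable_eq [Finite S] [Fact p.Prime] (hS : IsPGroup p S)
    (hF : F.IsSaturated p) (hP : F.IsFullyNormalized P) (hPS : P < S)
    (hne : ¬ F.IsEssential p P) : Subgroup.closure (extendable F P) = F.autGroup P := by
  by_cases hc : F.IsCentric P
  · by_contra h
    haveI := Inn_subgroupOf_normal F P
    exact hne ⟨hc, hP, this, _, stronglyPEmbedded_closure_extendable hS hF hP hPS hc h⟩
  · exact le_antisymm closure_extendable_le fun α hα =>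
      Subgroup.subset_closure (autGroup_subset_extendable_of_not_centric hS hF hP hc hα)

/-- The Alperin–Goldschmidt fusion theorem, in a form allowing induction on the source. -/
theorem le_of_essential_step [Finite S] [Fact p.Prime] (hS : IsPGroup p S) (hF : F.IsSaturated p)
    {E : FusionSystem S}
    (hstep : ∀ P : Subgroup Ω, F.IsFullyNormalized P → (P = S ∨ F.IsEssential p P) →
      (∀ R : Subgroup Ω, Nat.card P < Nat.card R → F.Hom R ⊆ E.Hom R) →
        F.autGroup P ≤ E.autGroup P) : F ≤ E := by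
  refine le_of_step hS hF fun P hP IH => ?_
  by_cases h : P = S ∨ F.IsEssential p P
  · exact hstep P hP h IH
  push Not at h
  rw [← closure_extendable_eq hS hF hP (lt_of_le_of_ne hP.1 h.1) h.2]
  refine (Subgroup.closure_le _).2 fun α ⟨Q, hPQ, φ, hφ, hα⟩ => ?_
  exact mem_autGroup_of_le_of_eq hP.1
    (restrict_mem (IH Q (card_lt_of_lt hPQ (le_left hφ)) hφ) hPQ.le) fun x => (hα x).symm

/-- The Alperin–Goldschmidt fusion theorem. -/
theorem le_of_essential [Finite S] [Fact p.Prime] (hS : IsPGroup p S) (hF : F.IsSaturated p)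
    {E : FusionSystem S}
    (hE : ∀ P : Subgroup Ω, (P = S ∨ F.IsEssential p P) → F.autGroup P ≤ E.autGroup P) :
    F ≤ E :=
  le_of_essential_step hS hF fun P _ h _ => hE P h

/-- An essential subgroup is radical. -/
theorem isRadical_of_essential [Finite S] [Fact p.Prime] (hS : IsPGroup p S)
    (hP : F.IsEssential p P) : F.IsRadical p P := by
  obtain ⟨hc, -, hn, Y, hY⟩ := hP
  have := finite_of_le hc.1
  refine ⟨hc.1, le_antisymm ?_ ?_⟩
  · rintro _ ⟨x, hx, rfl⟩
    haveI : (pCore p (F.autGroup P)).Normal := Subgroup.sSup_normal _ fun N hN => hN.1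
    haveI hMn : ((pCore p (F.autGroup P)).map
        (QuotientGroup.mk' ((Inn P).subgroupOf (F.autGroup P)))).Normal :=
      Subgroup.Normal.map inferInstance _ (QuotientGroup.mk'_surjective _)
    have h1 := eq_bot_of_isStronglyPEmbedded hY
      ((CfsgLib.PLocal.isPGroup_pCore p _).map _ :
        IsPGroup p ((pCore p (F.autGroup P)).map
          (QuotientGroup.mk' ((Inn P).subgroupOf (F.autGroup P)))))
    rw [Subgroup.map_eq_bot_iff, QuotientGroup.ker_mk'] at h1
    exact h1 hx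
  · intro α hα
    exact ⟨⟨α, Inn_le_autGroup hc.1 hα⟩, CfsgLib.PLocal.le_pCore (N := (Inn P).subgroupOf _)
      (by rw [Inn_eq]; exact ((isPGroup_autInducedBy (hS.to_le hc.1) P)).comap_subtype) hα, rfl⟩

end CfsgLib.Fusion
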