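import Cfsg.Agent.Fusion.Basic
import Mathlib.GroupTheory.Nilpotent
import Mathlib.GroupTheory.OrderOfElement

/-!
# Saturated fusion systems

Receptive and fully automized subgroups, the extension of isomorphisms, and the equivalent forms of
saturation.
-/

set_option autoImplicit false

namespace CfsgLib.Fusion

open Cfsg Cfsg.FusionSystem

variable {Ω : Type*} [Group Ω] {S : Subgroup Ω} {F : FusionSystem S} {P Q R T : Subgroup Ω}
variable {p : ℕ}

/-! ### Auxiliary facts on finite `p`-groups and Sylow subgroups -/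

/-- A `p`-subgroup is conjugate into any given Sylow subgroup. -/
theorem exists_conj_mem_sylow {A : Type*} [Group A] [Finite A] [Fact p.Prime] (T : Sylow p A)
    {X : Subgroup A} (hX : IsPGroup p X) :
    ∃ a : A, ∀ x ∈ X, a * x * a⁻¹ ∈ (T : Subgroup A) := by
  obtain ⟨T', hT'⟩ := hX.exists_le_sylow
  obtain ⟨a, ha⟩ := MulAction.exists_smul_eq A T' T
  refine ⟨a, fun x hx => ?_⟩
  rw [← ha, Sylow.coe_subgroup_smul]
  exact Subgroup.mem_pointwise_smul_iff_inv_smul_mem.2 (by simpa [mul_assoc] using hT' hx)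

/-- In a finite `p`-group a proper subgroup is smaller than its normalizer. -/
theorem lt_normalizerIn [Fact p.Prime] [Finite S] (hS : IsPGroup p S) (h : P < S) :
    P < normalizerIn S P := by
  refine lt_of_le_of_ne (le_normalizerIn h.le) fun e => ?_
  haveI : Group.IsNilpotent S := hS.isNilpotent
  have hlt : P.subgroupOf S < ⊤ := lt_of_le_of_ne le_top fun e' =>
    h.not_ge (Subgroup.subgroupOf_eq_top.1 e')
  obtain ⟨g, hgN, hgP⟩ := SetLike.exists_of_lt
    (Group.normalizerCondition_of_isNilpotent (P.subgroupOf S) hlt)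
  have hmem : (g : Ω) ∈ normalizerIn S P := by
    refine Subgroup.mem_inf.2 ⟨g.2, Subgroup.mem_normalizer_iff.2 fun x => ?_⟩
    by_cases hx : x ∈ S
    · exact Subgroup.mem_normalizer_iff.1 hgN ⟨x, hx⟩
    · refine ⟨fun h' => absurd (h.le h') hx, fun h' => absurd ?_ hx⟩
      have := S.mul_mem (S.mul_mem (S.inv_mem g.2) (h.le h')) g.2
      simpa [mul_assoc] using this
  exact hgP (e.symm ▸ hmem : (g : Ω) ∈ P)

theorem isPGroup_zpowers_of_pow_eq_one {A : Type*} [Group A] {k : ℕ} {a : A}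
    (h : a ^ p ^ k = 1) : IsPGroup p (Subgroup.zpowers a) := by
  rintro ⟨b, n, rfl⟩
  refine ⟨k, Subtype.ext ?_⟩
  show (a ^ n) ^ p ^ k = 1
  rw [← zpow_natCast, ← zpow_mul, mul_comm n, zpow_mul, zpow_natCast, h, one_zpow]

theorem isPGroup_autInducedBy {K : Subgroup Ω} (hK : IsPGroup p K) (P : Subgroup Ω) :
    IsPGroup p (autInducedBy K P) := by
  rw [autInducedBy_eq]
  exact (hK.comap_subtype).map _

theorem isPGroup_of_le_S (hS : IsPGroup p S) (h : P ≤ S) : IsPGroup p P := hS.to_le h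

/-! ### Extensions along receptive subgroups -/

/-- An isomorphism onto a receptive subgroup extends to every subgroup of its extender. -/
theorem exists_extension (hP : F.IsReceptive P) {e : Q ≃* P} (he : IsIso F e)
    (hT : T ≤ extender S Q (P.subtype.comp e.toMonoidHom)) :
    ∃ ψ ∈ F.Hom T, ∀ (x : Q) (hx : (x : Ω) ∈ T), ψ ⟨x, hx⟩ = (e x : Ω) := by
  obtain ⟨ψ, hψ, h⟩ := hP.2 Q _ he (range_subtype_comp e)
  exact ⟨restrictHom ψ hT, restrict_mem hψ hT, fun x hx => h x x.2 (hT hx)⟩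

theorem imgHom_eq_of_agree {ψ : T →* Ω} {e : Q ≃* P} (hQT : Q ≤ T)
    (h : ∀ (x : Q) (hx : (x : Ω) ∈ T), ψ ⟨x, hx⟩ = (e x : Ω)) : imgHom ψ Q = P := by
  ext y
  rw [mem_imgHom]
  constructor
  · rintro ⟨x, hx, rfl⟩
    rw [h ⟨x, hx⟩ x.2]
    exact (e _).2
  · intro hy
    refine ⟨⟨e.symm ⟨y, hy⟩, hQT (e.symm ⟨y, hy⟩).2⟩, (e.symm ⟨y, hy⟩).2, ?_⟩
    rw [h (e.symm ⟨y, hy⟩) (hQT (e.symm ⟨y, hy⟩).2), MulEquiv.apply_symm_apply]

/-- A homomorphism carries elements normalizing `Q` to elements normalizing the image of `Q`. -/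
theorem map_mem_normalizer {ψ : T →* Ω} (hQT : Q ≤ T) {g : T}
    (hg : (g : Ω) ∈ Subgroup.normalizer (Q : Set Ω)) :
    ψ g ∈ Subgroup.normalizer (imgHom ψ Q : Set Ω) := by
  rw [Subgroup.mem_normalizer_iff]
  intro y
  constructor
  · rintro ⟨x, hx, rfl⟩
    exact ⟨g * x * g⁻¹, (Subgroup.mem_normalizer_iff.1 hg x).1 hx, by simp⟩
  · rintro ⟨x, hx, hxy⟩
    refine ⟨g⁻¹ * x * g, (Subgroup.mem_normalizer_iff''.1 hg x).1 hx, ?_⟩
    simp [map_mul, map_inv, hxy, mul_assoc]

/-- A homomorphism carries elements centralizing `Q` to elements centralizing the image of `Q`. -/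
theorem map_mem_centralizer {ψ : T →* Ω} (hQT : Q ≤ T) {g : T}
    (hg : (g : Ω) ∈ Subgroup.centralizer (Q : Set Ω)) :
    ψ g ∈ Subgroup.centralizer (imgHom ψ Q : Set Ω) := by
  rw [Subgroup.mem_centralizer_iff]
  rintro y ⟨x, hx, rfl⟩
  rw [← map_mul, ← map_mul]
  exact congrArg ψ (Subtype.ext (Subgroup.mem_centralizer_iff.1 hg x hx))

/-- A receptive subgroup is fully centralized. -/
theorem isFullyCentralized_of_receptive [Finite S] (hP : F.IsReceptive P) :
    F.IsFullyCentralized P := by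
  refine ⟨hP.1, fun Q hQ => ?_⟩
  obtain ⟨e, he⟩ := isConj_iff.1 (isConj_symm hQ)
  have hN : Q ⊔ centralizerIn S Q ≤ extender S Q (P.subtype.comp e.toMonoidHom) :=
    sup_le (le_extender he.le_left (F.le_of_mem he).2) (centralizerIn_le_extender _)
  obtain ⟨ψ, hψ, h⟩ := exists_extension hP he hN
  have himg := imgHom_eq_of_agree le_sup_left h
  haveI := finite_of_le (centralizerIn_le S P)
  refine Nat.card_le_card_of_injective (fun c : centralizerIn S Q =>
    (⟨ψ ⟨c, Subgroup.mem_sup_right c.2⟩, apply_mem hψ _, ?_⟩ : centralizerIn S P)) ?_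
  · have := map_mem_centralizer (ψ := ψ) le_sup_left
      (g := ⟨c, Subgroup.mem_sup_right c.2⟩) c.2.2
    rwa [himg] at this
  · intro a b hab
    exact Subtype.ext (congrArg (fun z : ↥(Q ⊔ centralizerIn S Q) => (z : Ω))
      (F.injective_of_mem hψ (congrArg Subtype.val hab) :))

/-! ### Fully automized subgroups -/

theorem isPGroup_of_automized (hP : F.IsFullyAutomized p P) :
    IsPGroup p (autInducedBy S P) := by
  obtain ⟨T, hT⟩ := hP.2
  exact (hT ▸ T.isPGroup').of_equiv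
    (Subgroup.subgroupOfEquivOfLe (autInducedBy_le_autGroup hP.1))

/-- A `p`-subgroup of `Aut_F(P)` is conjugate into `Aut_S(P)` when `P` is fully automized. -/
theorem exists_conj_autInducedBy [Finite S] [Fact p.Prime] (hP : F.IsFullyAutomized p P)
    {X : Subgroup (MulAut P)} (hXF : X ≤ F.autGroup P) (hX : IsPGroup p X) :
    ∃ α ∈ F.autGroup P, ∀ x ∈ X, α * x * α⁻¹ ∈ autInducedBy S P := by
  haveI := finite_of_le hP.1
  obtain ⟨T, hT⟩ := hP.2
  obtain ⟨a, ha⟩ := exists_conj_mem_sylow T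
    (X := X.subgroupOf (F.autGroup P)) hX.comap_subtype
  refine ⟨a, a.2, fun x hx => ?_⟩
  exact (hT ▸ ha ⟨x, hXF hx⟩ hx :
    a * ⟨x, hXF hx⟩ * a⁻¹ ∈ (autInducedBy S P).subgroupOf (F.autGroup P))

theorem isFullyAutomized_of_maximal [Finite S] [Fact p.Prime] (hP : P ≤ S)
    (hpg : IsPGroup p (autInducedBy S P))
    (hmax : ∀ X : Subgroup (MulAut P), X ≤ F.autGroup P → IsPGroup p X →
      autInducedBy S P ≤ X → X = autInducedBy S P) : F.IsFullyAutomized p P := by
  haveI := finite_of_le hP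
  obtain ⟨T, hT⟩ := IsPGroup.exists_le_sylow
    (P := (autInducedBy S P).subgroupOf (F.autGroup P)) hpg.comap_subtype
  refine ⟨hP, T, le_antisymm (fun a ha => ?_) hT⟩
  have h := hmax ((T : Subgroup (F.autGroup P)).map (F.autGroup P).subtype)
    (Subgroup.map_subtype_le _) (T.isPGroup'.map _) (fun x hx =>
      ⟨⟨x, autInducedBy_le_autGroup hP hx⟩, hT hx, rfl⟩)
  exact Subgroup.mem_subgroupOf.2 (h ▸ ⟨a, ha, rfl⟩ : (a : MulAut P) ∈ autInducedBy S P)

theorem eq_autInducedBy_of_le [Finite S] [Fact p.Prime] (hP : F.IsFullyAutomized p P)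
    {X : Subgroup (MulAut P)} (hXF : X ≤ F.autGroup P) (hX : IsPGroup p X)
    (hle : autInducedBy S P ≤ X) : X = autInducedBy S P := by
  obtain ⟨T, hT⟩ := hP.2
  refine le_antisymm (fun x hx => ?_) hle
  have h := T.is_maximal' (Q := X.subgroupOf (F.autGroup P)) hX.comap_subtype
    (hT ▸ fun a ha => hle ha)
  exact (hT ▸ h ▸ hx : (⟨x, hXF hx⟩ : F.autGroup P) ∈ (autInducedBy S P).subgroupOf _)

theorem congr_trans {P Q R : Subgroup Ω} (e : P ≃* Q) (e' : Q ≃* R) (β : MulAut P) :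
    MulAut.congr (e.trans e') β = MulAut.congr e' (MulAut.congr e β) := by
  ext x; simp [MulAut.congr]

theorem congr_self_eq (α β : MulAut P) : MulAut.congr α β = α * β * α⁻¹ :=
  MulEquiv.ext fun _ => rfl

theorem congr_apply {A B : Type*} [Group A] [Group B] {e : A ≃* B} (β : MulAut A) (x : A) :
    MulAut.congr e β (e x) = e (β x) := by
  simp [MulAut.congr]

/-- The elements whose transported action lies in `Aut_S(Q)` lie in the extender. -/
theorem mem_extender_of_congr {e : P ≃* Q} {g : Ω} (hg : g ∈ normalizerIn S P)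
    {α : MulAut P} (hα : ∀ x : P, (α x : Ω) = g * x * g⁻¹)
    (h : MulAut.congr e α ∈ autInducedBy S Q) :
    g ∈ extender S P (Q.subtype.comp e.toMonoidHom) := by
  obtain ⟨k, hk, -, hkα⟩ := mem_autInducedBy_iff.1 h
  refine mem_extender_iff.2 ⟨hg.1, hg.2, k, hk, fun x hx => ?_⟩
  have := hkα (e x)
  rw [congr_apply] at this
  simp only [MonoidHom.coe_comp, MulEquiv.coe_toMonoidHom, Subgroup.coe_subtype,
    Function.comp_apply]
  rw [show (⟨g * x * g⁻¹, hx⟩ : P) = α x from Subtype.ext (hα x).symm]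
  exact this

/-- If the extender of an isomorphism contains `g`, its transported action is induced by `S`. -/
theorem congr_mem_of_mem_extender {e : P ≃* Q} {g : Ω}
    (hg : g ∈ extender S P (Q.subtype.comp e.toMonoidHom))
    {α : MulAut P} (hα : ∀ x : P, (α x : Ω) = g * x * g⁻¹) :
    MulAut.congr e α ∈ autInducedBy S Q := by
  obtain ⟨-, -, k, hk, hkα⟩ := mem_extender_iff.1 hg
  refine Subgroup.subset_closure ⟨k, hk, fun y => ?_⟩
  obtain ⟨x, rfl⟩ := e.surjective y
  rw [congr_apply]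
  have hx : g * (x : Ω) * g⁻¹ ∈ P := hα x ▸ (α x).2
  have := hkα x hx
  rw [show (⟨g * x * g⁻¹, hx⟩ : P) = α x from Subtype.ext (hα x).symm] at this
  exact this

/-- An isomorphism onto a fully automized subgroup can be corrected by an automorphism so that it
carries `Aut_S(Q)` into `Aut_S(P)`. -/
theorem exists_iso_congr_le [Finite S] [Fact p.Prime] (hS : IsPGroup p S)
    (hP : F.IsFullyAutomized p P) {e : Q ≃* P} (he : IsIso F e) :
    ∃ α ∈ F.autGroup P, ∀ β ∈ autInducedBy S Q,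
      MulAut.congr (e.trans α) β ∈ autInducedBy S P := by
  obtain ⟨α, hα, h⟩ := exists_conj_autInducedBy hP
    (X := (autInducedBy S Q).map (MulAut.congr e).toMonoidHom)
    (by
      rintro _ ⟨β, hβ, rfl⟩
      exact congr_mem_autGroup he (autInducedBy_le_autGroup he.le_left hβ))
    ((isPGroup_autInducedBy hS Q).map _)
  refine ⟨α, hα, fun β hβ => ?_⟩
  rw [congr_trans, congr_self_eq]
  exact h _ ⟨β, hβ, rfl⟩

/-- A conjugate of a fully automized receptive subgroup maps with its normalizer into the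
normalizer of that subgroup. -/
theorem exists_map_normalizerIn [Finite S] [Fact p.Prime] (hS : IsPGroup p S)
    (h₁ : F.IsFullyAutomized p P) (h₂ : F.IsReceptive P) (hQ : F.IsConj Q P) :
    ∃ φ ∈ F.Hom (normalizerIn S Q), (∀ x, φ x ∈ normalizerIn S P) ∧
      imgHom φ Q = P := by
  obtain ⟨e, he⟩ := isConj_iff.1 hQ
  obtain ⟨α, hα, h⟩ := exists_iso_congr_le hS h₁ he
  have he' : IsIso F (e.trans α) := he.trans ((mem_autGroup_iff h₁.1).1 hα)
  obtain ⟨ψ, hψ, hext⟩ := exists_extension (T := normalizerIn S Q) h₂ he' fun g hg =>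
    mem_extender_of_congr hg (α := Q.normalizerMonoidHom ⟨g, hg.2⟩) (fun _ => rfl)
      (h _ (mem_autInducedBy_iff.2 ⟨g, hg.1, hg.2, fun _ => rfl⟩))
  have himg := imgHom_eq_of_agree (le_normalizerIn he.le_left) hext
  refine ⟨ψ, hψ, fun x => Subgroup.mem_inf.2 ⟨apply_mem hψ x, ?_⟩, himg⟩
  have := map_mem_normalizer (ψ := ψ) (le_normalizerIn he.le_left) (g := x) x.2.2
  rwa [himg] at this

theorem card_normalizerIn_le [Finite S] {φ : normalizerIn S Q →* Ω}
    (hφ : φ ∈ F.Hom (normalizerIn S Q)) (h : ∀ x, φ x ∈ normalizerIn S P) :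
    Nat.card (normalizerIn S Q) ≤ Nat.card (normalizerIn S P) := by
  haveI := finite_of_le (normalizerIn_le S P)
  exact Nat.card_le_card_of_injective (fun x => (⟨φ x, h x⟩ : normalizerIn S P))
    fun a b hab => F.injective_of_mem hφ (congrArg Subtype.val hab)

/-- A fully automized receptive subgroup is fully normalized. -/
theorem isFullyNormalized_of_automized_receptive [Finite S] [Fact p.Prime] (hS : IsPGroup p S)
    (h₁ : F.IsFullyAutomized p P) (h₂ : F.IsReceptive P) : F.IsFullyNormalized P := by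
  refine ⟨h₁.1, fun Q hQ => ?_⟩
  obtain ⟨φ, hφ, hmem, -⟩ := exists_map_normalizerIn hS h₁ h₂ (isConj_symm hQ)
  exact card_normalizerIn_le hφ hmem

/-! ### Transport along an isomorphism of the normalizers -/

theorem congr_mem_autInducedBy (hP : P ≤ S) {e : P ≃* Q} {E : normalizerIn S P ≃* normalizerIn S Q}
    (hcompat : ∀ (x : P) (hx : (x : Ω) ∈ normalizerIn S P), (E ⟨x, hx⟩ : Ω) = e x)
    {β : MulAut P} (hβ : β ∈ autInducedBy S P) : MulAut.congr e β ∈ autInducedBy S Q := by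
  obtain ⟨g, hgS, hgN, hg⟩ := mem_autInducedBy_iff.1 hβ
  have hgm : g ∈ normalizerIn S P := ⟨hgS, hgN⟩
  refine Subgroup.subset_closure ⟨E ⟨g, hgm⟩, (E ⟨g, hgm⟩).2.1, fun y => ?_⟩
  obtain ⟨x, rfl⟩ := e.surjective y
  rw [congr_apply]
  have hP' : P ≤ normalizerIn S P := le_normalizerIn hP
  rw [← hcompat (β x) (hP' (β x).2), ← hcompat x (hP' x.2)]
  simp only [← Subgroup.coe_inv, ← Subgroup.coe_mul, ← map_inv, ← map_mul]
  exact congrArg (fun z => (E z : Ω)) (Subtype.ext (hg x))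

/-- Full automization pulls back along an isomorphism of normalizers. -/
theorem isFullyAutomized_of_normalizer_iso [Finite S] [Fact p.Prime] (hS : IsPGroup p S)
    {e : P ≃* Q} (he : IsIso F e) {E : normalizerIn S P ≃* normalizerIn S Q}
    (hcompat : ∀ (x : P) (hx : (x : Ω) ∈ normalizerIn S P), (E ⟨x, hx⟩ : Ω) = e x)
    (hQ : F.IsFullyAutomized p Q) : F.IsFullyAutomized p P := by
  refine isFullyAutomized_of_maximal he.le_left (isPGroup_autInducedBy hS P)
    fun X hXF hX hle => le_antisymm (fun x hx => ?_) hle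
  have hsymm : ∀ (y : Q) (hy : (y : Ω) ∈ normalizerIn S Q),
      (E.symm ⟨y, hy⟩ : Ω) = e.symm y := by
    intro y hy
    have h1 := hcompat (e.symm y) (le_normalizerIn he.le_left (e.symm y).2)
    rw [MulEquiv.apply_symm_apply] at h1
    exact congrArg Subtype.val ((MulEquiv.symm_apply_eq E).2 (Subtype.ext h1.symm : (⟨y, hy⟩ : normalizerIn S Q) = E ⟨e.symm y, le_normalizerIn he.le_left (e.symm y).2⟩))
  have h := eq_autInducedBy_of_le hQ (X := X.map (MulAut.congr e).toMonoidHom)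
    (by
      rintro _ ⟨β, hβ, rfl⟩
      exact congr_mem_autGroup he (hXF hβ))
    (hX.map _) fun β hβ =>
      ⟨MulAut.congr e.symm β, hle (congr_mem_autInducedBy he.le_right (e := e.symm) hsymm hβ),
        (MulAut.congr e).apply_symm_apply β⟩
  have h2 : MulAut.congr e x ∈ autInducedBy S Q := h ▸ ⟨x, hx, rfl⟩
  have h3 := congr_mem_autInducedBy he.le_right (e := e.symm) hsymm h2
  rwa [show MulAut.congr e.symm (MulAut.congr e x) = x from
    (MulAut.congr e).symm_apply_apply x] at h3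

/-- Receptivity pulls back along an isomorphism of the system defined on the normalizer. -/
theorem isReceptive_of_normalizer_iso
    {e : P ≃* Q} (he : IsIso F e) {E : normalizerIn S P ≃* normalizerIn S Q} (hE : IsIso F E)
    (hcompat : ∀ (x : P) (hx : (x : Ω) ∈ normalizerIn S P), (E ⟨x, hx⟩ : Ω) = e x)
    (hQ : F.IsReceptive Q) : F.IsReceptive P := by
  refine ⟨he.le_left, fun R φ hφ hr => ?_⟩
  obtain ⟨f, hf, hfφ⟩ := exists_iso hφ hr
  have hφe : φ = P.subtype.comp f.toMonoidHom := MonoidHom.ext fun x => (hfφ x).symm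
  have hR := hf.le_left
  have hle : extender S R φ ≤ extender S R (Q.subtype.comp (f.trans e).toMonoidHom) := by
    intro g hg
    have hgN : g ∈ normalizerIn S R := extender_le_normalizerIn φ hg
    refine mem_extender_of_congr hgN (α := R.normalizerMonoidHom ⟨g, hgN.2⟩) (fun _ => rfl) ?_
    rw [congr_trans]
    exact congr_mem_autInducedBy he.le_left hcompat
      (congr_mem_of_mem_extender (hφe ▸ hg) (α := R.normalizerMonoidHom ⟨g, hgN.2⟩) fun _ => rfl)
  obtain ⟨θ, hθ, hθx⟩ := exists_extension hQ (hf.trans he) hle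
  have himg := imgHom_eq_of_agree (le_extender hR (fun x => apply_mem hφ x)) hθx
  have hθmem : ∀ x, θ x ∈ normalizerIn S Q := fun x => by
    refine Subgroup.mem_inf.2 ⟨apply_mem hθ x, ?_⟩
    have := map_mem_normalizer (ψ := θ) (le_extender hR (fun x => apply_mem hφ x)) (g := x)
      (extender_le_normalizerIn φ x.2).2
    rwa [himg] at this
  refine ⟨_, F.comp_mem hθ (hE.symm) hθmem, fun x hx hN => ?_⟩
  have h1 : θ ⟨x, hN⟩ = (e (f ⟨x, hx⟩) : Ω) := hθx ⟨x, hx⟩ hN
  have h2 := hcompat (f ⟨x, hx⟩) (le_normalizerIn he.le_left (f ⟨x, hx⟩).2)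
  show (E.symm ⟨θ ⟨x, hN⟩, hθmem _⟩ : Ω) = φ ⟨x, hx⟩
  rw [← hfφ ⟨x, hx⟩]
  exact congrArg Subtype.val ((MulEquiv.symm_apply_eq E).2 (Subtype.ext (h1.trans h2.symm) : (⟨θ ⟨x, hN⟩, hθmem _⟩ : normalizerIn S Q) = E ⟨f ⟨x, hx⟩, le_normalizerIn he.le_left (f ⟨x, hx⟩).2⟩))

/-! ### Fully normalized and fully centralized subgroups of a saturated system -/

/-- In a saturated system a fully normalized subgroup is fully automized and receptive. -/
theorem automized_receptive [Finite S] [Fact p.Prime] (hS : IsPGroup p S)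
    (hF : F.IsSaturated p) (hP : F.IsFullyNormalized P) :
    F.IsFullyAutomized p P ∧ F.IsReceptive P := by
  obtain ⟨Q, hPQ, hQa, hQr⟩ := hF P hP.1
  obtain ⟨ψ, hψ, hmem, himg⟩ := exists_map_normalizerIn hS hQa hQr hPQ
  haveI := finite_of_le (normalizerIn_le S Q)
  have hle : ψ.range ≤ normalizerIn S Q := by
    rintro _ ⟨x, rfl⟩
    exact hmem x
  have hr : ψ.range = normalizerIn S Q := by
    refine Subgroup.eq_of_le_of_card_ge hle ?_
    rw [← imgHom_self, card_imgHom (F.injective_of_mem hψ) le_rfl]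
    exact hP.2 Q hPQ
  obtain ⟨E, hE, hEψ⟩ := exists_iso hψ hr
  obtain ⟨e, he, heψ⟩ := exists_iso (restrict_mem hψ (le_normalizerIn hP.1))
    ((range_restrictHom ψ _).trans himg)
  have hcompat : ∀ (x : P) (hx : (x : Ω) ∈ normalizerIn S P), (E ⟨x, hx⟩ : Ω) = e x :=
    fun x hx => (hEψ _).trans (heψ x).symm
  exact ⟨isFullyAutomized_of_normalizer_iso hS he hcompat hQa,
    isReceptive_of_normalizer_iso he hE hcompat hQr⟩

theorem fullyCentralized_of_normalized [Finite S] [Fact p.Prime] (hS : IsPGroup p S)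
    (hF : F.IsSaturated p) (hP : F.IsFullyNormalized P) : F.IsFullyCentralized P :=
  isFullyCentralized_of_receptive (automized_receptive hS hF hP).2

/-- In a saturated system a fully centralized subgroup is receptive. -/
theorem receptive_of_fullyCentralized [Finite S] [Fact p.Prime] (hS : IsPGroup p S)
    (hF : F.IsSaturated p) (hP : F.IsFullyCentralized P) : F.IsReceptive P := by
  obtain ⟨Q, hPQ, hQa, hQr⟩ := hF P hP.1
  obtain ⟨η, hη, -, himgP⟩ := exists_map_normalizerIn hS hQa hQr hPQ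
  obtain ⟨e, he, heη⟩ := exists_iso (restrict_mem hη (le_normalizerIn hP.1))
    ((range_restrictHom η _).trans himgP)
  have hC : imgHom η (centralizerIn S P) = centralizerIn S Q := by
    have := finite_of_le (centralizerIn_le S Q)
    refine Subgroup.eq_of_le_of_card_ge ?_ ?_
    · rintro _ ⟨c, hc, rfl⟩
      have := map_mem_centralizer (ψ := η) (le_normalizerIn hP.1) (g := c)
        (Subgroup.mem_inf.1 hc).2
      rw [himgP] at this
      exact Subgroup.mem_inf.2 ⟨apply_mem hη c, this⟩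
    · rw [card_imgHom (F.injective_of_mem hη) (centralizerIn_le_normalizerIn S P)]
      exact hP.2 Q hPQ
  obtain ⟨E, hE, hEη⟩ := exists_iso_range hη
  refine ⟨hP.1, fun R φ hφ hr => ?_⟩
  obtain ⟨f, hf, hfφ⟩ := exists_iso hφ hr
  have hφe : φ = P.subtype.comp f.toMonoidHom := MonoidHom.ext fun x => (hfφ x).symm
  -- the action of an element of the extender, transported to `Q`
  have key : ∀ g ∈ extender S R φ, ∃ k : normalizerIn S P,
      ∀ (x : R) (hx : g * (x : Ω) * g⁻¹ ∈ R),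
        (e (f ⟨_, hx⟩) : Ω) = η k * (e (f x) : Ω) * (η k)⁻¹ := by
    intro g hg
    have hgN : g ∈ normalizerIn S R := extender_le_normalizerIn φ hg
    obtain ⟨k, hkS, hkN, hk⟩ := mem_autInducedBy_iff.1
      (congr_mem_of_mem_extender (hφe ▸ hg) (α := R.normalizerMonoidHom ⟨g, hgN.2⟩) fun _ => rfl)
    refine ⟨⟨k, hkS, hkN⟩, fun x hx => ?_⟩
    have h1 := hk (f x)
    rw [congr_apply] at h1
    have h2 : (f ⟨_, hx⟩ : Ω) = k * (f x : Ω) * k⁻¹ := h1
    rw [heη, heη, restrictHom_apply, restrictHom_apply, ← map_inv, ← map_mul, ← map_mul]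
    exact congrArg η (Subtype.ext h2)
  have hle : extender S R φ ≤ extender S R (Q.subtype.comp (f.trans e).toMonoidHom) := fun g hg => by
    obtain ⟨k, hk⟩ := key g hg
    exact mem_extender_iff.2 ⟨(mem_extender_iff.1 hg).1, (mem_extender_iff.1 hg).2.1, η k,
      apply_mem hη k, fun x hx => hk x hx⟩
  obtain ⟨θ, hθ, hθx⟩ := exists_extension hQr (hf.trans he) hle
  have hRN : R ≤ extender S R φ := le_extender hf.le_left fun x => apply_mem hφ x
  have hmem : ∀ x, θ x ∈ η.range := by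
    rintro ⟨g, hg⟩
    obtain ⟨k, hk⟩ := key g hg
    have hc : (η k)⁻¹ * θ ⟨g, hg⟩ ∈ centralizerIn S Q := by
      refine mem_centralizerIn'.2
        ⟨S.mul_mem (S.inv_mem (apply_mem hη k)) (apply_mem hθ _), fun y hy => ?_⟩
      obtain ⟨x, hx⟩ := (f.trans e).surjective ⟨y, hy⟩
      have hgx : g * (x : Ω) * g⁻¹ ∈ R :=
        (Subgroup.mem_normalizer_iff.1 (mem_extender_iff.1 hg).2.1 x).1 x.2
      have hy' : y = (e (f x) : Ω) := (congrArg Subtype.val hx).symm
      have h3 : θ ⟨g, hg⟩ * y * (θ ⟨g, hg⟩)⁻¹ = η k * y * (η k)⁻¹ := by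
        rw [hy', ← hk x hgx]
        have e1 : θ ⟨x, hRN x.2⟩ = (e (f x) : Ω) := hθx x _
        have e2 : θ ⟨g * x * g⁻¹, hRN hgx⟩ = (e (f ⟨_, hgx⟩) : Ω) := hθx ⟨_, hgx⟩ _
        rw [← e1, ← e2, ← map_inv, ← map_mul, ← map_mul]
        rfl
      calc _ = (η k)⁻¹ * (θ ⟨g, hg⟩ * y * (θ ⟨g, hg⟩)⁻¹) * η k := by
            simp [mul_assoc]
        _ = y := by rw [h3]; simp [mul_assoc]
    rw [← hC] at hc
    obtain ⟨c, -, hc⟩ := hc
    exact ⟨k * c, by rw [map_mul, hc, mul_inv_cancel_left]⟩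
  refine ⟨_, F.comp_mem hθ hE.symm hmem, fun x hx hN => ?_⟩
  show (E.symm ⟨θ ⟨x, hN⟩, hmem _⟩ : Ω) = φ ⟨x, hx⟩
  rw [← hfφ ⟨x, hx⟩]
  exact congrArg Subtype.val ((MulEquiv.symm_apply_eq E).2
    (Subtype.ext ((hθx ⟨x, hx⟩ hN).trans ((heη _).trans (hEη _).symm)) :
      (⟨θ ⟨x, hN⟩, hmem _⟩ : η.range) = E ⟨f ⟨x, hx⟩, le_normalizerIn hP.1 (f ⟨x, hx⟩).2⟩))

/-- If `S` is fully automized and every fully normalized subgroup is receptive, then every fully
normalized subgroup is fully automized. -/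
theorem automized_of_receptive [Finite S] [Fact p.Prime] (hS : IsPGroup p S)
    (hA : F.IsFullyAutomized p S) (hR : ∀ P : Subgroup Ω, F.IsFullyNormalized P → F.IsReceptive P)
    (hP : F.IsFullyNormalized P) : F.IsFullyAutomized p P := by
  induction hd : Nat.card S - Nat.card P using Nat.strong_induction_on generalizing P with
  | _ d ih =>
  rcases hP.1.eq_or_lt with rfl | hlt
  · exact hA
  have hPN : P < normalizerIn S P := lt_normalizerIn hS hlt
  have hNS := normalizerIn_le S P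
  have hfP := finite_of_le hP.1
  have hfN := finite_of_le hNS
  refine isFullyAutomized_of_maximal hP.1 (isPGroup_autInducedBy hS P) fun X hXF hX hle => ?_
  by_contra hne
  obtain ⟨α, hα, hαA⟩ :=
    SetLike.exists_of_lt (lt_normalizerIn hX (lt_of_le_of_ne hle fun h => hne h.symm))
  have hαX : α ∈ X := (Subgroup.mem_inf.1 hα).1
  have hαN : α ∈ Subgroup.normalizer (autInducedBy S P : Set (MulAut P)) :=
    (Subgroup.mem_inf.1 hα).2
  have hαI : IsIso F α := (mem_autGroup_iff hP.1).1 (hXF hαX)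
  -- `α` extends to the normalizer
  obtain ⟨ψ, hψ, hψx⟩ := exists_extension (T := normalizerIn S P) (hR P hP) hαI fun g hg =>
    mem_extender_of_congr hg (α := P.normalizerMonoidHom ⟨g, hg.2⟩) (fun _ => rfl)
      (congr_self_eq α _ ▸ (Subgroup.mem_normalizer_iff.1 hαN _).1
        (mem_autInducedBy_iff.2 ⟨g, hg.1, hg.2, fun _ => rfl⟩))
  have hPle := le_normalizerIn hP.1
  have himg := imgHom_eq_of_agree hPle hψx
  have hr : ψ.range = normalizerIn S P := by
    refine Subgroup.eq_of_le_of_card_ge ?_ ?_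
    · rintro _ ⟨x, rfl⟩
      have := map_mem_normalizer (ψ := ψ) hPle (g := x) x.2.2
      rw [himg] at this
      exact Subgroup.mem_inf.2 ⟨apply_mem hψ x, this⟩
    · rw [← imgHom_self, card_imgHom (F.injective_of_mem hψ) le_rfl]
  obtain ⟨β, hβ, hβψ⟩ := exists_iso hψ hr
  have hpow : ∀ (k : ℕ) (x : P) (hx : (x : Ω) ∈ normalizerIn S P),
      (((β : MulAut (normalizerIn S P)) ^ k) ⟨x, hx⟩ : Ω) = ((α : MulAut P) ^ k) x := by
    intro k
    induction k with
    | zero => intro x hx; rfl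
    | succ k ihk =>
      intro x hx
      rw [pow_succ, pow_succ, MulAut.mul_apply, MulAut.mul_apply, ← ihk (α x) (hPle (α x).2)]
      refine congrArg (fun z => (((β : MulAut (normalizerIn S P)) ^ k) z : Ω)) (Subtype.ext ?_)
      exact (hβψ _).trans (hψx x hx)
  -- pass to a `p`-element
  obtain ⟨a, m, hm, hord⟩ := Nat.exists_eq_pow_mul_and_not_dvd
    (orderOf_pos (β : MulAut (normalizerIn S P))).ne' p (Fact.out : p.Prime).ne_one
  obtain ⟨j, hj⟩ := (hX.exists_orderOf_dvd_pow ⟨α, hαX⟩ : ∃ j, orderOf (⟨α, hαX⟩ : X) ∣ p ^ j)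
  have hcop : m.Coprime (orderOf α) := by
    rw [show orderOf α = orderOf (⟨α, hαX⟩ : X) from
      orderOf_injective X.subtype X.subtype_injective ⟨α, hαX⟩]
    exact Nat.Coprime.coprime_dvd_right hj
      (((Fact.out : p.Prime).coprime_iff_not_dvd.2 hm).pow_left j).symm
  have hβm : IsIso F ((β : MulAut (normalizerIn S P)) ^ m) :=
    (mem_autGroup_iff hNS).1 (Subgroup.pow_mem _ ((mem_autGroup_iff hNS).2 hβ) m)
  have hβmp : ((β : MulAut (normalizerIn S P)) ^ m) ^ p ^ a = 1 := by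
    rw [← pow_mul, Nat.mul_comm m, ← hord, pow_orderOf_eq_one]
  obtain ⟨N', hN', hN'n⟩ := exists_fullyNormalized (F := F) hNS
  have hlt' : Nat.card S - Nat.card N' < d := by
    have h1 : Nat.card P < Nat.card (normalizerIn S P) :=
      Set.Finite.card_lt_card (Set.toFinite _) hPN
    have h2 := card_eq_of_isConj hN'
    have h3 : Nat.card (normalizerIn S P) ≤ Nat.card S :=
      Nat.card_le_card_of_injective _ (Subgroup.inclusion_injective hNS)
    omega
  have hA' := ih _ hlt' hN'n rfl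
  obtain ⟨θ, hθ⟩ := isConj_iff.1 hN'
  obtain ⟨γ, hγ, hγc⟩ := exists_conj_autInducedBy hA'
    (X := Subgroup.zpowers (MulAut.congr θ ((β : MulAut (normalizerIn S P)) ^ m)))
    (Subgroup.zpowers_le.2 (congr_mem_autGroup hθ ((mem_autGroup_iff hNS).2 hβm)))
    (isPGroup_zpowers_of_pow_eq_one (k := a) (by rw [← map_pow, hβmp, map_one]))
  have hθ' : IsIso F (θ.trans γ) := hθ.trans ((mem_autGroup_iff hθ.le_right).1 hγ)
  have hc : MulAut.congr (θ.trans γ) ((β : MulAut (normalizerIn S P)) ^ m) ∈ autInducedBy S N' := by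
    rw [congr_trans, congr_self_eq]
    exact hγc _ (Subgroup.mem_zpowers _)
  obtain ⟨s, hsS, hsN, hs⟩ := mem_autInducedBy_iff.1 hc
  generalize hη : θ.trans γ = η at hθ' hc hs
  -- the image of `P`
  let P' := imgHom (N'.subtype.comp η.toMonoidHom) P
  have hPconj : F.IsConj P P' := isConj_restrict hθ' hPle
  have hbound : Nat.card (normalizerIn S P') ≤ Nat.card N' :=
    (hP.2 P' hPconj).trans hθ'.card_eq.le
  have hN'le : N' ≤ normalizerIn S P' := by
    intro y hy
    obtain ⟨x, hx⟩ := η.surjective ⟨y, hy⟩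
    refine Subgroup.mem_inf.2 ⟨hθ'.le_right hy, ?_⟩
    have := map_mem_normalizer (ψ := N'.subtype.comp η.toMonoidHom) hPle (g := x) x.2.2
    simp only [MonoidHom.coe_comp, MulEquiv.coe_toMonoidHom, Subgroup.coe_subtype,
      Function.comp_apply, hx] at this
    exact this
  have hfP' := finite_of_le (normalizerIn_le S P')
  have hNeq : N' = normalizerIn S P' := Subgroup.eq_of_le_of_card_ge hN'le hbound
  have hval : ∀ (x : P), (η ⟨((α : MulAut P) ^ m) x, hPle (((α : MulAut P) ^ m) x).2⟩ : Ω) =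
      s * (η ⟨x, hPle x.2⟩ : Ω) * s⁻¹ := by
    intro x
    rw [← hs, congr_apply]
    exact congrArg (fun z => (η z : Ω)) (Subtype.ext (hpow m x (hPle x.2)).symm)
  have hsP' : s ∈ Subgroup.normalizer (P' : Set Ω) := by
    rw [Subgroup.mem_normalizer_iff]
    intro y
    constructor
    · rintro ⟨x, hx, rfl⟩
      refine ⟨⟨_, hPle (((α : MulAut P) ^ m) ⟨x, hx⟩).2⟩,
        (((α : MulAut P) ^ m) ⟨x, hx⟩).2, ?_⟩
      exact hval ⟨x, hx⟩
    · rintro ⟨x, hx, hxy⟩
      obtain ⟨z, hz⟩ := ((α : MulAut P) ^ m).surjective ⟨x, hx⟩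
      refine ⟨⟨z, hPle z.2⟩, z.2, ?_⟩
      have := hval z
      rw [show (⟨(((α : MulAut P) ^ m) z : Ω), hPle (((α : MulAut P) ^ m) z).2⟩ :
        normalizerIn S P) = x from Subtype.ext (congrArg (fun w : P => (w : Ω)) hz :)] at this
      exact mul_left_cancel (mul_right_cancel (this.symm.trans hxy))
  have hsmem : s ∈ N' := hNeq ▸ (⟨hsS, hsP'⟩ : s ∈ normalizerIn S P')
  obtain ⟨n₀, hn₀⟩ := η.surjective ⟨s, hsmem⟩
  have hαm : (α : MulAut P) ^ m ∈ autInducedBy S P := by
    refine Subgroup.subset_closure ⟨n₀, hNS n₀.2, fun x => ?_⟩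
    have h1 : η ⟨((α : MulAut P) ^ m) x, hPle (((α : MulAut P) ^ m) x).2⟩ =
        η (n₀ * ⟨x, hPle x.2⟩ * n₀⁻¹) := by
      rw [map_mul, map_mul, map_inv, hn₀]
      exact Subtype.ext (hval x)
    exact congrArg Subtype.val (η.injective h1)
  obtain ⟨l, hl⟩ := exists_pow_eq_self_of_coprime hcop
  exact hαA (hl ▸ Subgroup.pow_mem _ hαm l)

/-- Saturation from receptivity of fully normalized subgroups. -/
theorem isSaturated_of_receptive [Finite S] [Fact p.Prime] (hS : IsPGroup p S)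
    (hA : F.IsFullyAutomized p S)
    (hR : ∀ P : Subgroup Ω, F.IsFullyNormalized P → F.IsReceptive P) : F.IsSaturated p := by
  intro P hP
  obtain ⟨Q, hPQ, hQ⟩ := exists_fullyNormalized (F := F) hP
  exact ⟨Q, hPQ, automized_of_receptive hS hA hR hQ, hR Q hQ⟩

/-- A fully centralized subgroup containing its centralizer in `S` is centric. -/
theorem isCentric_of_fullyCentralized [Finite S] [Fact p.Prime] (hS : IsPGroup p S)
    (hF : F.IsSaturated p) (hP : F.IsFullyCentralized P) (hC : centralizerIn S P ≤ P) :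
    F.IsCentric P := by
  refine ⟨hP.1, fun Q hQ => ?_⟩
  obtain ⟨e, he⟩ := isConj_iff.1 (isConj_symm hQ)
  obtain ⟨ψ, hψ, h⟩ := exists_extension (T := Q ⊔ centralizerIn S Q)
    (receptive_of_fullyCentralized hS hF hP) he
    (sup_le (le_extender he.le_left (F.le_of_mem he).2) (centralizerIn_le_extender _))
  have himg := imgHom_eq_of_agree le_sup_left h
  intro c hc
  have h1 : ψ ⟨c, Subgroup.mem_sup_right hc⟩ ∈ P := hC (Subgroup.mem_inf.2 ⟨apply_mem hψ _, by
    have := map_mem_centralizer (ψ := ψ) le_sup_left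
      (g := ⟨c, Subgroup.mem_sup_right hc⟩) hc.2
    rwa [himg] at this⟩)
  rw [← himg] at h1
  exact (mem_imgHom_apply_iff (F.injective_of_mem hψ)).1 h1

end CfsgLib.Fusion
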