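import Cfsg.Agent.Fusion.Sylow

/-!
# Fusion systems realized by finite groups

If `F` is realized by `ι : S →* G` with image a Sylow `p`-subgroup, then `F` is saturated, and a
subgroup is fully normalized iff the corresponding normalizer meets the image in a Sylow subgroup.
-/

set_option autoImplicit false

namespace CfsgLib.Fusion

open Cfsg Cfsg.FusionSystem

variable {Ω : Type*} [Group Ω] {S : Subgroup Ω} {F : FusionSystem S} {P Q : Subgroup Ω}
variable {G : Type*} [Group G] {ι : S →* G} {p : ℕ}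

/-- The image in `G` of a subgroup of `S`. -/
def im (ι : S →* G) (P : Subgroup Ω) : Subgroup G := (P.subgroupOf S).map ι

theorem mem_im {y : G} : y ∈ im ι P ↔ ∃ x : S, (x : Ω) ∈ P ∧ ι x = y := Iff.rfl

theorem im_self (ι : S →* G) : im ι S = ι.range := by
  rw [im, Subgroup.subgroupOf_self, MonoidHom.range_eq_map]

theorem im_le_range (ι : S →* G) (P : Subgroup Ω) : im ι P ≤ ι.range := Subgroup.map_le_range _ _

theorem im_mono (ι : S →* G) {P Q : Subgroup Ω} (h : P ≤ Q) : im ι P ≤ im ι Q :=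
  Subgroup.map_mono fun _ hx => h hx

theorem apply_mem_im_iff (hι : Function.Injective ι) {x : S} : ι x ∈ im ι P ↔ (x : Ω) ∈ P :=
  Subgroup.mem_map_iff_mem hι

theorem card_im (hι : Function.Injective ι) (hP : P ≤ S) : Nat.card (im ι P) = Nat.card P := by
  rw [im, Subgroup.card_map_of_injective hι]
  exact Nat.card_congr (Subgroup.subgroupOfEquivOfLe hP).toEquiv

theorem eq_of_im_eq (hι : Function.Injective ι) (hP : P ≤ S) (hQ : Q ≤ S)
    (h : im ι P = im ι Q) : P = Q := by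
  ext x
  refine ⟨fun hx => ?_, fun hx => ?_⟩
  · exact (apply_mem_im_iff hι (x := ⟨x, hP hx⟩)).1 (h ▸ (apply_mem_im_iff hι).2 hx)
  · exact (apply_mem_im_iff hι (x := ⟨x, hQ hx⟩)).1 (h.symm ▸ (apply_mem_im_iff hι).2 hx)

theorem exists_im_eq {V : Subgroup G} (hV : V ≤ ι.range) : ∃ Q ≤ S, im ι Q = V :=
  ⟨(V.comap ι).map S.subtype, Subgroup.map_subtype_le _, by
    rw [im, Subgroup.subgroupOf, Subgroup.comap_map_eq_self_of_injective S.subtype_injective,
      Subgroup.map_comap_eq_self hV]⟩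

theorem exists_imEquiv (hι : Function.Injective ι) (hP : P ≤ S) :
    ∃ e : P ≃* im ι P, ∀ x : P, (e x : G) = ι ⟨x, hP x.2⟩ :=
  ⟨(Subgroup.subgroupOfEquivOfLe hP).symm.trans (Subgroup.equivMapOfInjective _ ι hι),
    fun _ => rfl⟩

theorem map_centralizer (f : G ≃* G) (V : Subgroup G) :
    (Subgroup.centralizer (V : Set G)).map f.toMonoidHom =
      Subgroup.centralizer (V.map f.toMonoidHom : Set G) := by
  ext y
  rw [Subgroup.mem_map_equiv, Subgroup.mem_centralizer_iff, Subgroup.mem_centralizer_iff]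
  constructor
  · rintro h _ ⟨x, hx, rfl⟩
    simpa using congrArg f (h x hx)
  · intro h x hx
    simpa using congrArg f.symm (h (f x) ⟨x, hx, rfl⟩)

theorem centralizer_le_normalizer' (V : Subgroup G) :
    Subgroup.centralizer (V : Set G) ≤ Subgroup.normalizer (V : Set G) := fun g hg =>
  (centralizerIn_le_normalizerIn ⊤ V (Subgroup.mem_inf.2 ⟨Subgroup.mem_top g, hg⟩)).2

theorem normalizer_le_normalizer_centralizer' (V : Subgroup G) :
    Subgroup.normalizer (V : Set G) ≤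
      Subgroup.normalizer (Subgroup.centralizer (V : Set G) : Set G) := fun g hg => by
  rw [Subgroup.mem_normalizer_iff_map_conj_eq] at hg ⊢
  exact (map_centralizer (MulAut.conj g) V).trans (congrArg (fun W : Subgroup G =>
    Subgroup.centralizer (W : Set G)) hg)

theorem mem_normalizer_of_conj_mem [Finite G] {V : Subgroup G} {g : G}
    (h : ∀ v ∈ V, g * v * g⁻¹ ∈ V) : g ∈ Subgroup.normalizer (V : Set G) :=
  Subgroup.mem_normalizer_fintype h

theorem im_normalizerIn (hι : Function.Injective ι) (hP : P ≤ S) :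
    im ι (normalizerIn S P) = ι.range ⊓ Subgroup.normalizer (im ι P : Set G) := by
  ext y
  constructor
  · rintro ⟨x, hx, rfl⟩
    have hN := (Subgroup.mem_inf.1 (Subgroup.mem_subgroupOf.1 hx)).2
    refine Subgroup.mem_inf.2 ⟨⟨x, rfl⟩, Subgroup.mem_normalizer_iff.2 fun v => ⟨?_, ?_⟩⟩
    · rintro ⟨z, hz, rfl⟩
      exact ⟨x * z * x⁻¹, (Subgroup.mem_normalizer_iff.1 hN z).1 hz, by simp⟩
    · rintro ⟨z, hz, hzv⟩
      exact ⟨x⁻¹ * z * x, (Subgroup.mem_normalizer_iff''.1 hN z).1 hz,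
        by simp [hzv, mul_assoc]⟩
  · rintro ⟨⟨x, rfl⟩, hN⟩
    refine ⟨x, Subgroup.mem_subgroupOf.2 (Subgroup.mem_inf.2 ⟨x.2,
      Subgroup.mem_normalizer_iff.2 fun z => ⟨fun hz => ?_, fun hz => ?_⟩⟩), rfl⟩
    · have h1 := (Subgroup.mem_normalizer_iff.1 hN (ι ⟨z, hP hz⟩)).1
        ((apply_mem_im_iff hι).2 hz)
      rw [← map_inv, ← map_mul, ← map_mul] at h1
      exact (apply_mem_im_iff hι).1 h1
    · have h1 := (Subgroup.mem_normalizer_iff''.1 hN (ι ⟨_, hP hz⟩)).1
        ((apply_mem_im_iff hι).2 hz)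
      rw [← map_inv, ← map_mul, ← map_mul, apply_mem_im_iff hι] at h1
      simpa [mul_assoc] using h1

theorem im_centralizerIn (hι : Function.Injective ι) (hP : P ≤ S) :
    im ι (centralizerIn S P) = ι.range ⊓ Subgroup.centralizer (im ι P : Set G) := by
  ext y
  constructor
  · rintro ⟨x, hx, rfl⟩
    refine Subgroup.mem_inf.2 ⟨⟨x, rfl⟩, Subgroup.mem_centralizer_iff.2 ?_⟩
    rintro _ ⟨z, hz, rfl⟩
    rw [← map_mul, ← map_mul]
    exact congrArg ι (Subtype.ext ((mem_centralizerIn.1 hx).2 z hz))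
  · rintro ⟨⟨x, rfl⟩, hC⟩
    refine ⟨x, mem_centralizerIn.2 ⟨x.2, fun z hz => ?_⟩, rfl⟩
    have h1 := Subgroup.mem_centralizer_iff.1 hC (ι ⟨z, hP hz⟩) ((apply_mem_im_iff hι).2 hz)
    rw [← map_mul, ← map_mul] at h1
    exact congrArg Subtype.val (hι h1)

/-! ### Maps -/

theorem isIso_iff_conj (hF : F.IsRealizedBy ι) (hP : P ≤ S) (hQ : Q ≤ S) (e : P ≃* Q) :
    IsIso F e ↔ ∃ g : G, ∀ x : P, ι ⟨e x, hQ (e x).2⟩ = g * ι ⟨x, hP x.2⟩ * g⁻¹ :=
  hF.2 P hP (Q.subtype.comp e.toMonoidHom) fun x => hQ (e x).2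

theorem exists_iso_of_conj (hF : F.IsRealizedBy ι) (hP : P ≤ S) (hQ : Q ≤ S) {g : G}
    (h : (im ι P).map (MulAut.conj g).toMonoidHom = im ι Q) :
    ∃ e : P ≃* Q, IsIso F e ∧
      ∀ x : P, ι ⟨e x, hQ (e x).2⟩ = g * ι ⟨x, hP x.2⟩ * g⁻¹ := by
  obtain ⟨eP, hP'⟩ := exists_imEquiv hF.1 hP
  obtain ⟨eQ, hQ'⟩ := exists_imEquiv hF.1 hQ
  let m := ((MulAut.conj g).subgroupMap (im ι P)).trans (MulEquiv.subgroupCongr h)
  have key : ∀ x : P, ι ⟨eQ.symm (m (eP x)), hQ (eQ.symm (m (eP x))).2⟩ =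
      g * ι ⟨x, hP x.2⟩ * g⁻¹ := fun x => by
    rw [← hQ', MulEquiv.apply_symm_apply, ← hP' x]
    rfl
  exact ⟨eP.trans (m.trans eQ.symm), (isIso_iff_conj hF hP hQ _).2 ⟨g, key⟩, key⟩

theorem map_im_of_iso {e : P ≃* Q} (hP : P ≤ S) (hQ : Q ≤ S) {g : G}
    (h : ∀ x : P, ι ⟨e x, hQ (e x).2⟩ = g * ι ⟨x, hP x.2⟩ * g⁻¹) :
    (im ι P).map (MulAut.conj g).toMonoidHom = im ι Q := by
  ext y
  constructor
  · rintro ⟨_, ⟨x, hx, rfl⟩, rfl⟩
    exact ⟨⟨e ⟨x, hx⟩, hQ (e ⟨x, hx⟩).2⟩, (e ⟨x, hx⟩).2, h ⟨x, hx⟩⟩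
  · rintro ⟨x, hx, rfl⟩
    refine ⟨ι ⟨e.symm ⟨x, hx⟩, hP (e.symm ⟨x, hx⟩).2⟩, ⟨_, (e.symm ⟨x, hx⟩).2, rfl⟩, ?_⟩
    show g * _ * g⁻¹ = _
    rw [← h]
    exact congrArg ι (Subtype.ext (by simp))

theorem isConj_iff_conj (hF : F.IsRealizedBy ι) :
    F.IsConj P Q ↔
      P ≤ S ∧ Q ≤ S ∧ ∃ g : G, (im ι P).map (MulAut.conj g).toMonoidHom = im ι Q := by
  constructor
  · intro h
    obtain ⟨e, he⟩ := isConj_iff.1 h
    obtain ⟨g, hg⟩ := (isIso_iff_conj hF he.le_left he.le_right e).1 he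
    exact ⟨he.le_left, he.le_right, g, map_im_of_iso he.le_left he.le_right hg⟩
  · rintro ⟨hP, hQ, g, hg⟩
    obtain ⟨e, he, -⟩ := exists_iso_of_conj hF hP hQ hg
    exact he.isConj

/-! ### Full normalization -/

theorem isPGroup_range_of_sylow (T : Sylow p G) (hT : (T : Subgroup G) = ι.range) :
    IsPGroup p ι.range := hT ▸ T.isPGroup'

theorem exists_conj_isSylowIn_normalizer [Finite G] [Fact p.Prime] {T : Subgroup G}
    (hT : IsSylowIn p ⊤ T) {V : Subgroup G} (hV : IsPGroup p V) :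
    ∃ g : G, V.map (MulAut.conj g).toMonoidHom ≤ T ∧
      IsSylowIn p (Subgroup.normalizer (V.map (MulAut.conj g).toMonoidHom : Set G))
        (T ⊓ Subgroup.normalizer (V.map (MulAut.conj g).toMonoidHom : Set G)) := by
  obtain ⟨K, hKN, hK, hKS⟩ := exists_isSylowIn p (Subgroup.normalizer (V : Set G))
  have hVK : V ≤ K := by
    have h1 : IsPGroup p (K ⊔ V : Subgroup G) := hK.to_sup_of_normal_right' hV hKN
    have h2 := hKS.card_le hKN (sup_le hKN Subgroup.le_normalizer) h1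
    exact (Subgroup.eq_of_le_of_card_ge (le_sup_left : K ≤ K ⊔ V) h2).symm ▸ le_sup_right
  obtain ⟨g, -, hg⟩ := hT.exists_conj le_top hK
  have hle : K.map (MulAut.conj g).toMonoidHom ≤ T := by
    rintro _ ⟨x, hx, rfl⟩
    exact hg x hx
  refine ⟨g, (Subgroup.map_mono hVK).trans hle, ?_⟩
  have hNmap : (Subgroup.normalizer (V : Set G)).map (MulAut.conj g).toMonoidHom =
      Subgroup.normalizer (V.map (MulAut.conj g).toMonoidHom : Set G) :=
    Subgroup.map_equiv_normalizer_eq V (MulAut.conj g)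
  have hK' : IsSylowIn p (Subgroup.normalizer (V.map (MulAut.conj g).toMonoidHom : Set G))
      (K.map (MulAut.conj g).toMonoidHom) := by
    rw [← hNmap, isSylowIn_map_iff (MulAut.conj g).injective hKN]
    exact hKS
  have hle' : K.map (MulAut.conj g).toMonoidHom ≤
      T ⊓ Subgroup.normalizer (V.map (MulAut.conj g).toMonoidHom : Set G) :=
    le_inf hle (hNmap ▸ Subgroup.map_mono hKN)
  exact isSylowIn_of_card_max inf_le_right ((hT.isPGroup le_top).to_le inf_le_left)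
    fun X hX hXp => (hK'.card_le (hle'.trans inf_le_right) hX hXp).trans
      (Subgroup.card_le_of_le hle')

theorem isSylowIn_inf_centralizer [Finite G] [Fact p.Prime] {T V : Subgroup G}
    (hN : IsSylowIn p (Subgroup.normalizer (V : Set G)) (T ⊓ Subgroup.normalizer (V : Set G))) :
    IsSylowIn p (Subgroup.centralizer (V : Set G)) (T ⊓ Subgroup.centralizer (V : Set G)) := by
  have h := hN.inf_normal (C := Subgroup.centralizer (V : Set G)) inf_le_right
    (centralizer_le_normalizer' V) (normalizer_le_normalizer_centralizer' V)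
  rwa [inf_assoc, inf_eq_right.2 (centralizer_le_normalizer' V)] at h

theorem isSylowIn_autInducedBy [Finite G] [Fact p.Prime] {T V : Subgroup G}
    (hN : IsSylowIn p (Subgroup.normalizer (V : Set G)) (T ⊓ Subgroup.normalizer (V : Set G))) :
    IsSylowIn p (autInducedBy ⊤ V) (autInducedBy T V) := by
  have h := hN.map_hom V.normalizerMonoidHom
  rw [Subgroup.inf_subgroupOf_right] at h
  rw [autInducedBy_eq, autInducedBy_eq, Subgroup.top_subgroupOf, ← MonoidHom.range_eq_map]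
  exact h

/-- A `p`-subgroup of `(T ∩ N(V))C(V)` is moved into `T` by an element of `C(V)`, when `T ∩ N(V)`
is a Sylow subgroup of `N(V)`. -/
theorem exists_centralizer_conj [Finite G] [Fact p.Prime] {T V X : Subgroup G}
    (hN : IsSylowIn p (Subgroup.normalizer (V : Set G)) (T ⊓ Subgroup.normalizer (V : Set G)))
    (hX : IsPGroup p X)
    (hXle : X ≤ (T ⊓ Subgroup.normalizer (V : Set G)) ⊔ Subgroup.centralizer (V : Set G)) :
    ∃ c ∈ Subgroup.centralizer (V : Set G), ∀ x ∈ X, c * x * c⁻¹ ∈ T := by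
  have hle : (T ⊓ Subgroup.normalizer (V : Set G)) ⊔ Subgroup.centralizer (V : Set G) ≤
      Subgroup.normalizer (V : Set G) := sup_le inf_le_right (centralizer_le_normalizer' V)
  obtain ⟨a, ha, haX⟩ := (hN.mono le_sup_left hle).exists_conj hXle hX
  rw [← SetLike.mem_coe, Subgroup.coe_mul_of_left_le_normalizer_right _ _
    (inf_le_right.trans (normalizer_le_normalizer_centralizer' V))] at ha
  obtain ⟨s, hs, c, hc, rfl⟩ := Set.mem_mul.1 ha
  refine ⟨c, hc, fun x hx => ?_⟩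
  have h1 := T.mul_mem (T.mul_mem (T.inv_mem (Subgroup.mem_inf.1 hs).1)
    (Subgroup.mem_inf.1 (haX x hx)).1) (Subgroup.mem_inf.1 hs).1
  simpa [mul_assoc] using h1

theorem card_normalizerIn_le_of_sylow [Finite G] [Fact p.Prime] (hF : F.IsRealizedBy ι)
    (T : Sylow p G) (hT : (T : Subgroup G) = ι.range) (hPQ : F.IsConj P Q)
    (hQ : IsSylowIn p (Subgroup.normalizer (im ι Q : Set G))
      (ι.range ⊓ Subgroup.normalizer (im ι Q : Set G))) :
    Nat.card (normalizerIn S P) ≤ Nat.card (normalizerIn S Q) := by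
  obtain ⟨hP, hQS, g, hg⟩ := (isConj_iff_conj hF).1 hPQ
  rw [← card_im hF.1 (normalizerIn_le S P), ← card_im hF.1 (normalizerIn_le S Q),
    im_normalizerIn hF.1 hP, im_normalizerIn hF.1 hQS,
    ← show Nat.card ((ι.range ⊓ Subgroup.normalizer (im ι P : Set G)).map (MulAut.conj g).toMonoidHom) = _
      from Subgroup.card_map_of_injective (MulAut.conj g).injective]
  refine hQ.card_le inf_le_right ?_ (((isPGroup_range_of_sylow T hT).to_le inf_le_left).map _)
  rw [← hg, ← show (Subgroup.normalizer (im ι P : Set G)).map (MulAut.conj g).toMonoidHom = _ from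
    Subgroup.map_equiv_normalizer_eq (im ι P) (MulAut.conj g)]
  exact Subgroup.map_mono inf_le_right

theorem card_centralizerIn_le_of_sylow [Finite G] [Fact p.Prime] (hF : F.IsRealizedBy ι)
    (T : Sylow p G) (hT : (T : Subgroup G) = ι.range) (hPQ : F.IsConj P Q)
    (hQ : IsSylowIn p (Subgroup.centralizer (im ι Q : Set G))
      (ι.range ⊓ Subgroup.centralizer (im ι Q : Set G))) :
    Nat.card (centralizerIn S P) ≤ Nat.card (centralizerIn S Q) := by
  obtain ⟨hP, hQS, g, hg⟩ := (isConj_iff_conj hF).1 hPQ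
  rw [← card_im hF.1 (centralizerIn_le S P), ← card_im hF.1 (centralizerIn_le S Q),
    im_centralizerIn hF.1 hP, im_centralizerIn hF.1 hQS,
    ← show Nat.card ((ι.range ⊓ Subgroup.centralizer (im ι P : Set G)).map (MulAut.conj g).toMonoidHom) = _
      from Subgroup.card_map_of_injective (MulAut.conj g).injective]
  refine hQ.card_le inf_le_right ?_ (((isPGroup_range_of_sylow T hT).to_le inf_le_left).map _)
  rw [← hg, ← map_centralizer]
  exact Subgroup.map_mono inf_le_right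

theorem exists_isConj_isSylowIn [Finite G] [Fact p.Prime] (hF : F.IsRealizedBy ι)
    (T : Sylow p G) (hT : (T : Subgroup G) = ι.range) (hP : P ≤ S) :
    ∃ Q, F.IsConj P Q ∧ IsSylowIn p (Subgroup.normalizer (im ι Q : Set G))
      (ι.range ⊓ Subgroup.normalizer (im ι Q : Set G)) := by
  obtain ⟨g, hgle, hgS⟩ := exists_conj_isSylowIn_normalizer (hT ▸ isSylowIn_top T)
    ((isPGroup_range_of_sylow T hT).to_le (im_le_range ι P))
  obtain ⟨Q, hQ, hQim⟩ := exists_im_eq hgle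
  exact ⟨Q, (isConj_iff_conj hF).2 ⟨hP, hQ, g, hQim.symm⟩, hQim.symm ▸ hgS⟩

/-- Full normalization in a realized system. -/
theorem isFullyNormalized_iff_sylow [Finite G] [Fact p.Prime] (hF : F.IsRealizedBy ι)
    (T : Sylow p G) (hT : (T : Subgroup G) = ι.range) (hP : P ≤ S) :
    F.IsFullyNormalized P ↔ IsSylowIn p (Subgroup.normalizer (im ι P : Set G))
      (ι.range ⊓ Subgroup.normalizer (im ι P : Set G)) := by
  refine ⟨fun h => ?_, fun h => ⟨hP, fun Q hQ =>
    card_normalizerIn_le_of_sylow hF T hT (isConj_symm hQ) h⟩⟩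
  obtain ⟨Q, hPQ, hQ⟩ := exists_isConj_isSylowIn hF T hT hP
  obtain ⟨-, hQS, g, hg⟩ := (isConj_iff_conj hF).1 hPQ
  refine isSylowIn_of_card_max inf_le_right
    ((isPGroup_range_of_sylow T hT).to_le inf_le_left) fun X hX hXp => ?_
  have h1 := hQ.card_le inf_le_right (X := X.map (MulAut.conj g).toMonoidHom) (by
    rw [← hg, ← show (Subgroup.normalizer (im ι P : Set G)).map (MulAut.conj g).toMonoidHom = _ from
      Subgroup.map_equiv_normalizer_eq (im ι P) (MulAut.conj g)]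
    exact Subgroup.map_mono hX) (hXp.map _)
  rw [Subgroup.card_map_of_injective (MulAut.conj g).injective] at h1
  refine h1.trans ?_
  rw [← im_normalizerIn hF.1 hQS, ← im_normalizerIn hF.1 hP, card_im hF.1 (normalizerIn_le S Q),
    card_im hF.1 (normalizerIn_le S P)]
  exact h.2 Q hPQ

/-- Full centralization in a realized system. -/
theorem isFullyCentralized_iff_sylow [Finite G] [Fact p.Prime] (hF : F.IsRealizedBy ι)
    (T : Sylow p G) (hT : (T : Subgroup G) = ι.range) (hP : P ≤ S) :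
    F.IsFullyCentralized P ↔ IsSylowIn p (Subgroup.centralizer (im ι P : Set G))
      (ι.range ⊓ Subgroup.centralizer (im ι P : Set G)) := by
  refine ⟨fun h => ?_, fun h => ⟨hP, fun Q hQ =>
    card_centralizerIn_le_of_sylow hF T hT (isConj_symm hQ) h⟩⟩
  obtain ⟨Q, hPQ, hQN⟩ := exists_isConj_isSylowIn hF T hT hP
  obtain ⟨-, hQS, g, hg⟩ := (isConj_iff_conj hF).1 hPQ
  refine isSylowIn_of_card_max inf_le_right
    ((isPGroup_range_of_sylow T hT).to_le inf_le_left) fun X hX hXp => ?_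
  have h1 := (isSylowIn_inf_centralizer hQN).card_le inf_le_right
    (X := X.map (MulAut.conj g).toMonoidHom) (by
      rw [← hg, ← map_centralizer]
      exact Subgroup.map_mono hX) (hXp.map _)
  rw [Subgroup.card_map_of_injective (MulAut.conj g).injective] at h1
  refine h1.trans ?_
  rw [← im_centralizerIn hF.1 hQS, ← im_centralizerIn hF.1 hP,
    card_im hF.1 (centralizerIn_le S Q), card_im hF.1 (centralizerIn_le S P)]
  exact h.2 Q hPQ

/-! ### Automorphism groups and saturation -/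

/-- Transport of `Aut_F(P)` and `Aut_S(P)` into `G`. -/
theorem exists_aut_transport [Finite G] (hF : F.IsRealizedBy ι) (hP : P ≤ S) :
    ∃ eP : P ≃* im ι P, (∀ x : P, (eP x : G) = ι ⟨x, hP x.2⟩) ∧
      (F.autGroup P).map (MulAut.congr eP).toMonoidHom = autInducedBy ⊤ (im ι P) ∧
      (autInducedBy S P).map (MulAut.congr eP).toMonoidHom = autInducedBy ι.range (im ι P) := by
  obtain ⟨eP, heP⟩ := exists_imEquiv hF.1 hP
  have key : ∀ (α : MulAut P) (g : G),
      (∀ x : P, ι ⟨α x, hP (α x).2⟩ = g * ι ⟨x, hP x.2⟩ * g⁻¹) ↔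
        ∀ v : im ι P, (MulAut.congr eP α v : G) = g * v * g⁻¹ := by
    intro α g
    constructor
    · intro h v
      obtain ⟨x, rfl⟩ := eP.surjective v
      rw [congr_apply, heP, heP]
      exact h x
    · intro h x
      have h1 := h (eP x)
      rwa [congr_apply, heP, heP] at h1
  refine ⟨eP, heP, ?_, ?_⟩
  · refine le_antisymm ?_ fun β hβ => ?_
    · rintro _ ⟨α, hα, rfl⟩
      obtain ⟨g, hg⟩ := (isIso_iff_conj hF hP hP α).1 ((mem_autGroup_iff hP).1 hα)
      exact Subgroup.subset_closure ⟨g, Subgroup.mem_top g, (key α g).1 hg⟩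
    · obtain ⟨g, -, -, hg⟩ := mem_autInducedBy_iff.1 hβ
      obtain ⟨α, rfl⟩ := (MulAut.congr eP).surjective β
      exact ⟨α, (mem_autGroup_iff hP).2 ((isIso_iff_conj hF hP hP α).2 ⟨g, (key α g).2 hg⟩), rfl⟩
  · refine le_antisymm ?_ fun β hβ => ?_
    · rintro _ ⟨α, hα, rfl⟩
      obtain ⟨g, hgS, -, hg⟩ := mem_autInducedBy_iff.1 hα
      refine Subgroup.subset_closure ⟨ι ⟨g, hgS⟩, ⟨_, rfl⟩, (key α _).1 fun x => ?_⟩
      rw [← map_inv, ← map_mul, ← map_mul]
      exact congrArg ι (Subtype.ext (hg x))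
    · obtain ⟨_, ⟨g, rfl⟩, -, hg⟩ := mem_autInducedBy_iff.1 hβ
      obtain ⟨α, rfl⟩ := (MulAut.congr eP).surjective β
      refine ⟨α, Subgroup.subset_closure ⟨g, g.2, fun x => ?_⟩, rfl⟩
      have h1 := (key α _).2 hg x
      rw [← map_inv, ← map_mul, ← map_mul] at h1
      exact congrArg Subtype.val (hF.1 h1)

theorem automized_receptive_of_sylow [Finite G] [Finite S] [Fact p.Prime] (hF : F.IsRealizedBy ι)
    (T : Sylow p G) (hT : (T : Subgroup G) = ι.range) (hQ : Q ≤ S)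
    (hQN : IsSylowIn p (Subgroup.normalizer (im ι Q : Set G))
      (ι.range ⊓ Subgroup.normalizer (im ι Q : Set G))) :
    F.IsFullyAutomized p Q ∧ F.IsReceptive Q := by
  have hfQ := finite_of_le hQ
  refine ⟨⟨hQ, ?_⟩, hQ, fun R φ hφ hr => ?_⟩
  · obtain ⟨eQ, -, h1, h2⟩ := exists_aut_transport hF hQ
    exact (isSylowIn_map_iff (f := (MulAut.congr eQ).toMonoidHom) (MulAut.congr eQ).injective
      (autInducedBy_le_autGroup hQ)).1 (h1 ▸ h2 ▸ isSylowIn_autInducedBy hQN)
  · obtain ⟨f, hf, hfφ⟩ := exists_iso hφ hr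
    have hR := hf.le_left
    obtain ⟨g, hg⟩ := (isIso_iff_conj hF hR hQ f).1 hf
    have hgR := map_im_of_iso hR hQ hg
    have hEN : extender S R φ ≤ normalizerIn S R := extender_le_normalizerIn φ
    let X := (im ι (extender S R φ)).map (MulAut.conj g).toMonoidHom
    have hX : X ≤ (ι.range ⊓ Subgroup.normalizer (im ι Q : Set G)) ⊔
        Subgroup.centralizer (im ι Q : Set G) := by
      rintro _ ⟨_, ⟨x, hx, rfl⟩, rfl⟩
      obtain ⟨-, hxN, h, hh, hrel⟩ := mem_extender_iff.1 (Subgroup.mem_subgroupOf.1 hx)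
      show g * ι x * g⁻¹ ∈ _
      have hb : (ι ⟨h, hh⟩)⁻¹ * (g * ι x * g⁻¹) ∈ Subgroup.centralizer (im ι Q : Set G) := by
        rw [Subgroup.mem_centralizer_iff]
        rintro _ ⟨y, hy, rfl⟩
        obtain ⟨r, hr'⟩ := f.surjective ⟨y, hy⟩
        have hry : y = ⟨f r, hQ (f r).2⟩ :=
          Subtype.ext (congrArg (fun z : Q => (z : Ω)) hr'.symm :)
        have hxr : (x : Ω) * r * (x : Ω)⁻¹ ∈ R := (Subgroup.mem_normalizer_iff.1 hxN r).1 r.2
        have e1 := hg ⟨_, hxr⟩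
        rw [show (⟨(x : Ω) * r * (x : Ω)⁻¹, hR hxr⟩ : S) = x * ⟨r, hR r.2⟩ * x⁻¹ from rfl,
          show (⟨f ⟨_, hxr⟩, hQ (f ⟨_, hxr⟩).2⟩ : S) =
            ⟨h, hh⟩ * ⟨f r, hQ (f r).2⟩ * ⟨h, hh⟩⁻¹ from
            Subtype.ext (by
              show (f ⟨_, hxr⟩ : Ω) = h * (f r : Ω) * h⁻¹
              rw [hfφ, hfφ]; exact hrel r hxr)] at e1
        simp only [map_mul, map_inv] at e1
        rw [hry]
        generalize ι ⟨h, hh⟩ = b at *
        have e2 : b * ι ⟨f r, hQ (f r).2⟩ * b⁻¹ =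
            (g * ι x * g⁻¹) * ι ⟨f r, hQ (f r).2⟩ * (g * ι x * g⁻¹)⁻¹ := by
          rw [e1, hg r]
          simp [mul_assoc]
        have e3 := congrArg (fun z => b⁻¹ * z * (g * ι x * g⁻¹)) e2
        simp only [mul_assoc, inv_mul_cancel, inv_mul_cancel_left, mul_one] at e3 ⊢
        exact e3
      have haN : g * ι x * g⁻¹ ∈ Subgroup.normalizer (im ι Q : Set G) := by
        rw [← hgR, ← show (Subgroup.normalizer (im ι R : Set G)).map (MulAut.conj g).toMonoidHom = _
          from Subgroup.map_equiv_normalizer_eq (im ι R) (MulAut.conj g)]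
        refine ⟨ι x, ?_, rfl⟩
        have h1 : ι x ∈ im ι (normalizerIn S R) := ⟨x, hEN hx, rfl⟩
        exact (Subgroup.mem_inf.1 (im_normalizerIn hF.1 hR ▸ h1)).2
      have hbN : ι ⟨h, hh⟩ ∈ Subgroup.normalizer (im ι Q : Set G) := by
        have := Subgroup.mul_mem _ haN
          (Subgroup.inv_mem _ (centralizer_le_normalizer' _ hb))
        simpa [mul_assoc] using this
      rw [show g * ι x * g⁻¹ = ι ⟨h, hh⟩ * ((ι ⟨h, hh⟩)⁻¹ * (g * ι x * g⁻¹)) by simp]
      exact Subgroup.mul_mem_sup (Subgroup.mem_inf.2 ⟨⟨_, rfl⟩, hbN⟩) hb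
    obtain ⟨c, hc, hcX⟩ := exists_centralizer_conj hQN
      (((isPGroup_range_of_sylow T hT).to_le (im_le_range ι _)).map _) hX
    have hle : (im ι (extender S R φ)).map (MulAut.conj (c * g)).toMonoidHom ≤ ι.range := by
      rintro _ ⟨y, hy, rfl⟩
      have := hcX _ ⟨y, hy, rfl⟩
      simpa [mul_assoc] using this
    obtain ⟨V, hV, hVim⟩ := exists_im_eq hle
    obtain ⟨E, hE, hEg⟩ := exists_iso_of_conj hF (hEN.trans (normalizerIn_le S R)) hV hVim.symm
    refine ⟨_, hE, fun x hx hN => ?_⟩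
    show (E ⟨x, hN⟩ : Ω) = φ ⟨x, hx⟩
    rw [← hfφ ⟨x, hx⟩]
    refine congrArg (fun z : S => (z : Ω))
      (hF.1 (?_ : ι ⟨E ⟨x, hN⟩, hV (E ⟨x, hN⟩).2⟩ = ι ⟨f ⟨x, hx⟩, hQ (f ⟨x, hx⟩).2⟩))
    rw [hEg]
    have h1 : c * ι ⟨f ⟨x, hx⟩, hQ (f ⟨x, hx⟩).2⟩ * c⁻¹ = ι ⟨f ⟨x, hx⟩, hQ (f ⟨x, hx⟩).2⟩ := by
      rw [mul_inv_eq_iff_eq_mul, eq_comm]
      exact Subgroup.mem_centralizer_iff.1 hc _ ⟨_, (f ⟨x, hx⟩).2, rfl⟩
    rw [← h1, hg ⟨x, hx⟩]
    simp [mul_assoc]

/-- A system realized on a Sylow subgroup of a finite group is saturated. -/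
theorem isSaturated_of_realized [Finite G] [Fact p.Prime] (hF : F.IsRealizedBy ι)
    (T : Sylow p G) (hT : (T : Subgroup G) = ι.range) : F.IsSaturated p := by
  have : Finite S := Finite.of_injective ι hF.1
  intro P hP
  obtain ⟨Q, hPQ, hQ⟩ := exists_isConj_isSylowIn hF T hT hP
  exact ⟨Q, hPQ, automized_receptive_of_sylow hF T hT (le_of_isConj_right hPQ) hQ⟩

/-! ### The fusion system of a group on a subgroup -/

theorem groupFusion_isRealizedBy (S : Subgroup G) :
    (groupFusionSystem S).IsRealizedBy S.subtype :=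
  ⟨S.subtype_injective, fun _ hP _ hφ => ⟨fun h => h.2.2, fun h => ⟨hP, hφ, h⟩⟩⟩

theorem im_subtype {S P : Subgroup G} (hP : P ≤ S) : im S.subtype P = P :=
  Subgroup.map_subgroupOf_eq_of_le hP

theorem isSaturated_groupFusion [Finite G] [Fact p.Prime] (S : Sylow p G) :
    (groupFusionSystem (S : Subgroup G)).IsSaturated p :=
  isSaturated_of_realized (groupFusion_isRealizedBy _) S (Subgroup.range_subtype _).symm

theorem groupFusion_fullyNormalized_iff [Finite G] [Fact p.Prime] (S : Sylow p G) {P : Subgroup G}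
    (hP : P ≤ S) : (groupFusionSystem (S : Subgroup G)).IsFullyNormalized P ↔
      IsSylowIn p (Subgroup.normalizer (P : Set G)) (normalizerIn (S : Subgroup G) P) := by
  rw [isFullyNormalized_iff_sylow (groupFusion_isRealizedBy _) S
    (Subgroup.range_subtype _).symm hP, im_subtype hP, Subgroup.range_subtype]
  rfl

theorem groupFusion_fullyCentralized_iff [Finite G] [Fact p.Prime] (S : Sylow p G)
    {P : Subgroup G} (hP : P ≤ S) : (groupFusionSystem (S : Subgroup G)).IsFullyCentralized P ↔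
      IsSylowIn p (Subgroup.centralizer (P : Set G)) (centralizerIn (S : Subgroup G) P) := by
  rw [isFullyCentralized_iff_sylow (groupFusion_isRealizedBy _) S
    (Subgroup.range_subtype _).symm hP, im_subtype hP, Subgroup.range_subtype]
  rfl

end CfsgLib.Fusion
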