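import Cfsg.Agent.FusionPIndex.Basic
import Mathlib.GroupTheory.Commutator.Basic

/-!
# The focal and the hyperfocal subgroup

* `focalSubgroup_eq`: `foc(F) = hyp(F) [S,S]` for a saturated system.
* `stronglyClosed_hyperfocal`: `hyp(F)` is strongly closed.
-/

set_option autoImplicit false

namespace CfsgLib.Fusion

open Cfsg Cfsg.FusionSystem
open scoped commutatorElement

variable {Ω : Type*} [Group Ω] {S : Subgroup Ω} {F : FusionSystem S} {p : ℕ}

theorem hyperfocal_le : F.hyperfocalSubgroup p ≤ S :=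
  (Subgroup.closure_le _).2 fun _ ⟨_, _, x, hP, _, hy⟩ =>
    hy ▸ S.mul_mem (S.inv_mem (hP x.2)) (hP (Subtype.mem _))

theorem inv_mul_apply_mem_hyperfocal {P : Subgroup Ω} (hP : P ≤ S) {α : MulAut P}
    (hα : α ∈ (pResidual p (F.autGroup P)).map (F.autGroup P).subtype) (x : P) :
    (x : Ω)⁻¹ * (α x : Ω) ∈ F.hyperfocalSubgroup p := by
  obtain ⟨a, ha, rfl⟩ := hα
  exact Subgroup.subset_closure ⟨P, a, x, hP, ha, rfl⟩

theorem hyperfocal_le_focal : F.hyperfocalSubgroup p ≤ F.focalSubgroup := by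
  refine (Subgroup.closure_le _).2 ?_
  rintro _ ⟨P, α, x, hP, -, rfl⟩
  exact Subgroup.subset_closure ⟨P, P.subtype.comp (α : MulAut P).toMonoidHom, x,
    (mem_autGroup_iff hP).1 α.2, rfl⟩

theorem commutator_le_focal : ⁅S, S⁆ ≤ F.focalSubgroup := by
  refine Subgroup.commutator_le.2 fun a ha b hb => Subgroup.subset_closure ?_
  refine ⟨S, (MulAut.conj b).toMonoidHom.comp S.subtype, ⟨a⁻¹, S.inv_mem ha⟩,
    F.conj_mem le_rfl hb, ?_⟩
  show ⁅a, b⁆ = (a⁻¹)⁻¹ * (b * a⁻¹ * b⁻¹)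
  rw [commutatorElement_def]
  group

/-- `hyp(F)` is normalised by `S`. -/
theorem conj_mem_hyperfocal [Finite S] {s g : Ω} (hs : s ∈ S)
    (hg : g ∈ F.hyperfocalSubgroup p) : s * g * s⁻¹ ∈ F.hyperfocalSubgroup p := by
  suffices F.hyperfocalSubgroup p ≤
      (F.hyperfocalSubgroup p).comap (MulAut.conj s).toMonoidHom from this hg
  refine (Subgroup.closure_le _).2 ?_
  rintro _ ⟨P, α, x, hP, hα, rfl⟩
  obtain ⟨e, he, hev⟩ := exists_iso_range (F.conj_mem hP hs)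
  let f : F.autGroup P →* F.autGroup
      ((MulAut.conj s).toMonoidHom.comp P.subtype).range :=
    { toFun := fun β => ⟨MulAut.congr e β, congr_mem_autGroup he β.2⟩
      map_one' := Subtype.ext (map_one _)
      map_mul' := fun a b => Subtype.ext (map_mul _ _ _) }
  have h := CfsgLib.Transfer.map_pResidual_le (p := p) f (Subgroup.mem_map_of_mem _ hα)
  refine Subgroup.subset_closure ⟨_, f α, e x, he.le_right, h, ?_⟩
  show s * ((x : Ω)⁻¹ * ((α : MulAut P) x : Ω)) * s⁻¹ =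
    (e x : Ω)⁻¹ * (MulAut.congr e (α : MulAut P) (e x) : Ω)
  rw [congr_apply, hev, hev]
  show _ = (s * (x : Ω) * s⁻¹)⁻¹ * (s * ((α : MulAut P) x : Ω) * s⁻¹)
  group

theorem mem_le_of_pResidual [Finite S] [Fact p.Prime] (hS : IsPGroup p S) (hF : F.IsSaturated p)
    {D : FusionSystem S}
    (h : ∀ P : Subgroup Ω, P ≤ S → ∀ α ∈ (pResidual p (F.autGroup P)).map (F.autGroup P).subtype,
      P.subtype.comp α.toMonoidHom ∈ D.Hom P) {P : Subgroup Ω} {φ : P →* Ω} (hφ : φ ∈ F.Hom P) :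
    φ ∈ D.Hom P :=
  CfsgLib.FusionPIndex.isSubsystemOf_of_pResidual hS hF (D := D) le_rfl
    (fun P hP α hα => (mem_autGroup_iff hP).2 (h P hP α hα)) P hφ

/-- `foc(F) = hyp(F) [S,S]`. -/
theorem focalSubgroup_eq [Finite S] [Fact p.Prime] (hS : IsPGroup p S) (hF : F.IsSaturated p) :
    F.focalSubgroup = F.hyperfocalSubgroup p ⊔ ⁅S, S⁆ := by
  refine le_antisymm ((Subgroup.closure_le _).2 ?_) (sup_le hyperfocal_le_focal commutator_le_focal)
  rintro _ ⟨P, φ, x, hφ, rfl⟩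
  obtain ⟨M, hM⟩ : ∃ M, M = F.hyperfocalSubgroup p ⊔ ⁅S, S⁆ := ⟨_, rfl⟩
  rw [← hM, SetLike.mem_coe]
  let D : FusionSystem S :=
    { Hom := fun P => {φ | φ ∈ F.Hom P ∧ ∀ x : P, (x : Ω)⁻¹ * φ x ∈ M}
      le_of_mem := fun h => F.le_of_mem h.1
      injective_of_mem := fun h => F.injective_of_mem h.1
      conj_mem := fun {P s} hP hs => ⟨F.conj_mem hP hs, fun x => by
        show (x : Ω)⁻¹ * (s * x * s⁻¹) ∈ M
        rw [show (x : Ω)⁻¹ * (s * x * s⁻¹) = ⁅(x : Ω)⁻¹, s⁆ by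
          rw [commutatorElement_def]; group, hM]
        exact Subgroup.mem_sup_right
          (Subgroup.commutator_mem_commutator (S.inv_mem (hP x.2)) hs)⟩
      comp_mem := fun {P Q φ ψ} hφ hψ h => ⟨F.comp_mem hφ.1 hψ.1 h, fun x => by
        rw [show (x : Ω)⁻¹ * ψ.comp (φ.codRestrict Q h) x =
          ((x : Ω)⁻¹ * φ x) * ((φ x)⁻¹ * ψ ⟨φ x, h x⟩) by
            rw [mul_assoc, mul_inv_cancel_left]; rfl]
        exact M.mul_mem (hφ.2 x) (hψ.2 ⟨φ x, h x⟩)⟩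
      inv_mem := fun {P φ} hφ => by
        obtain ⟨ψ, hψ, hv⟩ := F.inv_mem hφ.1
        refine ⟨ψ, ⟨hψ, ?_⟩, hv⟩
        rintro ⟨_, x, rfl⟩
        have e : ψ ⟨φ x, x, rfl⟩ = x := hv x
        rw [e]
        simpa using M.inv_mem (hφ.2 x) }
  exact (mem_le_of_pResidual hS hF (D := D) (fun Q hQ α hα =>
    ⟨(mem_autGroup_iff hQ).1 (Subgroup.map_subtype_le _ hα), fun y =>
      hM ▸ Subgroup.mem_sup_left (inv_mul_apply_mem_hyperfocal hQ hα y)⟩) hφ).2 x

/-- `hyp(F)` is strongly closed. -/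
theorem stronglyClosed_hyperfocal [Finite S] [Fact p.Prime] (hS : IsPGroup p S)
    (hF : F.IsSaturated p) : F.StronglyClosed (F.hyperfocalSubgroup p) := by
  refine ⟨hyperfocal_le, fun R hR φ hφ x => ?_⟩
  obtain ⟨H, hH⟩ : ∃ H, H = F.hyperfocalSubgroup p := ⟨_, rfl⟩
  have hn : ∀ {s g : Ω}, s ∈ S → g ∈ H → s * g * s⁻¹ ∈ H := fun hs hg => by
    rw [hH] at hg ⊢
    exact conj_mem_hyperfocal hs hg
  let D : FusionSystem S :=
    { Hom := fun P => {φ | φ ∈ F.Hom P ∧ ∀ x : P, φ x ∈ H ↔ (x : Ω) ∈ H}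
      le_of_mem := fun h => F.le_of_mem h.1
      injective_of_mem := fun h => F.injective_of_mem h.1
      conj_mem := fun {P s} hP hs => ⟨F.conj_mem hP hs, fun x => by
        show s * (x : Ω) * s⁻¹ ∈ H ↔ _
        refine ⟨fun h => ?_, hn hs⟩
        have := hn (S.inv_mem hs) h
        simpa [mul_assoc] using this⟩
      comp_mem := fun {P Q φ ψ} hφ hψ h =>
        ⟨F.comp_mem hφ.1 hψ.1 h, fun x => (hψ.2 _).trans (hφ.2 x)⟩
      inv_mem := fun {P φ} hφ => by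
        obtain ⟨ψ, hψ, hv⟩ := F.inv_mem hφ.1
        refine ⟨ψ, ⟨hψ, ?_⟩, hv⟩
        rintro ⟨_, x, rfl⟩
        rw [show ψ ⟨φ x, x, rfl⟩ = x from hv x]
        exact (hφ.2 x).symm }
  rw [← hH]
  refine ((mem_le_of_pResidual hS hF (D := D) (fun Q hQ α hα =>
    ⟨(mem_autGroup_iff hQ).1 (Subgroup.map_subtype_le _ hα), fun y => ?_⟩) hφ).2 x).2 (hH ▸ hR x.2)
  have h : (y : Ω)⁻¹ * (α y : Ω) ∈ H := hH ▸ inv_mul_apply_mem_hyperfocal hQ hα y
  show (α y : Ω) ∈ H ↔ _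
  constructor
  · intro h'
    have := H.mul_mem h' (H.inv_mem h)
    simpa using this
  · intro h'
    have := H.mul_mem h' h
    simpa using this

end CfsgLib.Fusion
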