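import Cfsg.Agent.Fusion.Saturation

/-!
# Sylow subgroups of subgroups, stated inside the ambient group
-/

set_option autoImplicit false

namespace CfsgLib.Fusion

variable {G : Type*} [Group G] {p : ℕ} {H K C X : Subgroup G}

/-- `K` is a Sylow `p`-subgroup of `H`, both being subgroups of an ambient group. -/
def IsSylowIn (p : ℕ) (H K : Subgroup G) : Prop :=
  ∃ R : Sylow p H, (R : Subgroup H) = K.subgroupOf H

theorem IsSylowIn.isPGroup (h : IsSylowIn p H K) (hKH : K ≤ H) : IsPGroup p K := by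
  obtain ⟨R, hR⟩ := h
  exact (hR ▸ R.isPGroup').of_equiv (Subgroup.subgroupOfEquivOfLe hKH)

theorem IsSylowIn.exists_conj [Finite H] [Fact p.Prime] (h : IsSylowIn p H K)
    (hXH : X ≤ H) (hX : IsPGroup p X) : ∃ a ∈ H, ∀ x ∈ X, a * x * a⁻¹ ∈ K := by
  obtain ⟨R, hR⟩ := h
  obtain ⟨a, ha⟩ := exists_conj_mem_sylow R (X := X.subgroupOf H) hX.comap_subtype
  exact ⟨a, a.2, fun x hx => (hR ▸ ha ⟨x, hXH hx⟩ hx : a * ⟨x, hXH hx⟩ * a⁻¹ ∈ K.subgroupOf H)⟩

theorem card_le_of_conj_mem [Finite K] {a : G} (h : ∀ x ∈ X, a * x * a⁻¹ ∈ K) :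
    Nat.card X ≤ Nat.card K :=
  Nat.card_le_card_of_injective (fun x => (⟨a * x * a⁻¹, h x x.2⟩ : K)) fun x y hxy =>
    Subtype.ext (mul_left_cancel (mul_right_cancel (congrArg Subtype.val hxy)))

theorem IsSylowIn.card_le [Finite H] [Fact p.Prime] (h : IsSylowIn p H K) (hKH : K ≤ H)
    (hXH : X ≤ H) (hX : IsPGroup p X) : Nat.card X ≤ Nat.card K := by
  obtain ⟨a, -, ha⟩ := h.exists_conj hXH hX
  have : Finite K := Finite.of_injective _ (Subgroup.inclusion_injective hKH)
  exact card_le_of_conj_mem ha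

/-- A `p`-subgroup of `H` of largest order is a Sylow subgroup of `H`. -/
theorem isSylowIn_of_card_max [Finite H] (hKH : K ≤ H) (hK : IsPGroup p K)
    (hmax : ∀ X ≤ H, IsPGroup p X → Nat.card X ≤ Nat.card K) : IsSylowIn p H K := by
  obtain ⟨R, hR⟩ := (hK.comap_subtype (K := H)).exists_le_sylow
  refine ⟨R, (Subgroup.eq_of_le_of_card_ge hR ?_).symm⟩
  rw [show Nat.card (Subgroup.comap H.subtype K) = Nat.card K from
      Nat.card_congr (Subgroup.subgroupOfEquivOfLe hKH).toEquiv,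
    Nat.card_congr (Subgroup.equivMapOfInjective (R : Subgroup H) H.subtype
      H.subtype_injective).toEquiv]
  exact hmax _ (Subgroup.map_subtype_le _) (R.isPGroup'.map _)

theorem isSylowIn_iff [Finite H] [Fact p.Prime] (hKH : K ≤ H) :
    IsSylowIn p H K ↔ IsPGroup p K ∧ ∀ X ≤ H, IsPGroup p X → Nat.card X ≤ Nat.card K :=
  ⟨fun h => ⟨h.isPGroup hKH, fun _ hXH hX => h.card_le hKH hXH hX⟩,
    fun h => isSylowIn_of_card_max hKH h.1 h.2⟩

theorem exists_isSylowIn (p : ℕ) (H : Subgroup G) :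
    ∃ K ≤ H, IsPGroup p K ∧ IsSylowIn p H K :=
  let ⟨R⟩ := (inferInstance : Nonempty (Sylow p H))
  ⟨_, Subgroup.map_subtype_le (R : Subgroup H), R.isPGroup'.map _,
    R, ((R : Subgroup H).comap_map_eq_self_of_injective H.subtype_injective).symm⟩

theorem isSylowIn_top (T : Sylow p G) : IsSylowIn p ⊤ (T : Subgroup G) :=
  ⟨T.subtype le_top, rfl⟩

theorem IsSylowIn.exists_sylow_top (h : IsSylowIn p ⊤ K) [Finite G] [Fact p.Prime] :
    ∃ T : Sylow p G, (T : Subgroup G) = K := by
  have : Finite (⊤ : Subgroup G) := inferInstance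
  obtain ⟨T, hT⟩ := (h.isPGroup le_top).exists_le_sylow
  exact ⟨T, (Subgroup.eq_of_le_of_card_ge hT (h.card_le le_top le_top T.isPGroup')).symm⟩

/-- A Sylow subgroup of `H` is a Sylow subgroup of every intermediate subgroup. -/
theorem IsSylowIn.mono [Finite H] [Fact p.Prime] {L : Subgroup G} (h : IsSylowIn p H K)
    (hKL : K ≤ L) (hLH : L ≤ H) : IsSylowIn p L K := by
  have : Finite L := Finite.of_injective _ (Subgroup.inclusion_injective hLH)
  exact isSylowIn_of_card_max hKL (h.isPGroup (hKL.trans hLH))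
    fun X hX hXp => h.card_le (hKL.trans hLH) (hX.trans hLH) hXp

/-- The intersection of a Sylow subgroup with a normal subgroup is a Sylow subgroup of it. -/
theorem IsSylowIn.inf_normal [Finite H] [Fact p.Prime] (h : IsSylowIn p H K) (hKH : K ≤ H)
    (hCH : C ≤ H) (hn : H ≤ Subgroup.normalizer (C : Set G)) : IsSylowIn p C (K ⊓ C) := by
  have : Finite C := Finite.of_injective _ (Subgroup.inclusion_injective hCH)
  refine isSylowIn_of_card_max inf_le_right ((h.isPGroup hKH).to_le inf_le_left)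
    fun X hXC hX => ?_
  obtain ⟨a, ha, haX⟩ := h.exists_conj (hXC.trans hCH) hX
  have : Finite (K ⊓ C : Subgroup G) :=
    Finite.of_injective _ (Subgroup.inclusion_injective (inf_le_right : K ⊓ C ≤ C))
  exact card_le_of_conj_mem fun x hx => Subgroup.mem_inf.2
    ⟨haX x hx, (Subgroup.mem_normalizer_iff.1 (hn ha) x).1 (hXC hx)⟩

/-- Images of Sylow subgroups under a homomorphism defined on `H`. -/
theorem IsSylowIn.map_hom [Finite H] [Fact p.Prime] {M : Type*} [Group M] (h : IsSylowIn p H K)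
    (f : H →* M) : IsSylowIn p f.range ((K.subgroupOf H).map f) := by
  obtain ⟨R, hR⟩ := h
  refine ⟨R.mapSurjective f.rangeRestrict_surjective, ?_⟩
  rw [Sylow.coe_mapSurjective, hR]
  ext ⟨y, hy⟩
  simp [Subgroup.mem_subgroupOf, Subtype.ext_iff]

/-- The Sylow property passes along an injective homomorphism. -/
theorem isSylowIn_map_iff [Finite H] [Fact p.Prime] {M : Type*} [Group M] {f : G →* M}
    (hf : Function.Injective f) (hKH : K ≤ H) :
    IsSylowIn p (H.map f) (K.map f) ↔ IsSylowIn p H K := by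
  have : Finite (H.map f) := Finite.of_equiv _ (Subgroup.equivMapOfInjective H f hf).toEquiv
  rw [isSylowIn_iff hKH, isSylowIn_iff (Subgroup.map_mono hKH)]
  have hc : ∀ L : Subgroup G, Nat.card (L.map f) = Nat.card L := fun L =>
    Subgroup.card_map_of_injective hf
  constructor
  · rintro ⟨h1, h2⟩
    refine ⟨h1.of_equiv (Subgroup.equivMapOfInjective K f hf).symm, fun X hX hXp => ?_⟩
    rw [← hc X, ← hc K]
    exact h2 (X.map f) (Subgroup.map_mono hX) (hXp.map f)
  · rintro ⟨h1, h2⟩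
    refine ⟨h1.map f, fun Y hY hYp => ?_⟩
    have hY' : (Y.comap f).map f = Y :=
      Subgroup.map_comap_eq_self (hY.trans (Subgroup.map_le_range f H))
    rw [← hY', hc, hc]
    refine h2 _ (fun x hx => ?_) (hYp.comap_of_injective f hf)
    obtain ⟨z, hz, hzx⟩ := hY hx
    exact hf hzx ▸ hz

end CfsgLib.Fusion
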