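import Cfsg.Agent.Fusion.Saturation

/-!
# Normalizer systems `N_F^K(Q)`

For `Q ≤ S` and a group `K` of automorphisms of `Q`: the maps of `F` between subgroups of
`N_S^K(Q)` that extend to `Q` acting on it as an element of `K` form a fusion system.
-/

set_option autoImplicit false

namespace CfsgLib.Fusion

open Cfsg Cfsg.FusionSystem

variable {Ω : Type*} [Group Ω] {S : Subgroup Ω} {F : FusionSystem S} {P Q R N : Subgroup Ω}

theorem imgHom_sup (φ : P →* Ω) {A B : Subgroup Ω} (hA : A ≤ P) (hB : B ≤ P) :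
    imgHom φ (A ⊔ B) = imgHom φ A ⊔ imgHom φ B := by
  rw [imgHom, Subgroup.subgroupOf_sup hA hB, Subgroup.map_sup]
  rfl

/-- `N_S^K(Q)`: the elements of `N_S(Q)` inducing on `Q` an automorphism in `K`. -/
def kNormalizer (S Q : Subgroup Ω) (K : Subgroup (MulAut Q)) : Subgroup Ω :=
  S ⊓ (K.comap Q.normalizerMonoidHom).map (Subgroup.normalizer (Q : Set Ω)).subtype

theorem mem_kNormalizer {K : Subgroup (MulAut Q)} {g : Ω} :
    g ∈ kNormalizer S Q K ↔
      g ∈ S ∧ ∃ α ∈ K, ∀ q : Q, (α q : Ω) = g * q * g⁻¹ := by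
  rw [kNormalizer, Subgroup.mem_inf]
  refine and_congr_right fun hgS => ⟨?_, ?_⟩
  · rintro ⟨n, hn, rfl⟩
    exact ⟨_, hn, fun q => rfl⟩
  · rintro ⟨α, hα, h⟩
    have hmem : α ∈ autInducedBy (Subgroup.zpowers g) Q :=
      Subgroup.subset_closure ⟨g, Subgroup.mem_zpowers g, h⟩
    have hn : g ∈ Subgroup.normalizer (Q : Set Ω) := by
      rw [Subgroup.mem_normalizer_iff]
      refine fun y => ⟨fun hy => h ⟨y, hy⟩ ▸ (α ⟨y, hy⟩).2, fun hy => ?_⟩
      obtain ⟨z, hz⟩ := α.surjective ⟨_, hy⟩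
      have h1 := h z
      rw [hz] at h1
      exact mul_left_cancel (mul_right_cancel h1) ▸ z.2
    refine ⟨⟨g, hn⟩, ?_, rfl⟩
    show Q.normalizerMonoidHom ⟨g, hn⟩ ∈ K
    rw [show Q.normalizerMonoidHom ⟨g, hn⟩ = α from MulEquiv.ext fun q => Subtype.ext (h q).symm]
    exact hα

theorem kNormalizer_le_normalizerIn (K : Subgroup (MulAut Q)) :
    kNormalizer S Q K ≤ normalizerIn S Q :=
  inf_le_inf_left _ (Subgroup.map_subtype_le _)

theorem kNormalizer_le (K : Subgroup (MulAut Q)) : kNormalizer S Q K ≤ S := inf_le_left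

theorem kNormalizer_top : kNormalizer S Q ⊤ = normalizerIn S Q := by
  rw [kNormalizer, normalizerIn, Subgroup.comap_top, ← MonoidHom.range_eq_map,
    Subgroup.range_subtype]

theorem kNormalizer_bot : kNormalizer S Q ⊥ = centralizerIn S Q := by
  ext g
  rw [mem_kNormalizer, mem_centralizerIn']
  refine and_congr_right fun _ => ⟨?_, fun h => ⟨1, rfl, fun q => (h q q.2).symm⟩⟩
  rintro ⟨α, hα, h⟩ x hx
  rw [Subgroup.mem_bot] at hα
  exact (h ⟨x, hx⟩).symm.trans (by rw [hα]; rfl)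

/-- The maps of `N_F^K(Q)` with source `P`, the underlying subgroup being `N`. -/
def kHom (F : FusionSystem S) (Q : Subgroup Ω) (K : Subgroup (MulAut Q)) (N P : Subgroup Ω) :
    Set (P →* Ω) :=
  {φ | φ ∈ F.Hom P ∧ P ≤ N ∧ (∀ x : P, φ x ∈ N) ∧
    ∃ ψ ∈ F.Hom (P ⊔ Q), (∀ x : P, ψ (Subgroup.inclusion le_sup_left x) = φ x) ∧
      ∃ α ∈ K, ∀ q : Q, ψ (Subgroup.inclusion le_sup_right q) = (α q : Ω)}

theorem imgHom_eq_of_forall {W : Subgroup Ω} {ψ : W →* Ω} (hQ : Q ≤ W) {α : MulAut Q}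
    (h : ∀ q : Q, ψ (Subgroup.inclusion hQ q) = (α q : Ω)) : imgHom ψ Q = Q :=
  imgHom_eq_of_agree (e := α) hQ fun q _ => h q

theorem range_extension {φ : P →* Ω} {ψ : ↥(P ⊔ Q) →* Ω}
    (h₁ : ∀ x : P, ψ (Subgroup.inclusion le_sup_left x) = φ x) (h₂ : imgHom ψ Q = Q) :
    ψ.range = φ.range ⊔ Q := by
  rw [← imgHom_self, imgHom_sup ψ le_sup_left le_sup_right, h₂]
  congr 1
  ext y
  refine ⟨?_, ?_⟩
  · rintro ⟨x, hx, rfl⟩
    exact ⟨⟨x, hx⟩, (h₁ ⟨x, hx⟩).symm⟩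
  · rintro ⟨x, rfl⟩
    exact ⟨_, x.2, h₁ x⟩

/-- The system `N_F^K(Q)`, over a subgroup `N` equal to `N_S^K(Q)`. -/
def kSystem (F : FusionSystem S) (hQ : Q ≤ S) (K : Subgroup (MulAut Q)) {N : Subgroup Ω}
    (hN : N = kNormalizer S Q K) : FusionSystem N where
  Hom := kHom F Q K N
  le_of_mem h := ⟨h.2.1, h.2.2.1⟩
  injective_of_mem h := F.injective_of_mem h.1
  conj_mem := by
    intro P g hP hg
    have hNS : N ≤ S := hN ▸ kNormalizer_le K
    obtain ⟨hgS, α, hα, h⟩ := mem_kNormalizer.1 (hN ▸ hg)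
    refine ⟨F.conj_mem (hP.trans hNS) hgS, hP,
      fun x => N.mul_mem (N.mul_mem hg (hP x.2)) (N.inv_mem hg),
      conjHom (P ⊔ Q) g, F.conj_mem (sup_le (hP.trans hNS) hQ) hgS, fun x => rfl, α, hα,
      fun q => (h q).symm⟩
  comp_mem := by
    rintro P R φ χ ⟨hφ, hP, hφN, ψ, hψ, hψ₁, α, hα, hψ₂⟩ ⟨hχ, hR, hχN, ω, hω, hω₁, β, hβ, hω₂⟩ h
    have hmem : ∀ x, ψ x ∈ R ⊔ Q := fun x => by
      have h1 : ψ x ∈ φ.range ⊔ Q :=
        range_extension hψ₁ (imgHom_eq_of_forall le_sup_right hψ₂) ▸ ⟨x, rfl⟩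
      refine sup_le_sup_right (a := φ.range) ?_ Q h1
      rintro _ ⟨y, rfl⟩
      exact h y
    refine ⟨F.comp_mem hφ hχ h, hP, fun x => hχN _, _, F.comp_mem hψ hω hmem, fun x => ?_,
      β * α, K.mul_mem hβ hα, fun q => ?_⟩
    · show ω ⟨ψ _, _⟩ = χ ⟨φ x, h x⟩
      rw [← hω₁]
      exact congrArg ω (Subtype.ext (hψ₁ x))
    · show ω ⟨ψ _, _⟩ = (β (α q) : Ω)
      rw [← hω₂]
      exact congrArg ω (Subtype.ext (hψ₂ q))
  inv_mem := by
    rintro P φ ⟨hφ, hP, hφN, ψ, hψ, hψ₁, α, hα, hψ₂⟩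
    obtain ⟨e, he, heψ⟩ :=
      exists_iso hψ (range_extension hψ₁ (imgHom_eq_of_forall le_sup_right hψ₂))
    obtain ⟨f, hf, hfφ⟩ := exists_iso_range hφ
    refine ⟨P.subtype.comp f.symm.toMonoidHom, ⟨hf.symm, ?_, fun y => hP (f.symm y).2,
      _, he.symm, fun y => ?_, α⁻¹, K.inv_mem hα, fun q => ?_⟩, fun x => ?_⟩
    · rintro _ ⟨x, rfl⟩
      exact hφN x
    · obtain ⟨x, rfl⟩ := f.surjective y
      show (e.symm _ : Ω) = (f.symm (f x) : Ω)
      rw [MulEquiv.symm_apply_apply]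
      refine congrArg Subtype.val ((MulEquiv.symm_apply_eq e).2 ?_ :
        e.symm _ = Subgroup.inclusion le_sup_left x)
      refine Subtype.ext ?_
      rw [heψ, hψ₁, ← hfφ]
      rfl
    · show (e.symm _ : Ω) = (α.symm q : Ω)
      refine congrArg Subtype.val ((MulEquiv.symm_apply_eq e).2 ?_ :
        e.symm _ = Subgroup.inclusion le_sup_right (α.symm q))
      refine Subtype.ext ?_
      rw [heψ, hψ₂, MulEquiv.apply_symm_apply]
      rfl
    · show (f.symm ⟨φ x, _⟩ : Ω) = x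
      exact congrArg Subtype.val ((MulEquiv.symm_apply_eq f).2 (Subtype.ext (hfφ x).symm))

theorem exists_aut_iff {W : Subgroup Ω} {ψ : W →* Ω} (hψ : ψ ∈ F.Hom W) (hQ : Q ≤ W) :
    (∃ α ∈ (⊤ : Subgroup (MulAut Q)), ∀ q : Q, ψ (Subgroup.inclusion hQ q) = (α q : Ω)) ↔
      imgHom ψ Q = Q := by
  refine ⟨fun ⟨α, _, h⟩ => imgHom_eq_of_forall hQ h, fun h => ?_⟩
  obtain ⟨α, -, hα⟩ := exists_iso (restrict_mem hψ hQ) ((range_restrictHom ψ hQ).trans h)
  exact ⟨α, Subgroup.mem_top _, fun q => (hα q).symm⟩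

theorem kHom_top (F : FusionSystem S) (Q P : Subgroup Ω) :
    kHom F Q ⊤ (normalizerIn S Q) P = F.normalizerHom Q P := by
  ext φ
  refine and_congr_right fun _ => and_congr_right fun _ => and_congr_right fun _ => ?_
  refine exists_congr fun ψ => and_congr_right fun hψ => and_congr_right fun _ => ?_
  exact exists_aut_iff hψ le_sup_right

theorem kHom_bot (F : FusionSystem S) (Q P : Subgroup Ω) :
    kHom F Q ⊥ (centralizerIn S Q) P = F.centralizerHom Q P := by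
  ext φ
  refine and_congr_right fun _ => and_congr_right fun _ => and_congr_right fun _ => ?_
  refine exists_congr fun ψ => and_congr_right fun _ => and_congr_right fun _ => ?_
  refine ⟨fun ⟨α, hα, h⟩ q => ?_, fun h => ⟨1, rfl, h⟩⟩
  rw [h q, Subgroup.mem_bot.1 hα]
  rfl

theorem exists_isNormalizerSystem (F : FusionSystem S) (hQ : Q ≤ S) :
    ∃ E : FusionSystem (normalizerIn S Q), F.IsNormalizerSystem Q E :=
  ⟨kSystem F hQ ⊤ kNormalizer_top.symm, kHom_top F Q⟩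

theorem exists_isCentralizerSystem (F : FusionSystem S) (hQ : Q ≤ S) :
    ∃ E : FusionSystem (centralizerIn S Q), F.IsCentralizerSystem Q E :=
  ⟨kSystem F hQ ⊥ kNormalizer_bot.symm, kHom_bot F Q⟩

/-- Systems with the same maps are equal. -/
theorem fusionSystem_ext {E E' : FusionSystem S} (h : ∀ P, E.Hom P = E'.Hom P) : E = E' := by
  obtain ⟨H, _, _, _, _, _⟩ := E
  obtain ⟨H', _, _, _, _, _⟩ := E'
  obtain rfl : H = H' := funext h
  rfl

end CfsgLib.Fusion
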