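import Cfsg.Agent.FusionBiset.Transfer
import Cfsg.Agent.FusionPIndex.Basic
import Cfsg.Agent.Fusion.Hyperfocal
import Cfsg.Agent.Fusion.Sylow
import Cfsg.Agent.Fusion.Systems
import Cfsg.Agent.FusionClosed.StronglyClosed

/-!
# Saturated subsystems of `p`-power index

Given a homomorphism `q : S → A` onto a group of order `p` that is invariant under the saturated
system `F`, the transfer of a stable biset extends `q` to the bijections commuting with the right
action. The maps realised by bijections with trivial transfer form a saturated subsystem of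
`p`-power index over the kernel of `q`. Iterating gives such a subsystem over every subgroup
containing the hyperfocal subgroup.
-/

set_option autoImplicit false
set_option linter.style.haveILetI false

namespace CfsgLib.PPowerIndex

open Cfsg Cfsg.FusionSystem CfsgLib.Fusion CfsgLib.FusionBiset CfsgLib.FusionClosed

universe u v

variable {Ω : Type u} [Group Ω] {S : Subgroup Ω} {X : Type u} [MulAction (S × S) X]
variable {A : Type v} [CommGroup A] {p : ℕ}

/-- In a group of exponent `p`, an invariant function that is trivial on the fixed points of a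
`p`-group has trivial product. -/
theorem prod_eq_one_of_invariant [Fact p.Prime] {K Y : Type*} [Group K] [MulAction K Y]
    [Fintype Y] [Finite K] (hK : IsPGroup p K) (hA : ∀ a : A, a ^ p = 1) (g : Y → A)
    (hg : ∀ (k : K) (y : Y), g (k • y) = g y)
    (hfix : ∀ y : Y, (∀ k : K, k • y = y) → g y = 1) : ∏ y, g y = 1 := by
  classical
  letI : Fintype (Quotient (MulAction.orbitRel K Y)) := Fintype.ofFinite _
  letI : ∀ ω : Quotient (MulAction.orbitRel K Y), Fintype (MulAction.orbit K ω.out) :=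
    fun _ => Fintype.ofFinite _
  rw [← Fintype.prod_equiv (MulAction.selfEquivSigmaOrbits K Y).symm (fun z => g z.2.1) g
    (fun _ => rfl), Fintype.prod_sigma]
  refine Finset.prod_eq_one fun ω _ => ?_
  have hconst : ∀ z : MulAction.orbit K ω.out, g z.1 = g ω.out := by
    rintro ⟨_, k, rfl⟩
    exact hg k _
  rw [Finset.prod_congr rfl (fun z _ => hconst z), Finset.prod_const, Finset.card_univ]
  obtain ⟨n, hn⟩ := hK.card_orbit ω.out
  rw [← Nat.card_eq_fintype_card, hn]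
  cases n with
  | zero =>
    rw [pow_zero, pow_one]
    refine hfix _ fun k => ?_
    have : Subsingleton (MulAction.orbit K ω.out) :=
      (Nat.card_eq_one_iff_unique.1 (by rw [hn, pow_zero])).1
    exact congrArg Subtype.val (Subsingleton.elim
      (⟨k • ω.out, k, rfl⟩ : MulAction.orbit K ω.out) ⟨ω.out, MulAction.mem_orbit_self _⟩)
  | succ n => rw [pow_succ, mul_comm, pow_mul, hA, one_pow]

/-! ### Bijections commuting with the right action -/

/-- The bijections of `X` commuting with the right action of `S`. -/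
def rightPerms (S : Subgroup Ω) (X : Type u) [MulAction (S × S) X] :
    Subgroup (Equiv.Perm X) where
  carrier := {σ | ∀ (t : S) (z : X), σ (((1, t) : S × S) • z) = ((1, t) : S × S) • σ z}
  one_mem' := fun _ _ => rfl
  mul_mem' := fun {a b} ha hb t z => by
    show a (b _) = _ • a (b z)
    rw [hb, ha]
  inv_mem' := fun {a} ha t z => by
    apply a.injective
    rw [ha]
    simp

theorem left_mem (u : S) :
    MulAction.toPerm ((u, 1) : S × S) ∈ rightPerms S X := fun t z => by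
  show ((u, 1) : S × S) • ((1, t) : S × S) • z = ((1, t) : S × S) • ((u, 1) : S × S) • z
  simp only [← mul_smul, Prod.mk_mul_mk, mul_one, one_mul]

/-- The left action, as bijections commuting with the right action. -/
def left : S →* rightPerms S X :=
  MonoidHom.mk' (fun u => ⟨MulAction.toPerm ((u, 1) : S × S), left_mem u⟩) fun a b =>
    Subtype.ext (Equiv.ext fun z => by
      show ((a * b, 1) : S × S) • z = ((a, 1) : S × S) • ((b, 1) : S × S) • z
      rw [← mul_smul, Prod.mk_mul_mk, mul_one])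

theorem left_apply (u : S) (z : X) :
    ((left u : rightPerms S X) : Equiv.Perm X) z = ((u, 1) : S × S) • z := rfl

/-- `σ` realises `φ` on the left. -/
def Realises (σ : rightPerms S X) {P : Subgroup Ω} (φ : P →* Ω) : Prop :=
  ∀ (u v : S) (h : (u : Ω) ∈ P), φ ⟨u, h⟩ = v →
    ∀ z : X, (σ : Equiv.Perm X) (((u, 1) : S × S) • z) = ((v, 1) : S × S) • (σ : Equiv.Perm X) z

variable {F : FusionSystem S} {P Q : Subgroup Ω}

theorem Realises.comp {σ σ' : rightPerms S X} {φ : P →* Ω} {ψ : Q →* Ω} (hφS : ∀ x, φ x ∈ S)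
    (h : Realises σ φ) (h' : Realises σ' ψ) (hQ : ∀ x, φ x ∈ Q) {χ : P →* Ω}
    (hχ : ∀ x, χ x = ψ ⟨φ x, hQ x⟩) : Realises (σ' * σ) χ := by
  intro u v hu huv z
  show (σ' : Equiv.Perm X) ((σ : Equiv.Perm X) _) = _ • (σ' : Equiv.Perm X) ((σ : Equiv.Perm X) z)
  rw [h u ⟨φ ⟨u, hu⟩, hφS _⟩ hu rfl]
  exact h' ⟨φ ⟨u, hu⟩, hφS _⟩ v (hQ _) ((hχ _).symm.trans huv) _

theorem Realises.inv {σ : rightPerms S X} {φ : P →* Ω} (hφS : ∀ x, φ x ∈ S) (hP : P ≤ S)
    (h : Realises σ φ) {ψ : φ.range →* Ω} (hψ : ∀ x : P, ψ ⟨φ x, x, rfl⟩ = x) :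
    Realises σ⁻¹ ψ := by
  rintro u v hu huv z
  obtain ⟨x, hx⟩ := id hu
  have hv : (v : Ω) = x := by
    rw [← huv, show (⟨(u : Ω), hu⟩ : φ.range) = ⟨φ x, x, rfl⟩ from Subtype.ext hx.symm, hψ]
  show ((σ : Equiv.Perm X))⁻¹ _ = _ • ((σ : Equiv.Perm X))⁻¹ z
  apply (σ : Equiv.Perm X).injective
  rw [h v u (hv ▸ x.2) ((congrArg φ (Subtype.ext hv)).trans hx)]
  simp

theorem realises_left {φ : P →* Ω} {s : S}
    (h : ∀ x : P, φ x = s * (x : Ω) * (s : Ω)⁻¹) : Realises (X := X) (left s) φ := by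
  intro u v hu huv z
  have hv : v = s * u * s⁻¹ := Subtype.ext (by rw [← huv, h]; rfl)
  rw [left_apply, left_apply, hv, ← mul_smul, ← mul_smul, Prod.mk_mul_mk, Prod.mk_mul_mk,
    inv_mul_cancel_right]

theorem exists_realises [Finite X] [Finite S]
    (hst : ∀ x : X, Adm F (MulAction.stabilizer (S × S) x))
    (hbal : ∀ A B : Subgroup (S × S), Adm F A → Adm F B → SndConj A B → mark X A = mark X B)
    {φ : P →* Ω} (hφ : φ ∈ F.Hom P) : ∃ σ : rightPerms S X, Realises σ φ := by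
  obtain ⟨σ, h1, h2⟩ := exists_stable_perm hst hbal hφ
  refine ⟨⟨σ, h1⟩, fun u v hu huv z => ?_⟩
  obtain rfl : v = ⟨φ ⟨u, hu⟩, apply_mem hφ _⟩ := Subtype.ext huv.symm
  exact h2 ⟨u, hu⟩ z

theorem realises_pow {σ : rightPerms S X} {α : MulAut P} (hP : P ≤ S)
    (h : Realises σ (P.subtype.comp α.toMonoidHom)) (n : ℕ) :
    Realises (σ ^ n) (P.subtype.comp (α ^ n : MulAut P).toMonoidHom) := by
  induction n with
  | zero =>
    intro u v hu huv z
    obtain rfl : u = v := Subtype.ext huv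
    rw [pow_zero]
    rfl
  | succ n ih =>
    rw [pow_succ, pow_succ]
    exact Realises.comp (fun x => hP (α x).2) h ih (fun x => (α x).2) fun x => rfl

/-! ### The transfer -/

/-- `D` is equivariant for the right action. -/
def RightEq (q : S →* A) (D : X → A) : Prop :=
  ∀ (t : S) (x : X), D (((1, t) : S × S) • x) = q t * D x

variable [Fintype (Quotient (rightRel S S X))] {q : S →* A}

/-- The transfer of `σ` computed with `D`. -/
def transferFun (D : X → A) (hD : RightEq q D) (σ : rightPerms S X) : A :=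
  ∏ w : Quotient (rightRel S S X),
    Quotient.liftOn w (fun x => D ((σ : Equiv.Perm X) x) * (D x)⁻¹) (by
      rintro x _ ⟨t, rfl⟩
      show _ = D ((σ : Equiv.Perm X) (((1, t) : S × S) • x)) * _
      rw [σ.2, hD, hD, comm_cancel])

/-- The permutation of the right orbits induced by `σ`. -/
def orbitMap (σ : rightPerms S X) :
    Quotient (rightRel S S X) → Quotient (rightRel S S X) :=
  Quotient.map (σ : Equiv.Perm X) (by
    rintro x _ ⟨t, rfl⟩
    exact ⟨t, (σ.2 t x).symm⟩)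

theorem orbitMap_bijective (σ : rightPerms S X) : Function.Bijective (orbitMap σ) := by
  refine Finite.surjective_iff_bijective.1 fun w => ?_
  induction w using Quotient.inductionOn with
  | _ y => exact ⟨⟦(σ : Equiv.Perm X).symm y⟧,
      congrArg (Quotient.mk _) ((σ : Equiv.Perm X).apply_symm_apply y)⟩

theorem transferFun_mul (D : X → A) (hD : RightEq q D) (σ τ : rightPerms S X) :
    transferFun D hD (σ * τ) = transferFun D hD σ * transferFun D hD τ := by
  unfold transferFun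
  conv_rhs => rw [← Fintype.prod_bijective (orbitMap τ) (orbitMap_bijective τ) _ _ (fun w => rfl)]
  rw [← Finset.prod_mul_distrib]
  refine Finset.prod_congr rfl fun w _ => ?_
  induction w using Quotient.inductionOn with
  | _ x =>
    show D ((σ : Equiv.Perm X) ((τ : Equiv.Perm X) x)) * (D x)⁻¹ =
      D ((σ : Equiv.Perm X) ((τ : Equiv.Perm X) x)) * (D ((τ : Equiv.Perm X) x))⁻¹ *
        (D ((τ : Equiv.Perm X) x) * (D x)⁻¹)
    rw [mul_assoc, inv_mul_cancel_left]

/-- The transfer, as a homomorphism. -/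
def transfer (D : X → A) (hD : RightEq q D) : rightPerms S X →* A :=
  MonoidHom.mk' (transferFun D hD) (transferFun_mul D hD)

theorem transferFun_indep (D D' : X → A) (hD : RightEq q D) (hD' : RightEq q D')
    (σ : rightPerms S X) : transferFun D hD σ = transferFun D' hD' σ := by
  let c : Quotient (rightRel S S X) → A := fun w => Quotient.liftOn w (fun x => D x * (D' x)⁻¹) (by
    rintro x _ ⟨t, rfl⟩
    show D x * (D' x)⁻¹ = D _ * (D' _)⁻¹
    rw [hD t, hD' t, comm_cancel])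
  have heq : ∀ w : Quotient (rightRel S S X), ∀ (h1 h2),
      Quotient.liftOn w (fun x => D ((σ : Equiv.Perm X) x) * (D x)⁻¹) h1 =
        Quotient.liftOn w (fun x => D' ((σ : Equiv.Perm X) x) * (D' x)⁻¹) h2 *
          (c (orbitMap σ w) * (c w)⁻¹) := by
    intro w
    induction w using Quotient.inductionOn with
    | _ x =>
      intro h1 h2
      show D _ * (D x)⁻¹ = D' _ * (D' x)⁻¹ * ((D _ * (D' _)⁻¹) * (D x * (D' x)⁻¹)⁻¹)
      exact comm_change _ _ _ _
  unfold transferFun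
  rw [Finset.prod_congr rfl fun w _ => heq w _ _, Finset.prod_mul_distrib, Finset.prod_mul_distrib,
    Finset.prod_inv_distrib]
  rw [Fintype.prod_bijective (orbitMap σ) (orbitMap_bijective σ) (fun w => c (orbitMap σ w)) c
    fun w => rfl, mul_inv_cancel, mul_one]

omit [Fintype (Quotient (rightRel S S X))] in
theorem free_right (hst : ∀ x : X, Adm F (MulAction.stabilizer (S × S) x)) {x : X} {t : S}
    (h : ((1, t) : S × S) • x = x) : t = 1 := by
  obtain ⟨R, θ, hθ, hv⟩ := hst x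
  obtain ⟨hR, hθt⟩ := hv _ h
  exact Subtype.ext (congrArg Subtype.val
    (F.injective_of_mem hθ (hθt.trans (map_one θ).symm) : (⟨t, hR⟩ : R) = 1) :)

omit [Fintype (Quotient (rightRel S S X))] in
theorem stab_unique (hst : ∀ x : X, Adm F (MulAction.stabilizer (S × S) x)) {x : X} {u t t' : S}
    (h : ((u, t) : S × S) • x = x) (h' : ((u, t') : S × S) • x = x) : t = t' := by
  have e : ((1, t'⁻¹ * t) : S × S) = ((u, t') : S × S)⁻¹ * ((u, t) : S × S) := by simp
  refine (inv_mul_eq_one.1 (free_right hst (x := x) ?_)).symm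
  rw [e, mul_smul, h, inv_smul_eq_iff, h']

omit [Fintype (Quotient (rightRel S S X))] in
theorem stab_q (hst : ∀ x : X, Adm F (MulAction.stabilizer (S × S) x))
    (hfoc : ∀ {R : Subgroup Ω} {θ : R →* Ω} (hθ : θ ∈ F.Hom R) (x : R),
      q ⟨θ x, apply_mem hθ x⟩ = q ⟨x, le_left hθ x.2⟩)
    {x : X} {u t : S} (h : ((u, t) : S × S) • x = x) : q u = q t := by
  obtain ⟨R, θ, hθ, hv⟩ := hst x
  obtain ⟨hR, hθt⟩ := hv _ h
  have := hfoc hθ ⟨t, hR⟩
  rw [show (⟨θ ⟨(t : Ω), hR⟩, apply_mem hθ _⟩ : S) = u from Subtype.ext hθt] at this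
  exact this

/-- A bijection centralising the left action of a fully centralised `P` has trivial transfer when
the centraliser of `P` lies in the kernel. -/
theorem transfer_eq_one [Finite S] [Fact p.Prime] (hS : IsPGroup p S) (hF : F.IsSaturated p)
    (hA : ∀ a : A, a ^ p = 1)
    (hst : ∀ x : X, Adm F (MulAction.stabilizer (S × S) x))
    (hfoc : ∀ {R : Subgroup Ω} {θ : R →* Ω} (hθ : θ ∈ F.Hom R) (x : R),
      q ⟨θ x, apply_mem hθ x⟩ = q ⟨x, le_left hθ x.2⟩)
    (D : X → A) (hD : RightEq q D)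
    (hDl : ∀ (u : S) (x : X), D (((u, 1) : S × S) • x) = (q u)⁻¹ * D x)
    (hP : F.IsFullyCentralized P) (hC : ∀ s : S, (s : Ω) ∈ centralizerIn S P → q s = 1)
    {c : rightPerms S X}
    (hc : ∀ u : S, (u : Ω) ∈ P → ∀ z : X,
      (c : Equiv.Perm X) (((u, 1) : S × S) • z) = ((u, 1) : S × S) • (c : Equiv.Perm X) z) :
    transfer D hD c = 1 := by
  classical
  let Fix : X → Prop := fun x => ∀ u : P, ∃ t : S, ((⟨u, hP.1 u.2⟩, t) : S × S) • x = x
  have hFix1 : ∀ (s : S) (x : X), Fix x → Fix (((1, s) : S × S) • x) := by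
    intro s x hx u
    obtain ⟨t, ht⟩ := hx u
    refine ⟨s * t * s⁻¹, ?_⟩
    conv_rhs => rw [← ht]
    simp [← mul_smul]
  have hFix1' : ∀ (s : S) (x : X), Fix (((1, s) : S × S) • x) ↔ Fix x := by
    refine fun s x => ⟨fun h => ?_, hFix1 s x⟩
    have h2 := hFix1 s⁻¹ _ h
    rwa [← mul_smul, Prod.mk_mul_mk, one_mul, inv_mul_cancel,
      show ((1, 1) : S × S) = 1 from rfl, one_smul] at h2
  have hcu : ∀ (u : P) (t : S) (z : X), (c : Equiv.Perm X) (((⟨u, hP.1 u.2⟩, t) : S × S) • z) =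
      ((⟨u, hP.1 u.2⟩, t) : S × S) • (c : Equiv.Perm X) z := by
    intro u t z
    have e : ((⟨u, hP.1 u.2⟩, t) : S × S) = ((⟨u, hP.1 u.2⟩, 1) : S × S) * ((1, t) : S × S) := by
      simp
    rw [e, mul_smul, mul_smul, hc _ u.2, c.2]
  -- the equivariant function on the maps `P → S`
  let Y := {f : P → S // ∀ t : S, (∀ u, t * f u * t⁻¹ = f u) → q t = 1}
  letI : MulAction S Y :=
    { smul := fun s f => ⟨fun u => s * f.1 u * s⁻¹, fun t ht => by
        have h := f.2 (s⁻¹ * t * s) fun u => by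
          have := congrArg (fun w => s⁻¹ * w * s) (ht u)
          simpa [mul_assoc] using this
        rwa [map_mul, map_mul, map_inv, mul_comm, mul_inv_cancel_left] at h⟩
      one_smul := fun f => Subtype.ext (funext fun u => by
        show 1 * f.1 u * 1⁻¹ = f.1 u
        simp)
      mul_smul := fun a b f => Subtype.ext (funext fun u => by
        show a * b * f.1 u * (a * b)⁻¹ = a * (b * f.1 u * b⁻¹) * a⁻¹
        simp [mul_assoc]) }
  obtain ⟨ξ, hξ⟩ := exists_equivariant (X := Y) q fun f t ht => by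
    refine f.2 t fun u => ?_
    have h := congrArg (fun g : Y => g.1 u) (MulAction.mem_stabilizer_iff.1 ht)
    exact h
  choose! ψ hψ using fun (x : X) (h : Fix x) => h
  have hψeq : ∀ (x : X), Fix x → ∀ (u : P) (t : S),
      ((⟨u, hP.1 u.2⟩, t) : S × S) • x = x → ψ x u = t := fun x hx u t h =>
    stab_unique hst (hψ x hx u) h
  have hψY : ∀ x : X, Fix x → ∀ t : S, (∀ u, t * ψ x u * t⁻¹ = ψ x u) → q t = 1 := by
    intro x hx t ht
    obtain ⟨R, θ, hθ, hv⟩ := hst x
    let B : Subgroup S := ((MulAction.stabilizer (S × S) x).comap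
      ((Subgroup.inclusion hP.1).prodMap (MonoidHom.id S))).map (MonoidHom.snd P S)
    let W : Subgroup Ω := B.map S.subtype
    have hWR : W ≤ R := by
      rintro _ ⟨_, ⟨a, ha, rfl⟩, rfl⟩
      exact (hv _ ha).1
    have hr : (restrictHom θ hWR).range = P := by
      ext y
      constructor
      · rintro ⟨⟨_, _, ⟨a, ha, rfl⟩, rfl⟩, rfl⟩
        obtain ⟨h1, h2⟩ := hv _ ha
        show θ _ ∈ P
        exact Eq.mpr (congrArg (· ∈ P) h2) a.1.2
      · intro hy
        obtain ⟨h1, h2⟩ := hv _ (hψ x hx ⟨y, hy⟩)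
        exact ⟨⟨(ψ x ⟨y, hy⟩ : S), ψ x ⟨y, hy⟩,
          ⟨(⟨y, hy⟩, ψ x ⟨y, hy⟩), hψ x hx ⟨y, hy⟩, rfl⟩, rfl⟩, h2⟩
    obtain ⟨e, he, -⟩ := exists_iso (restrict_mem hθ hWR) hr
    obtain ⟨θ', hθ', hθv⟩ := exists_extension (T := W ⊔ centralizerIn S W)
      (receptive_of_fullyCentralized hS hF hP) he
      (sup_le (le_extender he.le_left (F.le_of_mem he).2) (centralizerIn_le_extender _))
    have htW : (t : Ω) ∈ centralizerIn S W := by
      refine mem_centralizerIn'.2 ⟨t.2, ?_⟩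
      rintro _ ⟨_, ⟨a, ha, rfl⟩, rfl⟩
      have h := ht a.1
      rw [hψeq x hx a.1 a.2 ha] at h
      exact congrArg Subtype.val h
    have himg := imgHom_eq_of_agree le_sup_left hθv
    have h1 := map_mem_centralizer (ψ := θ') le_sup_left
      (g := ⟨t, Subgroup.mem_sup_right htW⟩) htW.2
    rw [himg] at h1
    rw [← hC ⟨_, apply_mem hθ' _⟩ ⟨apply_mem hθ' _, h1⟩]
    exact (hfoc hθ' ⟨t, Subgroup.mem_sup_right htW⟩).symm
  let D' : X → A := fun x => if h : Fix x then ξ ⟨ψ x, hψY x h⟩ else D x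
  have hD' : RightEq q D' := by
    intro s x
    by_cases hx : Fix x
    · simp only [D', dif_pos hx, dif_pos (hFix1 s x hx)]
      rw [← hξ]
      refine congrArg ξ (Subtype.ext (funext fun u => ?_))
      show _ = s * ψ x u * s⁻¹
      refine hψeq _ (hFix1 s x hx) u _ ?_
      conv_rhs => rw [← hψ x hx u]
      simp [← mul_smul]
    · simp only [D', dif_neg hx, dif_neg fun h => hx ((hFix1' s x).1 h)]
      exact hD s x
  have hD'l : ∀ (u : P) (x : X), D' (((⟨u, hP.1 u.2⟩, 1) : S × S) • x) =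
      (q ⟨u, hP.1 u.2⟩)⁻¹ * D' x := by
    intro u x
    by_cases hx : Fix x
    · obtain ⟨t, ht⟩ := hx u
      have e : ((⟨u, hP.1 u.2⟩, 1) : S × S) • x = ((1, t⁻¹) : S × S) • x := by
        conv_rhs => rw [← ht, ← mul_smul, Prod.mk_mul_mk, one_mul, inv_mul_cancel]
      rw [e, hD', map_inv, stab_q hst hfoc ht]
    · have hx' : ¬ Fix (((⟨u, hP.1 u.2⟩, 1) : S × S) • x) := by
        intro h
        obtain ⟨t, ht⟩ := h u⁻¹
        refine hx ((hFix1' t x).1 ?_)
        rw [← mul_smul, Prod.mk_mul_mk, mul_one,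
          show (⟨((u⁻¹ : P) : Ω), hP.1 (u⁻¹).2⟩ : S) * ⟨u, hP.1 u.2⟩ = 1 from
            Subtype.ext (inv_mul_cancel (u : Ω))] at ht
        rw [ht]
        exact h
      simp only [D', dif_neg hx, dif_neg hx']
      exact hDl _ x
  show transferFun D hD c = 1
  rw [transferFun_indep D D' hD hD']
  letI : MulAction P (Quotient (rightRel S S X)) :=
    { smul := fun u => orbitMap (left ⟨u, hP.1 u.2⟩)
      one_smul := fun w => by
        induction w using Quotient.inductionOn with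
        | _ x =>
          refine congrArg (Quotient.mk _) ?_
          show ((1, 1) : S × S) • x = x
          exact one_smul _ x
      mul_smul := fun a b w => by
        induction w using Quotient.inductionOn with
        | _ x =>
          refine congrArg (Quotient.mk _) ?_
          show ((⟨((a * b : P) : Ω), hP.1 (a * b).2⟩ : S), (1 : S)) • x =
            (((⟨(a : Ω), hP.1 a.2⟩ : S), (1 : S))) • (((⟨(b : Ω), hP.1 b.2⟩ : S), (1 : S))) • x
          rw [← mul_smul, Prod.mk_mul_mk, mul_one]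
          rfl }
  haveI := finite_of_le hP.1
  refine prod_eq_one_of_invariant (K := P) (hS.to_le hP.1) hA _ (fun u w => ?_) (fun w hw => ?_)
  · induction w using Quotient.inductionOn with
    | _ x =>
      show D' ((c : Equiv.Perm X) (((⟨u, hP.1 u.2⟩, 1) : S × S) • x)) *
        (D' (((⟨u, hP.1 u.2⟩, 1) : S × S) • x))⁻¹ = D' ((c : Equiv.Perm X) x) * (D' x)⁻¹
      rw [hc _ u.2, hD'l, hD'l, comm_cancel]
  · induction w using Quotient.inductionOn with
    | _ x =>
      have hx : Fix x := fun u => by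
        obtain ⟨t, ht⟩ := Quotient.exact (hw u)
        refine ⟨t, ?_⟩
        have ht' : ((1, t) : S × S) • ((⟨u, hP.1 u.2⟩, 1) : S × S) • x = x := ht
        rwa [← mul_smul, Prod.mk_mul_mk, one_mul, mul_one] at ht'
      have hcx : Fix ((c : Equiv.Perm X) x) := fun u => ⟨ψ x u, by rw [← hcu, hψ x hx u]⟩
      show D' ((c : Equiv.Perm X) x) * (D' x)⁻¹ = 1
      rw [mul_inv_eq_one]
      simp only [D', dif_pos hx, dif_pos hcx]
      exact congrArg ξ (Subtype.ext (funext fun u =>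
        hψeq _ hcx u _ (by rw [← hcu, hψ x hx u])))

/-- The number of right orbits. -/
theorem card_orbits (hst : ∀ x : X, Adm F (MulAction.stabilizer (S × S) x)) :
    Nat.card X = Nat.card S * Nat.card (Quotient (rightRel S S X)) := by
  rw [← Nat.card_prod]
  refine Nat.card_congr (Equiv.ofBijective
    (fun a : S × Quotient (rightRel S S X) => ((1, a.1) : S × S) • a.2.out) ⟨?_, ?_⟩).symm
  · rintro ⟨a, w⟩ ⟨b, w'⟩ h
    simp only at h
    have e : ((1, b⁻¹ * a) : S × S) = ((1, b) : S × S)⁻¹ * ((1, a) : S × S) := by simp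
    have hw : w = w' := by
      rw [← Quotient.out_eq w, ← Quotient.out_eq w']
      refine Quotient.sound ⟨b⁻¹ * a, ?_⟩
      rw [e, mul_smul, h, inv_smul_smul]
    subst hw
    have hab : b⁻¹ * a = 1 := free_right hst (x := w.out) (by
      rw [e, mul_smul, h, inv_smul_smul])
    rw [inv_mul_eq_one] at hab
    subst hab
    rfl
  · intro x
    obtain ⟨s, hs⟩ := Quotient.mk_out (s := rightRel S S X) x
    exact ⟨(s, ⟦x⟧), hs⟩

omit [MulAction (S × S) X] in
/-- Conjugating by an element of `S` preserves being fully normalised. -/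
theorem isFullyNormalized_conj [Finite S] (hQ : F.IsFullyNormalized Q) {s : Ω} (hs : s ∈ S) :
    F.IsFullyNormalized (conjHom Q s).range := by
  have hconj : F.IsConj Q (conjHom Q s).range := ⟨_, F.conj_mem hQ.1 hs, rfl⟩
  refine ⟨le_of_isConj_right hconj, fun R hR => (hQ.2 R (isConj_trans hconj hR)).trans ?_⟩
  haveI := finite_of_le (normalizerIn_le S (conjHom Q s).range)
  refine Nat.card_le_card_of_injective (fun n : normalizerIn S Q =>
    (⟨s * n * s⁻¹, S.mul_mem (S.mul_mem hs n.2.1) (S.inv_mem hs), ?_⟩ :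
      normalizerIn S (conjHom Q s).range)) fun a b h => Subtype.ext
        (mul_left_cancel (mul_right_cancel (congrArg Subtype.val h)))
  apply Subgroup.mem_normalizer_iff.2
  intro y
  constructor
  · rintro ⟨x, rfl⟩
    refine ⟨⟨n * x * (n : Ω)⁻¹, (Subgroup.mem_normalizer_iff.1 n.2.2 x).1 x.2⟩, ?_⟩
    show s * ((n : Ω) * x * (n : Ω)⁻¹) * s⁻¹ = s * n * s⁻¹ * (s * (x : Ω) * s⁻¹) * (s * n * s⁻¹)⁻¹
    group
  · rintro ⟨x, hx⟩
    refine ⟨⟨(n : Ω)⁻¹ * x * n, (Subgroup.mem_normalizer_iff''.1 n.2.2 x).1 x.2⟩, ?_⟩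
    have hx' : s * (x : Ω) * s⁻¹ = s * n * s⁻¹ * y * (s * n * s⁻¹)⁻¹ := hx
    show s * ((n : Ω)⁻¹ * x * n) * s⁻¹ = y
    calc _ = (s * n * s⁻¹)⁻¹ * (s * (x : Ω) * s⁻¹) * (s * n * s⁻¹) := by group
      _ = y := by rw [hx']; group

/-- The maps realised with trivial transfer. -/
def kerSystem (F : FusionSystem S) (τ : rightPerms S X →* A) {M : Subgroup Ω}
    (hMc : F.StronglyClosed M) (hτ : ∀ s : S, (s : Ω) ∈ M → τ (left s) = 1) : FusionSystem M where
  Hom P := {φ | φ ∈ F.Hom P ∧ P ≤ M ∧ ∃ σ, τ σ = 1 ∧ Realises σ φ}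
  le_of_mem h := ⟨h.2.1, fun x => apply_mem_stronglyClosed hMc h.1 (h.2.1 x.2)⟩
  injective_of_mem h := F.injective_of_mem h.1
  conj_mem := fun {P g} hP hg =>
    ⟨F.conj_mem (hP.trans hMc.1) (hMc.1 hg), hP, left ⟨g, hMc.1 hg⟩, hτ _ hg,
      realises_left fun _ => rfl⟩
  comp_mem := by
    rintro P Q φ ψ ⟨hφ, hP, σ, hσ, hσr⟩ ⟨hψ, -, σ', hσ', hσ'r⟩ h
    exact ⟨F.comp_mem hφ hψ h, hP, σ' * σ, by rw [map_mul, hσ, hσ', one_mul],
      hσr.comp (apply_mem hφ) hσ'r h fun x => rfl⟩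
  inv_mem := by
    rintro P φ ⟨hφ, hP, σ, hσ, hσr⟩
    obtain ⟨ψ, hψ, hψv⟩ := F.inv_mem hφ
    refine ⟨ψ, ⟨hψ, ?_, σ⁻¹, by rw [map_inv, hσ, inv_one],
      hσr.inv (apply_mem hφ) (hP.trans hMc.1) hψv⟩, hψv⟩
    rintro _ ⟨x, rfl⟩
    exact apply_mem_stronglyClosed hMc hφ (hP x.2)

end CfsgLib.PPowerIndex

namespace CfsgLib.PPowerIndex

open Cfsg Cfsg.FusionSystem CfsgLib.Fusion CfsgLib.FusionBiset CfsgLib.FusionClosed

universe u v

variable {Ω : Type u} [Group Ω] {S : Subgroup Ω} {F : FusionSystem S} {p : ℕ}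
variable {A : Type v} [CommGroup A] {X : Type u} [MulAction (S × S) X]

theorem kerSystem_hasPPowerIndexIn [Finite X] [Finite S] [Fact p.Prime]
    (hA : ∀ a : A, a ^ p = 1) (τ : rightPerms S X →* A) {M : Subgroup Ω}
    (hMc : F.StronglyClosed M) (hτ : ∀ s : S, (s : Ω) ∈ M → τ (left s) = 1)
    (hreal : ∀ {R : Subgroup Ω} {φ : R →* Ω}, φ ∈ F.Hom R → ∃ σ : rightPerms S X, Realises σ φ)
    (hhyp : F.hyperfocalSubgroup p ≤ M) :
    (kerSystem F τ hMc hτ).HasPPowerIndexIn F p := by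
  refine ⟨fun P φ h => h.1, hhyp, fun P hP => ?_⟩
  have hPS := hP.trans hMc.1
  haveI := finite_of_le hPS
  rw [CfsgLib.Transfer.map_subtype_pResidual, Subgroup.closure_le]
  rintro a ⟨ha, hcop⟩
  obtain ⟨σ, hσ⟩ := hreal ((mem_autGroup_iff hPS).1 ha)
  obtain ⟨n, hn⟩ := exists_pow_eq_self_of_coprime (x := a) hcop.symm
  refine IsIso.mem_autGroup ⟨(mem_autGroup_iff hPS).1 ha, hP, (σ ^ p) ^ n, ?_, ?_⟩
  · rw [map_pow, map_pow, hA, one_pow]
  · rw [← pow_mul]
    have h := realises_pow hPS hσ (p * n)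
    rwa [pow_mul a, hn] at h

/-- Saturation of the subsystem of maps with trivial transfer. -/
theorem kerSystem_isSaturated [Finite X] [Finite S] [Fact p.Prime]
    [Fintype (Quotient (rightRel S S X))] (hS : IsPGroup p S) (hF : F.IsSaturated p)
    (hst : ∀ x : X, Adm F (MulAction.stabilizer (S × S) x))
    {q : S →* A} (hA : ∀ a : A, a ^ p = 1)
    (hfoc : ∀ {R : Subgroup Ω} {θ : R →* Ω} (hθ : θ ∈ F.Hom R) (x : R),
      q ⟨θ x, apply_mem hθ x⟩ = q ⟨x, le_left hθ x.2⟩)
    (D : X → A) (hD : RightEq q D)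
    (hDl : ∀ (u : S) (x : X), D (((u, 1) : S × S) • x) = (q u)⁻¹ * D x)
    {M : Subgroup Ω} (hMc : F.StronglyClosed M)
    (hker : ∀ s : S, transfer D hD (left s) = 1 ↔ (s : Ω) ∈ M)
    (hMq : ∀ s : S, q s = 1 ↔ (s : Ω) ∈ M)
    (hgen : ∀ s : S, (s : Ω) ∉ M → ∀ a : A, ∃ n : ℕ, (transfer D hD (left s)) ^ n = a)
    (hne : ∃ s : S, (s : Ω) ∉ M)
    (hreal : ∀ {R : Subgroup Ω} {φ : R →* Ω}, φ ∈ F.Hom R → ∃ σ : rightPerms S X, Realises σ φ) :
    (kerSystem F (transfer D hD) hMc fun s hs => (hker s).2 hs).IsSaturated p := by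
  classical
  set τ := transfer D hD with hτdef
  set E := kerSystem F τ hMc fun s hs => (hker s).2 hs
  intro P hP
  have hPS := hP.trans hMc.1
  obtain ⟨Q₀, hconj, hQ₀n⟩ := exists_fullyNormalized (F := F) hPS
  obtain ⟨φ, hφ, hr⟩ := hconj
  obtain ⟨σ, hσ⟩ := hreal hφ
  obtain ⟨s₀, hs₀⟩ := hne
  obtain ⟨n, hn⟩ := hgen s₀ hs₀ (τ σ)⁻¹
  let s : S := s₀ ^ n
  have hQn := isFullyNormalized_conj hQ₀n s.2
  let Q : Subgroup Ω := (conjHom Q₀ (s : Ω)).range
  have hφQ : ∀ x, φ x ∈ Q₀ := fun x => hr ▸ ⟨x, rfl⟩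
  let χ : P →* Ω := (conjHom Q₀ (s : Ω)).comp (φ.codRestrict Q₀ hφQ)
  have hχ : χ ∈ E.Hom P := by
    refine ⟨F.comp_mem hφ (F.conj_mem hQ₀n.1 s.2) hφQ, hP, left s * σ, ?_,
      hσ.comp (apply_mem hφ) (realises_left (φ := conjHom Q₀ (s : Ω)) fun _ => rfl) hφQ
        fun x => rfl⟩
    rw [map_mul, map_pow, map_pow, hn, inv_mul_cancel]
  have hχr : χ.range = Q := by
    ext y
    constructor
    · rintro ⟨x, rfl⟩
      exact ⟨_, rfl⟩
    · rintro ⟨⟨z, hz⟩, rfl⟩
      obtain ⟨x, rfl⟩ := hr ▸ hz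
      exact ⟨x, rfl⟩
  refine ⟨Q, ⟨χ, hχ, hχr⟩, ?_⟩
  have hQM : Q ≤ M := hχr ▸ fun y ⟨x, hx⟩ => hx ▸ apply_mem hχ x
  have hQS := hQn.1
  haveI := finite_of_le hQS
  obtain ⟨hQa, hQr⟩ := automized_receptive hS hF hQn
  have hQc := isFullyCentralized_of_receptive hQr
  -- an element of the centraliser of `Q` corrects the transfer
  have hfix : ∀ c : rightPerms S X,
      (∀ u : S, (u : Ω) ∈ Q → ∀ z : X,
        (c : Equiv.Perm X) (((u, 1) : S × S) • z) = ((u, 1) : S × S) • (c : Equiv.Perm X) z) →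
      ∃ d : S, (d : Ω) ∈ centralizerIn S Q ∧ τ (left d) = τ c := by
    intro c hc
    by_cases hC : ∀ d : S, (d : Ω) ∈ centralizerIn S Q → q d = 1
    · exact ⟨1, (centralizerIn S Q).one_mem, by
        rw [map_one, map_one]
        exact (transfer_eq_one hS hF hA hst hfoc D hD hDl hQc hC hc).symm⟩
    · push_neg at hC
      obtain ⟨d, hd, hd1⟩ := hC
      obtain ⟨m, hm⟩ := hgen d (fun h => hd1 ((hMq d).2 h)) (τ c)
      exact ⟨d ^ m, by simpa using (centralizerIn S Q).pow_mem hd m,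
        by rw [map_pow, map_pow, hm]⟩
  constructor
  · -- fully automized
    refine ⟨hQM, ?_⟩
    haveI : Finite (MulAut Q) := inferInstance
    have hle : E.autGroup Q ≤ F.autGroup Q := fun α hα =>
      (mem_autGroup_iff hQS).2 ((mem_autGroup_iff hQM).1 hα).1
    have hnorm : ∀ β ∈ F.autGroup Q, ∀ α ∈ E.autGroup Q, β * α * β⁻¹ ∈ E.autGroup Q := by
      intro β hβ α hα
      obtain ⟨hαF, -, σα, hσα, hσαr⟩ := (mem_autGroup_iff hQM).1 hα
      obtain ⟨ρ, hρ⟩ := hreal ((mem_autGroup_iff hQS).1 hβ)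
      obtain ⟨ρ', hρ'⟩ := hreal ((mem_autGroup_iff hQS).1 (inv_mem hβ))
      refine IsIso.mem_autGroup ⟨(mem_autGroup_iff hQS).1
        (mul_mem (mul_mem hβ (hle hα)) (inv_mem hβ)), hQM, ρ * σα * ρ⁻¹,
        by rw [map_mul, map_mul, map_inv, hσα, mul_one, mul_inv_cancel], ?_⟩
      intro u v hu huv z
      have huv' : ((β (α (β⁻¹ ⟨u, hu⟩)) : Q) : Ω) = v := huv
      let w : Q := β⁻¹ ⟨u, hu⟩
      have h1 : (ρ : Equiv.Perm X) (((⟨w, hQS w.2⟩, 1) : S × S) •
          (ρ : Equiv.Perm X).symm z) = ((u, 1) : S × S) • z := by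
        rw [hρ ⟨w, hQS w.2⟩ u w.2 (congrArg Subtype.val (MulAut.apply_inv_self Q β ⟨u, hu⟩))]
        simp
      show (ρ : Equiv.Perm X) ((σα : Equiv.Perm X) ((ρ : Equiv.Perm X).symm _)) =
        _ • (ρ : Equiv.Perm X) ((σα : Equiv.Perm X) ((ρ : Equiv.Perm X).symm z))
      rw [← h1, Equiv.symm_apply_apply,
        hσαr ⟨w, hQS w.2⟩ ⟨(α w : Q), hQS (α w).2⟩ w.2 rfl,
        hρ ⟨(α w : Q), hQS (α w).2⟩ v (α w).2 huv']
    have hn : F.autGroup Q ≤ Subgroup.normalizer (E.autGroup Q : Set (MulAut Q)) := by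
      intro β hβ
      rw [Subgroup.mem_normalizer_iff]
      refine fun α => ⟨hnorm β hβ α, fun h => ?_⟩
      have h2 := hnorm β⁻¹ (inv_mem hβ) _ h
      simpa [mul_assoc] using h2
    have hSyl := IsSylowIn.inf_normal (hQa.2 : IsSylowIn p (F.autGroup Q) (autInducedBy S Q))
      (autInducedBy_le_autGroup hQS) hle hn
    have heq : autInducedBy S Q ⊓ E.autGroup Q = autInducedBy M Q := by
      refine le_antisymm ?_ (le_inf (autInducedBy_mono hMc.1 Q) (autInducedBy_le_autGroup hQM))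
      rintro α ⟨hαS, hαE⟩
      obtain ⟨g, hg, hgN, hgα⟩ := mem_autInducedBy_iff.1 hαS
      obtain ⟨-, -, σα, hσα, hσαr⟩ := (mem_autGroup_iff hQM).1 hαE
      have hgr : Realises (X := X) (left ⟨g, hg⟩) (Q.subtype.comp α.toMonoidHom) :=
        realises_left hgα
      obtain ⟨d, hd, hdτ⟩ := hfix (σα⁻¹ * left ⟨g, hg⟩) fun u hu z => by
        show (σα : Equiv.Perm X)⁻¹ _ = _ • (σα : Equiv.Perm X)⁻¹ _
        apply (σα : Equiv.Perm X).injective
        rw [hgr u ⟨(α ⟨u, hu⟩ : Q), hQS (α _).2⟩ hu rfl,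
          hσαr u ⟨(α ⟨u, hu⟩ : Q), hQS (α _).2⟩ hu rfl]
        simp
      have hM : ((⟨g, hg⟩ * d⁻¹ : S) : Ω) ∈ M := by
        refine (hker _).1 ?_
        rw [map_mul, map_mul, map_inv, map_inv, hdτ, map_mul, map_inv, hσα, inv_one, one_mul,
          mul_inv_cancel]
      refine Subgroup.subset_closure ⟨_, hM, fun x => ?_⟩
      have hdx := (mem_centralizerIn'.1 ((centralizerIn S Q).inv_mem hd)).2 x x.2
      rw [hgα]
      show g * (x : Ω) * g⁻¹ = g * (d : Ω)⁻¹ * x * (g * (d : Ω)⁻¹)⁻¹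
      conv_lhs => rw [← hdx]
      group
    exact (heq ▸ hSyl : IsSylowIn p (E.autGroup Q) (autInducedBy M Q))
  · -- receptive
    refine ⟨hQM, fun R θ hθ hθr => ?_⟩
    obtain ⟨hθF, hRM, σ₀, hσ₀, hσ₀r⟩ := hθ
    obtain ⟨ψ₀, hψ₀, hψ₀v⟩ := hQr.2 R θ hθF hθr
    have hle : extender M R θ ≤ extender S R θ := Subgroup.closure_mono
      fun g ⟨hg, hgN, h, hh, hv⟩ => ⟨hMc.1 hg, hgN, h, hMc.1 hh, hv⟩
    have hRN : R ≤ extender M R θ :=
      le_extender hRM fun x => apply_mem_stronglyClosed hMc hθF (hRM x.2)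
    let ψ := restrictHom ψ₀ hle
    have hψ : ψ ∈ F.Hom (extender M R θ) := restrict_mem hψ₀ hle
    obtain ⟨σ₁, hσ₁⟩ := hreal hψ
    obtain ⟨d, hd, hdτ⟩ := hfix (σ₁ * σ₀⁻¹) fun v hv z => by
      obtain ⟨x, hx⟩ := hθr ▸ hv
      have hxS : (x : Ω) ∈ S := hMc.1 (hRM x.2)
      show (σ₁ : Equiv.Perm X) ((σ₀ : Equiv.Perm X).symm _) =
        _ • (σ₁ : Equiv.Perm X) ((σ₀ : Equiv.Perm X).symm z)
      have h1 := hσ₀r ⟨x, hxS⟩ v x.2 hx ((σ₀ : Equiv.Perm X).symm z)
      rw [Equiv.apply_symm_apply] at h1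
      rw [← h1, Equiv.symm_apply_apply]
      refine hσ₁ ⟨x, hxS⟩ v (hRN x.2) ?_ _
      exact (hψ₀v x x.2 (hle (hRN x.2))).trans hx
    let ψ' : ↥(extender M R θ) →* Ω :=
      (conjHom S ((d⁻¹ : S) : Ω)).comp (ψ.codRestrict S (apply_mem hψ))
    refine ⟨ψ', ⟨F.comp_mem hψ (F.conj_mem le_rfl (d⁻¹).2) (apply_mem hψ),
      (extender_le_normalizerIn θ).trans (normalizerIn_le M R), left d⁻¹ * σ₁, ?_,
      hσ₁.comp (apply_mem hψ) (realises_left (φ := conjHom S ((d⁻¹ : S) : Ω)) fun _ => rfl)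
        (apply_mem hψ) fun x => rfl⟩, ?_⟩
    · rw [map_mul, map_inv, map_inv, hdτ, map_mul, map_inv, hσ₀, inv_one, mul_one, inv_mul_cancel]
    · intro x hx hN
      show ((d⁻¹ : S) : Ω) * ψ₀ ⟨x, _⟩ * ((d⁻¹ : S) : Ω)⁻¹ = θ ⟨x, hx⟩
      rw [hψ₀v x hx (hle hN)]
      exact (mem_centralizerIn'.1 ((centralizerIn S Q).inv_mem hd)).2 _ (hθr ▸ ⟨_, rfl⟩)

/-- The subsystem over a subgroup of index `p`. -/
theorem exists_index_prime [Finite S] [Fact p.Prime] (hS : IsPGroup p S) (hF : F.IsSaturated p)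
    {M : Subgroup Ω} (hM : M ≤ S) (hidx : (M.subgroupOf S).index = p)
    (hhyp : F.hyperfocalSubgroup p ≤ M) :
    ∃ E : FusionSystem M, E.IsSaturated p ∧ E.HasPPowerIndexIn F p := by
  classical
  set M' := M.subgroupOf S with hM'
  haveI : M'.Normal := by
    refine Subgroup.normal_of_index_eq_minFac_card ?_
    obtain ⟨m, hm⟩ := hS.exists_card_eq
    have hm0 : m ≠ 0 := by
      rintro rfl
      have h := M'.index_dvd_card
      rw [hidx, hm, pow_zero, Nat.dvd_one] at h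
      exact (Fact.out : p.Prime).ne_one h
    rw [hidx, hm, Nat.pow_minFac hm0, (Fact.out : p.Prime).minFac_eq]
  let A := S ⧸ M'
  have hcardA : Nat.card A = p := hidx
  haveI : IsCyclic A := isCyclic_of_prime_card hcardA
  letI : CommGroup A := IsCyclic.commGroup
  let q : S →* A := QuotientGroup.mk' M'
  have hMq : ∀ s : S, q s = 1 ↔ (s : Ω) ∈ M := fun s =>
    (QuotientGroup.eq_one_iff s).trans Subgroup.mem_subgroupOf
  have hA : ∀ a : A, a ^ p = 1 := fun a => hcardA ▸ pow_card_eq_one'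
  have hcomm : ⁅S, S⁆ ≤ M := by
    refine Subgroup.commutator_le.2 fun a ha b hb => (hMq ⟨_, ?_⟩).1 ?_
    · exact S.mul_mem (S.mul_mem (S.mul_mem ha hb) (S.inv_mem ha)) (S.inv_mem hb)
    · show q (⟨a, ha⟩ * ⟨b, hb⟩ * ⟨a, ha⟩⁻¹ * ⟨b, hb⟩⁻¹) = 1
      simp only [map_mul, map_inv]
      rw [mul_comm (q ⟨a, ha⟩), mul_inv_cancel_right, mul_inv_cancel]
  have hfocM : F.focalSubgroup ≤ M := focalSubgroup_eq hS hF ▸ sup_le hhyp hcomm
  have hfoc : ∀ {R : Subgroup Ω} {θ : R →* Ω} (hθ : θ ∈ F.Hom R) (x : R),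
      q ⟨θ x, apply_mem hθ x⟩ = q ⟨x, le_left hθ x.2⟩ := by
    intro R θ hθ x
    have h := (hMq (⟨x, le_left hθ x.2⟩⁻¹ * ⟨θ x, apply_mem hθ x⟩)).2
      (hfocM (Subgroup.subset_closure ⟨R, θ, x, hθ, rfl⟩))
    rw [map_mul, map_inv, inv_mul_eq_one] at h
    exact h.symm
  have hMc : F.StronglyClosed M := by
    refine ⟨hM, fun R hR θ hθ x => (hMq ⟨_, apply_mem hθ x⟩).1 ?_⟩
    rw [hfoc hθ x]
    exact (hMq _).2 (hR x.2)
  obtain ⟨X, iX, iA, hst, hbal, k, hk, hcard⟩ := exists_stable_biset hS hF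
  haveI := iX
  letI : Fintype (Quotient (rightRel S S X)) := Fintype.ofFinite _
  let χ : S × S →* A := q.comp (MonoidHom.snd S S) / q.comp (MonoidHom.fst S S)
  obtain ⟨D, hD⟩ := exists_equivariant (X := X) χ fun x a ha => by
    show q a.2 / q a.1 = 1
    rw [stab_q (u := a.1) (t := a.2) hst hfoc ha, div_self']
  have hDr : RightEq q D := fun t x => by
    rw [hD]
    show q t / q 1 * D x = _
    rw [map_one, div_one]
  have hDl : ∀ (u : S) (x : X), D (((u, 1) : S × S) • x) = (q u)⁻¹ * D x := fun u x => by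
    rw [hD]
    show q 1 / q u * D x = _
    rw [map_one, one_div]
  have hleft : ∀ s : S, transfer D hDr (left s) = ((q s)⁻¹) ^ k := by
    intro s
    have hn : Fintype.card (Quotient (rightRel S S X)) = k := by
      rw [← Nat.card_eq_fintype_card]
      exact Nat.eq_of_mul_eq_mul_left Nat.card_pos ((card_orbits hst).symm.trans hcard)
    show transferFun D hDr (left s) = _
    unfold transferFun
    rw [Finset.prod_eq_pow_card (b := (q s)⁻¹) (fun w _ => ?_), Finset.card_univ, hn]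
    induction w using Quotient.inductionOn with
    | _ x =>
      show D (((s, 1) : S × S) • x) * (D x)⁻¹ = _
      rw [hDl, mul_inv_cancel_right]
  have hker : ∀ s : S, transfer D hDr (left s) = 1 ↔ (s : Ω) ∈ M := by
    intro s
    rw [← hMq, hleft]
    refine ⟨fun h => ?_, fun h => by rw [h, inv_one, one_pow]⟩
    by_contra hne
    have hord : orderOf ((q s)⁻¹) = p :=
      orderOf_eq_prime (hA _) (by rwa [ne_eq, inv_eq_one])
    exact hk (hord ▸ orderOf_dvd_of_pow_eq_one h)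
  have hgen : ∀ s : S, (s : Ω) ∉ M → ∀ a : A,
      ∃ n : ℕ, (transfer D hDr (left s)) ^ n = a := fun s hs a =>
    Submonoid.mem_powers_iff _ _ |>.1
      (mem_powers_of_prime_card hcardA (fun h => hs ((hker s).1 h)))
  have hne : ∃ s : S, (s : Ω) ∉ M := by
    by_contra hc
    push_neg at hc
    have : M' = ⊤ := Subgroup.subgroupOf_eq_top.2 fun x hx => hc ⟨x, hx⟩
    rw [this, Subgroup.index_top] at hidx
    exact (Fact.out : p.Prime).ne_one hidx.symm
  exact ⟨_, kerSystem_isSaturated hS hF hst hA hfoc D hDr hDl hMc hker hMq hgen hne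
      (fun h => exists_realises hst hbal h),
    kerSystem_hasPPowerIndexIn hA _ hMc _ (fun h => exists_realises hst hbal h) hhyp⟩

/-- Transitivity of `p`-power index. -/
theorem hasPPowerIndexIn_trans {M T : Subgroup Ω} {E : FusionSystem M} {E' : FusionSystem T}
    (hE : E.HasPPowerIndexIn F p) (hTM : T ≤ M) (hT : F.hyperfocalSubgroup p ≤ T)
    (hE' : E'.HasPPowerIndexIn E p) : E'.HasPPowerIndexIn F p := by
  refine ⟨fun P φ h => hE.1 P (hE'.1 P h), hT, fun P hP => le_trans ?_ (hE'.2.2 P hP)⟩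
  have h := hE.2.2 P (hP.trans hTM)
  rw [CfsgLib.Transfer.map_subtype_pResidual] at h ⊢
  rw [CfsgLib.Transfer.map_subtype_pResidual]
  exact Subgroup.closure_mono fun g hg => ⟨h (Subgroup.subset_closure hg), hg.2⟩

/-- Saturated subsystems of `p`-power index exist over every subgroup containing `hyp(F)`. -/
theorem exists_pPowerIndex [Fact p.Prime] (d : ℕ) : ∀ {S : Subgroup Ω} [Finite S]
    (_ : IsPGroup p S) (F : FusionSystem S) (_ : F.IsSaturated p) (T : Subgroup Ω) (_ : T ≤ S)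
    (_ : F.hyperfocalSubgroup p ≤ T), Nat.card S ≤ Nat.card T + d →
    ∃ E : FusionSystem T, E.IsSaturated p ∧ E.HasPPowerIndexIn F p := by
  induction d using Nat.strong_induction_on with
  | _ d ih =>
    intro S _ hS F hF T hTS hT hd
    rcases hTS.eq_or_lt with rfl | hlt
    · exact ⟨F, hF, fun P => subset_rfl, hT, fun P _ => Subgroup.map_subtype_le _⟩
    obtain ⟨n, hn⟩ := hS.exists_card_eq
    haveI := finite_of_le hTS
    obtain ⟨m, hm⟩ := (hS.to_le hTS).exists_card_eq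
    have hlt' : Nat.card T < Nat.card S :=
      Set.Finite.card_lt_card (Set.toFinite _) hlt
    rw [hn, hm] at hlt'
    have hmn : m < n := (Nat.pow_lt_pow_iff_right (Fact.out : p.Prime).one_lt).1 hlt'
    have hcard' : Nat.card (T.subgroupOf S) = p ^ m := by
      rw [Nat.card_congr (Subgroup.subgroupOfEquivOfLe hTS).toEquiv, hm]
    obtain ⟨K, hK, hTK⟩ := Sylow.exists_subgroup_card_pow_prime_le p
      (n := m) (m := n - 1) (by rw [hn]; exact pow_dvd_pow p (Nat.sub_le n 1)) (T.subgroupOf S)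
      hcard' (by omega)
    let M : Subgroup Ω := K.map S.subtype
    have hMS : M ≤ S := Subgroup.map_subtype_le K
    have hTM : T ≤ M := (Subgroup.map_subgroupOf_eq_of_le hTS).ge.trans (Subgroup.map_mono hTK)
    have hidx : (M.subgroupOf S).index = p := by
      rw [show M.subgroupOf S = K from K.comap_map_eq_self_of_injective S.subtype_injective]
      have h := K.card_mul_index
      rw [hK, hn, show p ^ n = p ^ (n - 1) * p by rw [← pow_succ]; congr 1; omega] at h
      exact Nat.eq_of_mul_eq_mul_left (pow_pos (Fact.out : p.Prime).pos _) h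
    obtain ⟨E, hE, hEi⟩ := exists_index_prime hS hF hMS hidx (hT.trans hTM)
    haveI := finite_of_le hMS
    have hhyp : E.hyperfocalSubgroup p ≤ T := by
      refine (Subgroup.closure_le _).2 ?_
      rintro y ⟨R, α, x, hR, hα, rfl⟩
      obtain ⟨β, hβ, hβα⟩ :=
        CfsgLib.FusionPIndex.pResidual_autGroup_mono (p := p) hEi.1 hR ⟨α, hα, rfl⟩
      exact hT (Subgroup.subset_closure ⟨R, β, x, hR.trans hMS, hβ, by
        rw [show (β : MulAut R) = (α : MulAut R) from hβα]⟩)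
    have hcardM : Nat.card M < Nat.card S := by
      refine Set.Finite.card_lt_card (Set.toFinite _) (show M < S from lt_of_le_of_ne hMS fun h => ?_)
      rw [h, Subgroup.subgroupOf_self, Subgroup.index_top] at hidx
      exact (Fact.out : p.Prime).ne_one hidx.symm
    have hcardT : Nat.card T ≤ Nat.card M :=
      Nat.card_le_card_of_injective _ (Subgroup.inclusion_injective hTM)
    obtain ⟨E', hE', hE'i⟩ := ih (Nat.card M - Nat.card T) (by omega) (hS.to_le hMS) E hE T hTM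
      hhyp (by omega)
    exact ⟨E', hE', hasPPowerIndexIn_trans hEi hTM hT hE'i⟩

/-- Uniqueness. -/
theorem pPowerIndex_unique [Finite S] [Fact p.Prime] (hS : IsPGroup p S) {T : Subgroup Ω}
    (hTS : T ≤ S) {E E' : FusionSystem T} (hE : E.IsSaturated p) (hEi : E.HasPPowerIndexIn F p)
    (hE' : E'.IsSaturated p) (hE'i : E'.HasPPowerIndexIn F p) : E' = E := by
  haveI := finite_of_le hTS
  exact fusionSystem_ext fun P => Set.Subset.antisymm
    (CfsgLib.FusionPIndex.isSubsystemOf_of_pResidual (hS.to_le hTS) hE' le_rfl (fun R hR =>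
      (CfsgLib.FusionPIndex.pResidual_autGroup_mono hE'i.1 hR).trans (hEi.2.2 R hR)) P)
    (CfsgLib.FusionPIndex.isSubsystemOf_of_pResidual (hS.to_le hTS) hE le_rfl (fun R hR =>
      (CfsgLib.FusionPIndex.pResidual_autGroup_mono hEi.1 hR).trans (hE'i.2.2 R hR)) P)

end CfsgLib.PPowerIndex
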