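import Cfsg.Agent.Fusion.Saturation

/-!
# The induction behind Alperin's theorem

To show that a saturated system `F` is contained in a system `E` over the same subgroup it is
enough to treat automorphisms of fully normalized subgroups, assuming the inclusion for all maps
with larger source.
-/

set_option autoImplicit false

namespace CfsgLib.Fusion

open Cfsg Cfsg.FusionSystem

variable {Ω : Type*} [Group Ω] {S : Subgroup Ω} {F E : FusionSystem S} {P Q R : Subgroup Ω}
variable {p : ℕ}

theorem card_lt_of_lt [Finite S] (hPR : P < R) (hR : R ≤ S) : Nat.card P < Nat.card R := by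
  have := finite_of_le hR
  refine lt_of_le_of_ne
    (Nat.card_le_card_of_injective _ (Subgroup.inclusion_injective hPR.le)) fun h => ?_
  exact hPR.ne (Subgroup.eq_of_le_of_card_ge hPR.le h.ge)

theorem isIso_of_le (h : ∀ P, F.Hom P ⊆ E.Hom P) {e : P ≃* Q} (he : IsIso F e) : IsIso E e := h P he

/-- The induction behind Alperin's theorem. -/
theorem le_of_step [Finite S] [Fact p.Prime] (hS : IsPGroup p S) (hF : F.IsSaturated p)
    (hstep : ∀ P : Subgroup Ω, F.IsFullyNormalized P →
      (∀ R : Subgroup Ω, Nat.card P < Nat.card R → F.Hom R ⊆ E.Hom R) →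
        F.autGroup P ≤ E.autGroup P) : F ≤ E := by
  intro P
  induction hd : Nat.card S - Nat.card P using Nat.strong_induction_on generalizing P with
  | _ d ih =>
  have IH : ∀ R : Subgroup Ω, Nat.card P < Nat.card R → F.Hom R ⊆ E.Hom R := by
    intro R hR φ hφ
    have h1 : Nat.card R ≤ Nat.card S :=
      Nat.card_le_card_of_injective _ (Subgroup.inclusion_injective (le_left hφ))
    exact ih (Nat.card S - Nat.card R) (by omega) R rfl hφ
  intro φ hφ
  have hP := le_left hφ
  obtain ⟨Q, hPQ, hQ⟩ := exists_fullyNormalized (F := F) hP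
  obtain ⟨hQa, hQr⟩ := automized_receptive hS hF hQ
  have hcard := card_eq_of_isConj hPQ
  obtain ⟨e, he, heφ⟩ := exists_iso_range hφ
  -- isomorphisms onto `Q` lying in both systems
  have key : ∀ R, F.IsConj R Q → ∃ e : R ≃* Q, IsIso F e ∧ IsIso E e ∨ R = S := by
    intro R hRQ
    have hR := le_of_isConj_left hRQ
    rcases hR.eq_or_lt with rfl | hlt
    · obtain ⟨e, he⟩ := isConj_iff.1 hRQ
      exact ⟨e, Or.inr rfl⟩
    · obtain ⟨χ, hχ, -, himg⟩ := exists_map_normalizerIn hS hQa hQr hRQ
      have hle := le_normalizerIn hR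
      have hE : χ ∈ E.Hom (normalizerIn S R) :=
        IH _ (by
          rw [hcard, ← card_eq_of_isConj hRQ]
          exact card_lt_of_lt (lt_normalizerIn hS hlt) (normalizerIn_le S R)) hχ
      obtain ⟨e, he, heχ⟩ :=
        exists_iso (restrict_mem hχ hle) ((range_restrictHom χ hle).trans himg)
      exact ⟨e, Or.inl ⟨he, mem_congr (restrict_mem hE hle) heχ⟩⟩
  by_cases hPS : P = S
  · subst hPS
    have hr : φ.range = P := eq_S_of_isConj ⟨φ, hφ, rfl⟩
    obtain ⟨α, hα, hαφ⟩ := exists_iso hφ hr
    have h1 := hstep P isFullyNormalized_self IH ((mem_autGroup_iff le_rfl).2 hα)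
    exact mem_congr ((mem_autGroup_iff le_rfl).1 h1) fun x => (hαφ x).symm
  have hlt : P < S := lt_of_le_of_ne hP hPS
  have hne : φ.range ≠ S := by
    intro h
    have h1 := card_eq_of_isConj (⟨φ, hφ, h⟩ : F.IsConj P S)
    exact (card_lt_of_lt hlt le_rfl).ne h1
  obtain ⟨χ, hχ⟩ := key P hPQ
  obtain ⟨hχF, hχE⟩ := hχ.resolve_right hPS
  obtain ⟨χ', hχ'⟩ := key φ.range (isConj_trans (isConj_symm he.isConj) hPQ)
  obtain ⟨hχF', hχE'⟩ := hχ'.resolve_right hne
  have hα : IsIso F (χ.symm.trans (e.trans χ')) := hχF.symm.trans (he.trans hχF')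
  have hαE := (mem_autGroup_iff hQ.1).1
    (hstep Q hQ (fun R hR => IH R (hcard ▸ hR)) ((mem_autGroup_iff hQ.1).2 hα))
  refine mem_congr (hχE.trans (hαE.trans hχE'.symm)) fun x => ?_
  simp [← heφ x]

end CfsgLib.Fusion
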