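import Cfsg.Agent.Fusion.Alperin
import Cfsg.Agent.Fusion.Systems
import Cfsg.Agent.Fusion.Realized

/-!
# Strongly closed, central and normal subgroups of a fusion system
-/

set_option autoImplicit false

namespace CfsgLib.Fusion

open Cfsg Cfsg.FusionSystem
open scoped Pointwise commutatorElement

variable {Ω : Type*} [Group Ω] {S : Subgroup Ω} {F : FusionSystem S} {P Q R T : Subgroup Ω}
variable {p : ℕ}

/-! ### Strongly closed subgroups -/

theorem stronglyClosed_apply (hT : F.StronglyClosed T) {φ : P →* Ω} (hφ : φ ∈ F.Hom P) {x : P}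
    (hx : (x : Ω) ∈ T) : φ x ∈ T :=
  hT.2 (P ⊓ T) inf_le_right _ (restrict_mem hφ inf_le_left) ⟨x, x.2, hx⟩

theorem stronglyClosed_apply_iff (hT : F.StronglyClosed T) {φ : P →* Ω} (hφ : φ ∈ F.Hom P)
    {x : P} : φ x ∈ T ↔ (x : Ω) ∈ T := by
  refine ⟨fun h => ?_, stronglyClosed_apply hT hφ⟩
  obtain ⟨e, he, hev⟩ := exists_iso_range hφ
  have h1 := stronglyClosed_apply hT (φ := P.subtype.comp e.symm.toMonoidHom) he.symm (x := e x)
    (by rw [hev]; exact h)
  simpa using h1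

theorem stronglyClosed_conj_iff (hT : F.StronglyClosed T) {g x : Ω} (hg : g ∈ S) (hx : x ∈ S) :
    g * x * g⁻¹ ∈ T ↔ x ∈ T :=
  stronglyClosed_apply_iff hT (F.conj_mem (le_refl S) hg) (x := ⟨x, hx⟩)

theorem stronglyClosed_le_normalizer (hT : F.StronglyClosed T) :
    S ≤ Subgroup.normalizer (T : Set Ω) := by
  intro g hg
  rw [Subgroup.mem_normalizer_iff]
  intro x
  by_cases hx : x ∈ S
  · exact (stronglyClosed_conj_iff hT hg hx).symm
  · refine ⟨fun h => absurd (hT.1 h) hx, fun h => absurd ?_ hx⟩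
    simpa [mul_assoc] using S.mul_mem (S.mul_mem (S.inv_mem hg) (hT.1 h)) hg

theorem stronglyClosed_aut_iff (hT : F.StronglyClosed T) {α : MulAut P}
    (hα : α ∈ F.autGroup P) {x : P} : (α x : Ω) ∈ T ↔ (x : Ω) ∈ T := by
  by_cases hP : P ≤ S
  · exact stronglyClosed_apply_iff hT ((mem_autGroup_iff hP).1 hα)
  · rw [autGroup_eq_bot hP, Subgroup.mem_bot] at hα
    rw [hα, MulAut.one_apply]

theorem stronglyClosed_inf {T₁ T₂ : Subgroup Ω} (h₁ : F.StronglyClosed T₁)
    (h₂ : F.StronglyClosed T₂) : F.StronglyClosed (T₁ ⊓ T₂) :=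
  ⟨inf_le_left.trans h₁.1, fun R hR φ hφ x =>
    ⟨h₁.2 R (hR.trans inf_le_left) φ hφ x, h₂.2 R (hR.trans inf_le_right) φ hφ x⟩⟩

/-! ### Normal subgroups -/

/-- The extension property of a normal subgroup. -/
theorem exists_normal_extension (hQ : F.IsNormal Q) {φ : P →* Ω} (hφ : φ ∈ F.Hom P) :
    ∃ ψ ∈ F.Hom (P ⊔ Q), (∀ x : P, ψ (Subgroup.inclusion le_sup_left x) = φ x) ∧
      imgHom ψ Q = Q :=
  hQ.2 P φ hφ

theorem stronglyClosed_of_normal (hQ : F.IsNormal Q) : F.StronglyClosed Q := by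
  refine ⟨hQ.1, fun R hR φ hφ x => ?_⟩
  obtain ⟨ψ, -, h1, h2⟩ := exists_normal_extension hQ hφ
  rw [← h1 x]
  exact h2.le (apply_mem_imgHom ψ (hR x.2))

theorem normal_le_normalizer (hQ : F.IsNormal Q) : S ≤ Subgroup.normalizer (Q : Set Ω) :=
  stronglyClosed_le_normalizer (stronglyClosed_of_normal hQ)

/-- A characteristic subgroup of a normal subgroup is normal. -/
theorem isNormal_of_characteristic (hQ : F.IsNormal Q) {U : Subgroup Ω} (hUQ : U ≤ Q)
    (hU : (U.subgroupOf Q).Characteristic) : F.IsNormal U := by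
  refine ⟨hUQ.trans hQ.1, fun P φ hφ => ?_⟩
  obtain ⟨ψ, hψ, h1, h2⟩ := exists_normal_extension hQ hφ
  obtain ⟨α, hα, hαψ⟩ := exists_iso (restrict_mem hψ (le_sup_right : Q ≤ P ⊔ Q))
    ((range_restrictHom ψ _).trans h2)
  have hle : P ⊔ U ≤ P ⊔ Q := sup_le_sup_left hUQ P
  refine ⟨_, restrict_mem hψ hle, fun x => h1 x, ?_⟩
  ext y
  constructor
  · rintro ⟨x, hx, rfl⟩
    have h3 : (⟨(x : Ω), hUQ hx⟩ : Q) ∈ U.subgroupOf Q := hx
    rw [← hU.fixed α] at h3
    have h4 : (α ⟨x, hUQ hx⟩ : Ω) ∈ U := h3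
    rwa [hαψ] at h4
  · intro hy
    have h3 : (⟨y, hUQ hy⟩ : Q) ∈ U.subgroupOf Q := hy
    rw [← hU.fixed α.symm] at h3
    have h4 : (α.symm ⟨y, hUQ hy⟩ : Ω) ∈ U := h3
    refine ⟨⟨α.symm ⟨y, hUQ hy⟩, Subgroup.mem_sup_right h4⟩, h4, ?_⟩
    show ψ _ = y
    have h5 := hαψ (α.symm ⟨y, hUQ hy⟩)
    rw [MulEquiv.apply_symm_apply] at h5
    exact h5.symm

/-- A subgroup of `S` is normal in the system of a group if its image is normal in the group. -/
theorem isNormal_of_realized {G : Type*} [Group G] {ι : S →* G} (hF : F.IsRealizedBy ι)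
    (hQ : Q ≤ S) (hn : (im ι Q).Normal) : F.IsNormal Q := by
  refine ⟨hQ, fun P φ hφ => ?_⟩
  have hP := le_left hφ
  obtain ⟨g, hg⟩ := (hF.2 P hP φ (fun x => apply_mem hφ x)).1 hφ
  have hgQ : (im ι Q).map (MulAut.conj g).toMonoidHom = im ι Q :=
    Subgroup.mem_normalizer_iff_map_conj_eq.1 (by rw [Subgroup.normalizer_eq_top]; trivial)
  have hle : (im ι (P ⊔ Q)).map (MulAut.conj g).toMonoidHom ≤ ι.range := by
    rw [im, Subgroup.subgroupOf_sup hP hQ, Subgroup.map_sup, Subgroup.map_sup, sup_le_iff]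
    refine ⟨?_, hgQ.le.trans (im_le_range ι Q)⟩
    rintro _ ⟨_, ⟨x, hx, rfl⟩, rfl⟩
    exact ⟨_, hg ⟨x, hx⟩⟩
  obtain ⟨V, hV, hVim⟩ := exists_im_eq hle
  obtain ⟨E, hE, hEg⟩ := exists_iso_of_conj hF (sup_le hP hQ) hV hVim.symm
  refine ⟨_, hE, fun x => ?_, ?_⟩
  · refine congrArg (fun z : S => (z : Ω))
      (hF.1 (?_ : ι ⟨E (Subgroup.inclusion le_sup_left x), hV (E _).2⟩ = ι ⟨φ x, apply_mem hφ x⟩))
    rw [hEg, hg]
    rfl
  · refine eq_of_im_eq hF.1 ?_ hQ ?_
    · rintro _ ⟨x, -, rfl⟩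
      exact hV (E x).2
    rw [← hgQ]
    ext y
    constructor
    · rintro ⟨z, ⟨x, hx, hxz⟩, rfl⟩
      refine ⟨ι ⟨x, sup_le hP hQ x.2⟩, ⟨⟨x, sup_le hP hQ x.2⟩, hx, rfl⟩, ?_⟩
      rw [show z = ⟨E x, hV (E x).2⟩ from Subtype.ext hxz.symm, hEg]
      rfl
    · rintro ⟨_, ⟨x, hx, rfl⟩, rfl⟩
      refine ⟨⟨E ⟨x, Subgroup.mem_sup_right hx⟩, hV (E _).2⟩,
        ⟨⟨x, Subgroup.mem_sup_right hx⟩, hx, rfl⟩, ?_⟩
      rw [hEg]
      rfl

/-- If the normal subgroup `T` of `S` induces only inner automorphisms on the centric subgroup `P`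
from `T ∩ N(P)`, then `T ≤ P`. -/
theorem le_of_forall_Inn [Finite S] [Fact p.Prime] (hS : IsPGroup p S) (hP : F.IsCentric P)
    (hTS : T ≤ S) (hTn : S ≤ Subgroup.normalizer (T : Set Ω))
    (h : ∀ (g : Ω) (_ : g ∈ T) (hg : g ∈ Subgroup.normalizer (P : Set Ω)),
      P.normalizerMonoidHom ⟨g, hg⟩ ∈ Inn P) : T ≤ P := by
  by_contra hne
  have hlt : P < P ⊔ T := left_lt_sup.2 hne
  have hfin := finite_of_le (sup_le hP.1 hTS)
  obtain ⟨g, hg, hgP⟩ :=
    SetLike.exists_of_lt (lt_normalizerIn (hS.to_le (sup_le hP.1 hTS)) hlt)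
  have hmem : g ∈ (P : Set Ω) * (T : Set Ω) := by
    rw [← Subgroup.coe_mul_of_left_le_normalizer_right _ _ (hP.1.trans hTn)]
    exact (Subgroup.mem_inf.1 hg).1
  obtain ⟨a, ha, q, hq, rfl⟩ := Set.mem_mul.1 hmem
  have hqN : q ∈ Subgroup.normalizer (P : Set Ω) := by
    have := Subgroup.mul_mem _ (Subgroup.inv_mem _ (Subgroup.le_normalizer (H := P) ha))
      (Subgroup.mem_inf.1 hg).2
    simpa using this
  have hqP : q ∈ P := by
    by_contra hqP
    exact not_mem_Inn_of_not_mem hP ⟨hTS hq, hqN⟩ hqP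
      (β := P.normalizerMonoidHom ⟨q, hqN⟩) (fun _ => rfl) (h q hq hqN)
  exact hgP (P.mul_mem ha hqP)

theorem mem_Inn_of_normal_pGroup (hP : F.IsRadical p P) {D : Subgroup (F.autGroup P)}
    (hD : D.Normal) (hDp : IsPGroup p D) {α : F.autGroup P} (hα : α ∈ D) :
    (α : MulAut P) ∈ Inn P := by
  haveI := hD
  rw [← hP.2]
  exact ⟨α, CfsgLib.PLocal.le_pCore hDp hα, rfl⟩

/-- A normal subgroup is contained in every centric radical subgroup. -/
theorem le_of_normal_of_radical [Finite S] [Fact p.Prime] (hS : IsPGroup p S) (hQ : F.IsNormal Q)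
    (hc : F.IsCentric P) (hr : F.IsRadical p P) : Q ≤ P := by
  refine le_of_forall_Inn hS hc hQ.1 (normal_le_normalizer hQ) fun g hg hgN => ?_
  have hA : autInducedBy Q P ≤ F.autGroup P :=
    (autInducedBy_mono hQ.1 P).trans (autInducedBy_le_autGroup hc.1)
  refine mem_Inn_of_normal_pGroup hr (D := (autInducedBy Q P).subgroupOf (F.autGroup P))
    ⟨fun β hβ α => ?_⟩ (isPGroup_autInducedBy (hS.to_le hQ.1) P).comap_subtype
    (α := ⟨_, hA (mem_autInducedBy_iff.2 ⟨g, hg, hgN, fun _ => rfl⟩)⟩)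
    (mem_autInducedBy_iff.2 ⟨g, hg, hgN, fun _ => rfl⟩)
  obtain ⟨k, hk, -, hkβ⟩ := mem_autInducedBy_iff.1 hβ
  obtain ⟨ψ, -, h1, h2⟩ := exists_normal_extension hQ ((mem_autGroup_iff hc.1).1 α.2)
  refine Subgroup.subset_closure
    ⟨ψ ⟨k, Subgroup.mem_sup_right hk⟩, h2.le (apply_mem_imgHom ψ hk), fun y => ?_⟩
  obtain ⟨z, rfl⟩ := (α : MulAut P).surjective y
  show ((α : MulAut P) ((β : MulAut P) ((α : MulAut P)⁻¹ ((α : MulAut P) z))) : Ω) = _
  rw [show ((α : MulAut P)⁻¹ : MulAut P) ((α : MulAut P) z) = z from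
    (α : MulAut P).symm_apply_apply z]
  have e1 := h1 z
  have e2 := h1 ((β : MulAut P) z)
  simp only [MonoidHom.coe_comp, MulEquiv.coe_toMonoidHom, Subgroup.coe_subtype,
    Function.comp_apply] at e1 e2
  rw [← e1, ← e2, ← map_inv, ← map_mul, ← map_mul]
  exact congrArg ψ (Subtype.ext (hkβ z))

/-- Criterion for normality in a saturated system. -/
theorem isNormal_of_essential [Finite S] [Fact p.Prime] (hS : IsPGroup p S) (hF : F.IsSaturated p)
    (hQS : Q ≤ S)
    (h : ∀ P : Subgroup Ω, (P = S ∨ F.IsEssential p P) →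
      Q ≤ P ∧ ∀ α ∈ F.autGroup P, ∀ x : P, (x : Ω) ∈ Q → (α x : Ω) ∈ Q) :
    F.IsNormal Q := by
  have hfQ := finite_of_le hQS
  have hN : S = kNormalizer S Q ⊤ := by
    rw [kNormalizer_top, normalizerIn, eq_comm, inf_eq_left]
    intro g hg
    refine Subgroup.mem_normalizer_fintype fun n hn => ?_
    exact (h S (Or.inl rfl)).2 (S.normalizerMonoidHom ⟨g, Subgroup.le_normalizer hg⟩)
      (autInducedBy_le_autGroup le_rfl
        (mem_autInducedBy_iff.2 ⟨g, hg, Subgroup.le_normalizer hg, fun _ => rfl⟩))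
      ⟨n, hQS hn⟩ hn
  have hle : F ≤ kSystem F hQS ⊤ hN := by
    refine le_of_essential hS hF fun P hP α hα => ?_
    obtain ⟨hQP, hinv⟩ := h P hP
    have hPS : P ≤ S := by
      rcases hP with rfl | hess
      · exact le_rfl
      · exact hess.1.1
    have hI := (mem_autGroup_iff hPS).1 hα
    refine (mem_autGroup_iff hPS).2
      ⟨hI, hPS, fun x => hPS (α x).2, restrictHom _ (sup_le le_rfl hQP),
        restrict_mem hI (sup_le le_rfl hQP), fun x => rfl, ?_⟩
    refine (exists_aut_iff (restrict_mem hI (sup_le le_rfl hQP)) le_sup_right).2 ?_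
    refine Subgroup.eq_of_le_of_card_ge ?_ ?_
    · rintro _ ⟨x, hx, rfl⟩
      exact hinv α hα ⟨x, hQP hx⟩ hx
    · rw [card_imgHom (F.injective_of_mem (restrict_mem hI _)) le_sup_right]
  refine ⟨hQS, fun P φ hφ => ?_⟩
  obtain ⟨-, -, -, ψ, hψ, h1, h2⟩ := hle P hφ
  exact ⟨ψ, hψ, h1, (exists_aut_iff hψ le_sup_right).1 h2⟩

/-- A strongly closed subgroup contained in every essential subgroup is normal. -/
theorem isNormal_of_stronglyClosed [Finite S] [Fact p.Prime] (hS : IsPGroup p S)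
    (hF : F.IsSaturated p) (hQ : F.StronglyClosed Q)
    (h : ∀ P : Subgroup Ω, F.IsEssential p P → Q ≤ P) : F.IsNormal Q :=
  isNormal_of_essential hS hF hQ.1 fun P hP =>
    ⟨hP.elim (fun e => hQ.1.trans e.ge) (h P),
      fun _ hα _ hx => (stronglyClosed_aut_iff hQ hα).2 hx⟩

/-- A subgroup is central if every essential subgroup contains it and no element moves. -/
theorem isCentral_of_forall [Finite S] [Fact p.Prime] (hS : IsPGroup p S) (hF : F.IsSaturated p)
    (hQS : Q ≤ S) (h : ∀ x ∈ Q, ∀ y : Ω, F.IsConjElt x y → y = x) : F.IsCentral Q := by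
  have hfix : ∀ (P : Subgroup Ω) (φ : P →* Ω), φ ∈ F.Hom P → ∀ x : P, (x : Ω) ∈ Q → φ x = x :=
    fun P φ hφ x hx => h x hx _
      ⟨restrictHom φ (Subgroup.zpowers_le.2 x.2), restrict_mem hφ _, rfl⟩
  have hcent : S ≤ Subgroup.centralizer (Q : Set Ω) := fun g hg => by
    rw [Subgroup.mem_centralizer_iff]
    intro x hx
    have h1 := hfix S (conjHom S g) (F.conj_mem le_rfl hg) ⟨x, hQS hx⟩ hx
    have h2 : g * x * g⁻¹ = x := h1
    rw [mul_inv_eq_iff_eq_mul] at h2
    exact h2.symm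
  have hN : S = kNormalizer S Q ⊥ := by
    rw [kNormalizer_bot, centralizerIn, eq_comm, inf_eq_left]
    exact hcent
  have hle : F ≤ kSystem F hQS ⊥ hN := by
    refine le_of_essential hS hF fun P hP α hα => ?_
    have hPc : F.IsCentric P := hP.elim (fun e => by rw [e]; exact isCentric_self) fun h => h.1
    have hQP : Q ≤ P := fun x hx => centralizerIn_le_of_centric hPc
      ⟨hQS hx, Subgroup.mem_centralizer_iff.2 fun z hz =>
        (Subgroup.mem_centralizer_iff.1 (hcent (hPc.1 hz)) x hx).symm⟩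
    have hI := (mem_autGroup_iff hPc.1).1 hα
    exact (mem_autGroup_iff hPc.1).2 ⟨hI, hPc.1, fun x => hPc.1 (α x).2,
      restrictHom _ (sup_le le_rfl hQP), restrict_mem hI (sup_le le_rfl hQP), fun x => rfl,
      1, rfl, fun q => hfix _ _ hI ⟨q, hQP q.2⟩ q.2⟩
  refine ⟨hQS, fun P φ hφ => ?_⟩
  obtain ⟨-, -, -, ψ, hψ, h1, α, hα, h2⟩ := hle P hφ
  exact ⟨ψ, hψ, h1, fun q => by rw [h2 q, Subgroup.mem_bot.1 hα]; rfl⟩

/-! ### Central series of strongly closed subgroups -/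

/-- The automorphisms in `A` stabilising the chain `L`, where all members of `A` preserve `L`. -/
def chainStabilizer {M : Type*} [Group M] (A : Subgroup (MulAut M)) (n : ℕ) (L : ℕ → Subgroup M)
    (hmono : ∀ i, L i ≤ L (i + 1)) (hinv : ∀ α ∈ A, ∀ i x, x ∈ L i → α x ∈ L i) :
    Subgroup A where
  carrier := {a | (∀ x : M, x⁻¹ * (a : MulAut M) x ∈ L n) ∧
    ∀ i < n, ∀ x ∈ L (i + 1), x⁻¹ * (a : MulAut M) x ∈ L i}
  one_mem' := ⟨fun x => by simp, fun i _ x _ => by simp⟩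
  mul_mem' {a b} ha hb := by
    have key : ∀ x : M, x⁻¹ * (a * b : A).1 x =
        (x⁻¹ * (b : MulAut M) x) * (((b : MulAut M) x)⁻¹ * (a : MulAut M) ((b : MulAut M) x)) := by
      intro x
      simp [mul_assoc]
    refine ⟨fun x => ?_, fun i hi x hx => ?_⟩
    · rw [key]
      exact Subgroup.mul_mem _ (hb.1 x) (ha.1 _)
    · rw [key]
      exact Subgroup.mul_mem _ (hb.2 i hi x hx) (ha.2 i hi _ (hinv _ b.2 _ _ hx))
  inv_mem' {a} ha := by
    have key : ∀ x : M, x⁻¹ * (a⁻¹ : A).1 x =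
        (((a⁻¹ : A).1 x)⁻¹ * (a : MulAut M) ((a⁻¹ : A).1 x))⁻¹ := by
      intro x
      simp
    refine ⟨fun x => ?_, fun i hi x hx => ?_⟩
    · rw [key]
      exact Subgroup.inv_mem _ (ha.1 _)
    · rw [key]
      exact Subgroup.inv_mem _ (ha.2 i hi _ (hinv _ (a⁻¹).2 _ _ hx))

theorem chainStabilizer_normal {M : Type*} [Group M] (A : Subgroup (MulAut M)) (n : ℕ)
    (L : ℕ → Subgroup M) (hmono : ∀ i, L i ≤ L (i + 1))
    (hinv : ∀ α ∈ A, ∀ i x, x ∈ L i → α x ∈ L i) :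
    (chainStabilizer A n L hmono hinv).Normal := by
  refine ⟨fun a ha c => ?_⟩
  have key : ∀ x : M, x⁻¹ * (c * a * c⁻¹ : A).1 x =
      (c : MulAut M) (((c⁻¹ : A).1 x)⁻¹ * (a : MulAut M) ((c⁻¹ : A).1 x)) := by
    intro x
    simp
  refine ⟨fun x => ?_, fun i hi x hx => ?_⟩
  · rw [key]
    exact hinv _ c.2 _ _ (ha.1 _)
  · rw [key]
    exact hinv _ c.2 _ _ (ha.2 i hi _ (hinv _ (c⁻¹).2 _ _ hx))

/-- An automorphism of order prime to `p` stabilising a series of a `p`-group is trivial, so the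
stabiliser of a series is a `p`-group. -/
theorem isPGroup_chainStabilizer {M : Type*} [Group M] [Finite M] [Fact p.Prime]
    (hM : IsPGroup p M) (A : Subgroup (MulAut M)) (n : ℕ) (L : ℕ → Subgroup M) (h0 : L 0 = ⊥)
    (hmono : ∀ i, L i ≤ L (i + 1)) (hinv : ∀ α ∈ A, ∀ i x, x ∈ L i → α x ∈ L i) :
    IsPGroup p (chainStabilizer A n L hmono hinv) := by
  intro a
  obtain ⟨k, m, hm, hk⟩ := Nat.exists_eq_pow_mul_and_not_dvd (orderOf_pos a).ne' p
    (Fact.out : p.Prime).ne_one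
  refine ⟨k, ?_⟩
  set b := a ^ p ^ k with hb
  have hbm : b ^ m = 1 := by rw [hb, ← pow_mul, ← hk, pow_orderOf_eq_one]
  set β : MulAut M := ((b : A) : MulAut M) with hβ
  have hβm : β ^ m = 1 := by
    rw [hβ, ← SubmonoidClass.coe_pow, ← SubmonoidClass.coe_pow, hbm]
    rfl
  have step : ∀ (x : M) (Lᵢ : Subgroup M), (∀ y ∈ Lᵢ, β y = y) → x⁻¹ * β x ∈ Lᵢ → β x = x := by
    intro x Lᵢ hfix hx
    set c := x⁻¹ * β x with hc
    have hpow : ∀ j : ℕ, (β ^ j) x = x * c ^ j := by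
      intro j
      induction j with
      | zero => simp
      | succ j ihj =>
        rw [pow_succ', MulAut.mul_apply, ihj, map_mul, map_pow, hfix c hx, pow_succ' c, hc]
        simp [mul_assoc]
    have h1 := hpow m
    rw [hβm, MulAut.one_apply, left_eq_mul] at h1
    obtain ⟨j, hj⟩ := hM c
    have h2 : c = 1 := by
      rw [← orderOf_eq_one_iff, ← Nat.dvd_one]
      have := Nat.dvd_gcd (orderOf_dvd_of_pow_eq_one h1) (orderOf_dvd_of_pow_eq_one hj)
      rwa [Nat.Coprime.gcd_eq_one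
        (((Fact.out : p.Prime).coprime_iff_not_dvd.2 hm).pow_left j).symm] at this
    rw [hc, inv_mul_eq_one] at h2
    exact h2.symm
  have hfix : ∀ i ≤ n, ∀ y ∈ L i, β y = y := by
    intro i
    induction i with
    | zero =>
      intro _ y hy
      rw [h0, Subgroup.mem_bot] at hy
      rw [hy, map_one]
    | succ i ihi =>
      intro hi y hy
      exact step y _ (ihi (by omega)) (b.2.2 i (by omega) y hy)
  have hall : β = 1 := MulEquiv.ext fun x => step x _ (hfix n le_rfl) (b.2.1 x)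
  exact Subtype.ext (Subtype.ext hall)

/-- A strongly closed subgroup with a central series of strongly closed subgroups is normal. -/
theorem isNormal_of_series [Finite S] [Fact p.Prime] (hS : IsPGroup p S) (hF : F.IsSaturated p)
    {Q : Subgroup Ω} (n : ℕ) (L : ℕ → Subgroup Ω) (h0 : L 0 = ⊥) (hn : L n = Q)
    (hmono : ∀ i, L i ≤ L (i + 1)) (hsc : ∀ i, F.StronglyClosed (L i))
    (hcomm : ∀ i < n, ⁅Q, L (i + 1)⁆ ≤ L i) : F.IsNormal Q := by
  have hQsc : F.StronglyClosed Q := hn ▸ hsc n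
  refine isNormal_of_stronglyClosed hS hF hQsc fun P hP => ?_
  have hc : F.IsCentric P := hP.1
  have hfP := finite_of_le hc.1
  refine le_of_forall_Inn hS hc hQsc.1 (stronglyClosed_le_normalizer hQsc) fun g hg hgN => ?_
  have hinv : ∀ α ∈ F.autGroup P, ∀ i (x : P), x ∈ (L i).subgroupOf P →
      α x ∈ (L i).subgroupOf P := fun α hα i x hx => (stronglyClosed_aut_iff (hsc i) hα).2 hx
  have hm : ∀ i, (L i).subgroupOf P ≤ (L (i + 1)).subgroupOf P := fun i _ hx => hmono i hx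
  have hgA : P.normalizerMonoidHom ⟨g, hgN⟩ ∈ F.autGroup P :=
    autInducedBy_le_autGroup hc.1
      (mem_autInducedBy_iff.2 ⟨g, hQsc.1 hg, hgN, fun _ => rfl⟩)
  refine mem_Inn_of_normal_pGroup (isRadical_of_essential hS hP)
    (chainStabilizer_normal (F.autGroup P) n (fun i => (L i).subgroupOf P) hm hinv)
    (isPGroup_chainStabilizer (hS.to_le hc.1) _ n _ (by rw [h0, Subgroup.bot_subgroupOf]) hm hinv)
    (α := ⟨_, hgA⟩) ⟨fun x => ?_, fun i hi x hx => ?_⟩
  · show (x : Ω)⁻¹ * (g * (x : Ω) * g⁻¹) ∈ L n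
    rw [hn]
    have h1 : (x : Ω)⁻¹ * g * (x : Ω)⁻¹⁻¹ ∈ Q :=
      (Subgroup.mem_normalizer_iff.1
        (stronglyClosed_le_normalizer hQsc (S.inv_mem (hc.1 x.2))) g).1 hg
    rw [inv_inv] at h1
    simpa [mul_assoc] using Q.mul_mem h1 (Q.inv_mem hg)
  · show (x : Ω)⁻¹ * (g * (x : Ω) * g⁻¹) ∈ L i
    have h1 : ⁅(x : Ω)⁻¹, g⁆ ∈ L i := by
      refine hcomm i hi ?_
      rw [Subgroup.commutator_comm]
      exact Subgroup.commutator_mem_commutator (Subgroup.inv_mem _ (hx : (x : Ω) ∈ L (i + 1))) hg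
    simpa [commutatorElement_def, mul_assoc] using h1

/-- A nilpotent subgroup all of whose lower central terms are strongly closed is normal. -/
theorem isNormal_of_lowerCentralSeries [Finite S] [Fact p.Prime] (hS : IsPGroup p S)
    (hF : F.IsSaturated p) (hQS : Q ≤ S)
    (h : ∀ U ≤ Q, (U.subgroupOf Q).Characteristic → F.StronglyClosed U) : F.IsNormal Q := by
  have hfQ := finite_of_le hQS
  have hnil : Group.IsNilpotent Q := (hS.to_le hQS).isNilpotent
  obtain ⟨n, hn⟩ := (Subgroup.isNilpotent_iff_lowerCentralSeries Q).1 hnil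
  refine isNormal_of_series hS hF n (fun i => Q.lowerCentralSeries (n - i))
    (by simpa using hn) (by simp)
    (fun i => Q.lowerCentralSeries_antitone (by omega)) (fun i => ?_) fun i hi => ?_
  · refine h _ (Q.lowerCentralSeries_antitone (Nat.zero_le _)) ?_
    rw [← Subgroup.top_subtype_lowerCentralSeries, Subgroup.subgroupOf,
      Subgroup.comap_map_eq_self_of_injective Q.subtype_injective]
    infer_instance
  · rw [Subgroup.commutator_comm]
    have e : n - i = n - (i + 1) + 1 := by omega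
    rw [e, Subgroup.lowerCentralSeries_succ]

theorem isNormal_iff_series [Finite S] [Fact p.Prime] (hS : IsPGroup p S) (hF : F.IsSaturated p) :
    F.IsNormal Q ↔ ∃ (n : ℕ) (Qs : Fin (n + 1) → Subgroup Ω), Qs 0 = ⊥ ∧ Qs (Fin.last n) = Q ∧
      Monotone Qs ∧ ∀ i : Fin n,
        F.StronglyClosed (Qs i.succ) ∧ ⁅Q, Qs i.succ⁆ ≤ Qs (Fin.castSucc i) := by
  constructor
  · intro hQ
    have hfQ := finite_of_le hQ.1
    have hnil : Group.IsNilpotent Q := (hS.to_le hQ.1).isNilpotent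
    obtain ⟨n, hn⟩ := (Subgroup.isNilpotent_iff_lowerCentralSeries Q).1 hnil
    refine ⟨n, fun i => Q.lowerCentralSeries (n - i), by simpa using hn, by simp,
      fun i j hij => Q.lowerCentralSeries_antitone (by omega), fun i => ⟨?_, ?_⟩⟩
    · refine stronglyClosed_of_normal (isNormal_of_characteristic hQ
        (Q.lowerCentralSeries_antitone (Nat.zero_le _)) ?_)
      show ((Q.lowerCentralSeries _).subgroupOf Q).Characteristic
      rw [← Subgroup.top_subtype_lowerCentralSeries, Subgroup.subgroupOf,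
        Subgroup.comap_map_eq_self_of_injective Q.subtype_injective]
      infer_instance
    · rw [Subgroup.commutator_comm]
      have e : n - (Fin.castSucc i : ℕ) = n - (i.succ : ℕ) + 1 := by simp; omega
      show _ ≤ Q.lowerCentralSeries (n - (Fin.castSucc i : ℕ))
      rw [e, Subgroup.lowerCentralSeries_succ]
  · rintro ⟨n, Qs, h0, hlast, hmono, h⟩
    let L : ℕ → Subgroup Ω := fun i => Qs ⟨min i n, by omega⟩
    have hbot : F.StronglyClosed (⊥ : Subgroup Ω) := ⟨bot_le, fun R hR φ _ x => by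
      have hx : x = 1 := Subtype.ext (Subgroup.mem_bot.1 (hR x.2))
      simp [hx]⟩
    refine isNormal_of_series hS hF n L (by simpa [L] using h0) (by simpa [L, Fin.last] using hlast)
      (fun i => hmono (Fin.mk_le_mk.2 (by omega))) (fun i => ?_) fun i hi => ?_
    · rcases Nat.eq_zero_or_pos (min i n) with hz | hz
      · have e : (⟨min i n, by omega⟩ : Fin (n + 1)) = 0 := Fin.ext hz
        show F.StronglyClosed (Qs _)
        rw [e, h0]
        exact hbot
      · have e : (⟨min i n, by omega⟩ : Fin (n + 1)) = (⟨min i n - 1, by omega⟩ : Fin n).succ :=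
          Fin.ext (by simp; omega)
        show F.StronglyClosed (Qs _)
        rw [e]
        exact (h _).1
    · have e1 : (⟨min i n, by omega⟩ : Fin (n + 1)) = Fin.castSucc ⟨i, hi⟩ :=
        Fin.ext (by simp; omega)
      have e2 : (⟨min (i + 1) n, by omega⟩ : Fin (n + 1)) = (⟨i, hi⟩ : Fin n).succ :=
        Fin.ext (by simp; omega)
      show ⁅Q, Qs _⁆ ≤ Qs _
      rw [e1, e2]
      exact (h _).2

/-- An abelian strongly closed subgroup is normal. -/
theorem isNormal_of_abelian [Finite S] [Fact p.Prime] (hS : IsPGroup p S) (hF : F.IsSaturated p)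
    (hQ : F.StronglyClosed Q) (hab : IsMulCommutative Q) : F.IsNormal Q := by
  refine (isNormal_iff_series hS hF).2 ⟨1, ![⊥, Q], rfl, rfl, ?_, fun i => ?_⟩
  · intro i j hij
    fin_cases i <;> fin_cases j <;> simp_all
  · fin_cases i
    refine ⟨hQ, ?_⟩
    show ⁅Q, Q⁆ ≤ (⊥ : Subgroup Ω)
    rw [le_bot_iff, Subgroup.commutator_eq_bot_iff_le_centralizer]
    exact Subgroup.le_centralizer Q

end CfsgLib.Fusion
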