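import Cfsg.Prelude.Def_FusionSystem
import Mathlib.Algebra.Group.Subgroup.Finite
import Mathlib.GroupTheory.Subgroup.Centralizer
import Mathlib.Data.Finite.Prod

/-!
# Fusion systems: basic API

Maps of a system `F` are handled in two ways: as homomorphisms `φ ∈ F.Hom P`, and as isomorphisms
`e : P ≃* Q` with `IsIso F e` (the composite of `e` with the inclusion of `Q` is a map of `F`).
The second form composes and inverts by `MulEquiv.trans` and `MulEquiv.symm`.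
-/

set_option autoImplicit false

namespace CfsgLib.Fusion

open Cfsg Cfsg.FusionSystem

variable {Ω : Type*} [Group Ω] {S : Subgroup Ω} {F : FusionSystem S} {P Q R : Subgroup Ω}

/-! ### Restriction and images of homomorphisms -/

/-- The restriction of a homomorphism on `P` to a subgroup `R ≤ P`. -/
def restrictHom (φ : P →* Ω) (h : R ≤ P) : R →* Ω := φ.comp (Subgroup.inclusion h)

@[simp] theorem restrictHom_apply (φ : P →* Ω) (h : R ≤ P) (x : R) :
    restrictHom φ h x = φ ⟨x, h x.2⟩ := rfl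

/-- The image `φ(P ∩ R)` of a subgroup under a homomorphism defined on `P`. -/
def imgHom (φ : P →* Ω) (R : Subgroup Ω) : Subgroup Ω := (R.subgroupOf P).map φ

theorem mem_imgHom {φ : P →* Ω} {y : Ω} : y ∈ imgHom φ R ↔ ∃ x : P, (x : Ω) ∈ R ∧ φ x = y :=
  Iff.rfl

theorem apply_mem_imgHom (φ : P →* Ω) {x : P} (hx : (x : Ω) ∈ R) : φ x ∈ imgHom φ R :=
  ⟨x, hx, rfl⟩

theorem imgHom_self (φ : P →* Ω) : imgHom φ P = φ.range := by
  ext y
  exact ⟨fun ⟨x, _, hx⟩ => ⟨x, hx⟩, fun ⟨x, hx⟩ => ⟨x, x.2, hx⟩⟩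

theorem imgHom_mono (φ : P →* Ω) {R₁ R₂ : Subgroup Ω} (h : R₁ ≤ R₂) :
    imgHom φ R₁ ≤ imgHom φ R₂ := by
  rintro y ⟨x, hx, rfl⟩
  exact ⟨x, h hx, rfl⟩

theorem imgHom_le_range (φ : P →* Ω) (R : Subgroup Ω) : imgHom φ R ≤ φ.range := by
  rintro y ⟨x, -, rfl⟩
  exact ⟨x, rfl⟩

theorem range_restrictHom (φ : P →* Ω) (h : R ≤ P) : (restrictHom φ h).range = imgHom φ R := by
  ext y
  exact ⟨fun ⟨x, hx⟩ => ⟨⟨x, h x.2⟩, x.2, hx⟩, fun ⟨x, hx, hxy⟩ => ⟨⟨x, hx⟩, hxy⟩⟩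

theorem mem_imgHom_apply_iff {φ : P →* Ω} (hφ : Function.Injective φ) {x : P} :
    φ x ∈ imgHom φ R ↔ (x : Ω) ∈ R := by
  refine ⟨?_, apply_mem_imgHom φ⟩
  rintro ⟨y, hy, hyx⟩
  rw [← hφ hyx]
  exact hy

theorem card_imgHom {φ : P →* Ω} (hφ : Function.Injective φ) (h : R ≤ P) :
    Nat.card (imgHom φ R) = Nat.card R := by
  rw [imgHom, Nat.card_congr (Subgroup.equivMapOfInjective _ φ hφ).toEquiv.symm,
    Nat.card_congr (Subgroup.subgroupOfEquivOfLe h).toEquiv]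

/-! ### Maps of the system -/

theorem finite_of_le [Finite S] (h : P ≤ S) : Finite P :=
  Finite.of_injective (Subgroup.inclusion h) (Subgroup.inclusion_injective h)

theorem finite_subgroups [Finite S] : {P : Subgroup Ω | P ≤ S}.Finite := by
  have h : {P : Subgroup Ω | P ≤ S} ⊆ Set.range (fun K : Subgroup S => K.map S.subtype) :=
    fun P hP => ⟨P.subgroupOf S, Subgroup.map_subgroupOf_eq_of_le hP⟩
  exact (Set.finite_range _).subset h

theorem le_left {φ : P →* Ω} (hφ : φ ∈ F.Hom P) : P ≤ S := (F.le_of_mem hφ).1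

theorem apply_mem {φ : P →* Ω} (hφ : φ ∈ F.Hom P) (x : P) : φ x ∈ S := (F.le_of_mem hφ).2 x

theorem range_le {φ : P →* Ω} (hφ : φ ∈ F.Hom P) : φ.range ≤ S := by
  rintro y ⟨x, rfl⟩
  exact apply_mem hφ x

theorem imgHom_le {φ : P →* Ω} (hφ : φ ∈ F.Hom P) (R : Subgroup Ω) : imgHom φ R ≤ S :=
  (imgHom_le_range φ R).trans (range_le hφ)

theorem subtype_mem (hP : P ≤ S) : P.subtype ∈ F.Hom P := by
  have h : conjHom P (1 : Ω) = P.subtype := by ext x; simp [conjHom]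
  exact h ▸ F.conj_mem hP S.one_mem

/-- Membership of `F.Hom` only depends on the source and on the values. -/
theorem mem_of_eq (e : P = Q) {φ : Q →* Ω} (hφ : φ ∈ F.Hom Q) {ψ : P →* Ω}
    (h : ∀ (x : Ω) (hx : x ∈ P), ψ ⟨x, hx⟩ = φ ⟨x, e ▸ hx⟩) : ψ ∈ F.Hom P := by
  subst e
  have : ψ = φ := MonoidHom.ext fun x => h x x.2
  exact this ▸ hφ

theorem mem_congr {φ ψ : P →* Ω} (hφ : φ ∈ F.Hom P) (h : ∀ x : P, ψ x = φ x) : ψ ∈ F.Hom P :=
  (MonoidHom.ext h : ψ = φ) ▸ hφ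

theorem restrict_mem {φ : P →* Ω} (hφ : φ ∈ F.Hom P) (h : R ≤ P) :
    restrictHom φ h ∈ F.Hom R :=
  mem_congr (F.comp_mem (subtype_mem (h.trans (le_left hφ))) hφ fun x => h x.2) fun _ => rfl

/-- A homomorphism agreeing with a map of the system defined on a larger subgroup is a map. -/
theorem mem_of_agree {φ : P →* Ω} (hφ : φ ∈ F.Hom P) (h : R ≤ P) {ψ : R →* Ω}
    (e : ∀ x : R, ψ x = φ ⟨x, h x.2⟩) : ψ ∈ F.Hom R :=
  mem_congr (restrict_mem hφ h) e

/-- Composition of two maps, stated through values. -/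
theorem mem_of_comp {φ : P →* Ω} {ψ : Q →* Ω} (hφ : φ ∈ F.Hom P) (hψ : ψ ∈ F.Hom Q)
    (h : ∀ x : P, φ x ∈ Q) {χ : P →* Ω} (e : ∀ x : P, χ x = ψ ⟨φ x, h x⟩) : χ ∈ F.Hom P :=
  mem_congr (F.comp_mem hφ hψ h) e

theorem conj_mem' (hP : P ≤ S) {g : Ω} (hg : g ∈ S) {φ : P →* Ω}
    (h : ∀ x : P, φ x = g * x * g⁻¹) : φ ∈ F.Hom P :=
  mem_congr (F.conj_mem hP hg) h

/-! ### Isomorphisms of the system -/

/-- The isomorphism `e : P ≃* Q` belongs to the system. -/
def IsIso (F : FusionSystem S) {P Q : Subgroup Ω} (e : P ≃* Q) : Prop :=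
  Q.subtype.comp e.toMonoidHom ∈ F.Hom P

theorem IsIso.le_left {e : P ≃* Q} (he : IsIso F e) : P ≤ S := (F.le_of_mem he).1

theorem IsIso.le_right {e : P ≃* Q} (he : IsIso F e) : Q ≤ S := fun y hy => by
  simpa using (F.le_of_mem he).2 (e.symm ⟨y, hy⟩)

theorem IsIso.refl (hP : P ≤ S) : IsIso F (MulEquiv.refl P) :=
  mem_congr (subtype_mem hP) fun _ => rfl

theorem range_subtype_comp (e : P ≃* Q) : (Q.subtype.comp e.toMonoidHom).range = Q := by
  ext y
  exact ⟨fun ⟨x, hx⟩ => hx ▸ (e x).2, fun hy => ⟨e.symm ⟨y, hy⟩, by simp⟩⟩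

theorem IsIso.symm {e : P ≃* Q} (he : IsIso F e) : IsIso F e.symm := by
  obtain ⟨ψ, hψ, h⟩ := F.inv_mem he
  refine mem_of_eq (range_subtype_comp e).symm hψ fun y hy => ?_
  have := h (e.symm ⟨y, hy⟩)
  simp only [MonoidHom.coe_comp, MulEquiv.coe_toMonoidHom, Subgroup.coe_subtype,
    Function.comp_apply, MulEquiv.apply_symm_apply] at this ⊢
  exact this.symm

theorem IsIso.trans {e : P ≃* Q} {e' : Q ≃* R} (he : IsIso F e) (he' : IsIso F e') :
    IsIso F (e.trans e') :=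
  mem_of_comp he he' (fun x => (e x).2) fun _ => rfl

theorem IsIso.comp_hom {e : P ≃* Q} (he : IsIso F e) {ψ : Q →* Ω} (hψ : ψ ∈ F.Hom Q) :
    ψ.comp e.toMonoidHom ∈ F.Hom P :=
  mem_of_comp he hψ (fun x => (e x).2) fun _ => rfl

theorem IsIso.card_eq {e : P ≃* Q} (_he : IsIso F e) : Nat.card P = Nat.card Q :=
  Nat.card_congr e.toEquiv

/-- The isomorphism onto its image underlying a map of the system. -/
theorem exists_iso {φ : P →* Ω} (hφ : φ ∈ F.Hom P) (hr : φ.range = Q) :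
    ∃ e : P ≃* Q, IsIso F e ∧ ∀ x : P, (e x : Ω) = φ x := by
  subst hr
  exact ⟨MonoidHom.ofInjective (F.injective_of_mem hφ), mem_congr hφ fun _ => rfl, fun _ => rfl⟩

theorem exists_iso_range {φ : P →* Ω} (hφ : φ ∈ F.Hom P) :
    ∃ e : P ≃* φ.range, IsIso F e ∧ ∀ x : P, (e x : Ω) = φ x :=
  exists_iso hφ rfl

/-- The restriction of a map of the system, as an isomorphism onto the image. -/
theorem exists_iso_restrict {φ : P →* Ω} (hφ : φ ∈ F.Hom P) (h : R ≤ P) :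
    ∃ e : R ≃* imgHom φ R, IsIso F e ∧ ∀ x : R, (e x : Ω) = φ ⟨x, h x.2⟩ :=
  exists_iso (restrict_mem hφ h) (range_restrictHom φ h)

theorem isConj_iff : F.IsConj P Q ↔ ∃ e : P ≃* Q, IsIso F e := by
  refine ⟨fun ⟨φ, hφ, hr⟩ => ?_, fun ⟨e, he⟩ => ⟨_, he, range_subtype_comp e⟩⟩
  obtain ⟨e, he, -⟩ := exists_iso hφ hr
  exact ⟨e, he⟩

theorem IsIso.isConj {e : P ≃* Q} (he : IsIso F e) : F.IsConj P Q := isConj_iff.2 ⟨e, he⟩

theorem isConj_refl (hP : P ≤ S) : F.IsConj P P := (IsIso.refl hP).isConj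

theorem isConj_symm (h : F.IsConj P Q) : F.IsConj Q P := by
  obtain ⟨e, he⟩ := isConj_iff.1 h
  exact he.symm.isConj

theorem isConj_trans (h : F.IsConj P Q) (h' : F.IsConj Q R) : F.IsConj P R := by
  obtain ⟨e, he⟩ := isConj_iff.1 h
  obtain ⟨e', he'⟩ := isConj_iff.1 h'
  exact (he.trans he').isConj

theorem le_of_isConj_left (h : F.IsConj P Q) : P ≤ S := by
  obtain ⟨e, he⟩ := isConj_iff.1 h
  exact he.le_left

theorem le_of_isConj_right (h : F.IsConj P Q) : Q ≤ S := by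
  obtain ⟨e, he⟩ := isConj_iff.1 h
  exact he.le_right

theorem card_eq_of_isConj (h : F.IsConj P Q) : Nat.card P = Nat.card Q := by
  obtain ⟨e, he⟩ := isConj_iff.1 h
  exact he.card_eq

theorem isConj_restrict {φ : P →* Ω} (hφ : φ ∈ F.Hom P) (h : R ≤ P) :
    F.IsConj R (imgHom φ R) :=
  ⟨_, restrict_mem hφ h, range_restrictHom φ h⟩

theorem eq_S_of_isConj [Finite S] (h : F.IsConj S Q) : Q = S :=
  Subgroup.eq_of_le_of_card_ge (le_of_isConj_right h) (card_eq_of_isConj h).le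

/-! ### Automorphism groups -/

/-- The automorphisms of `P ≤ S` in the system, as a subgroup. -/
def autSubgroup (F : FusionSystem S) {P : Subgroup Ω} (hP : P ≤ S) : Subgroup (MulAut P) where
  carrier := {α | IsIso F α}
  one_mem' := IsIso.refl hP
  mul_mem' {a b} ha hb := (IsIso.trans hb ha : IsIso F (b.trans a))
  inv_mem' {a} ha := IsIso.symm ha

theorem autGroup_eq (hP : P ≤ S) : F.autGroup P = autSubgroup F hP :=
  le_antisymm ((Subgroup.closure_le _).2 fun _ h => h) fun _ h => Subgroup.subset_closure h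

theorem mem_autGroup_iff (hP : P ≤ S) {α : MulAut P} : α ∈ F.autGroup P ↔ IsIso F α := by
  rw [autGroup_eq hP]
  rfl

theorem autGroup_eq_bot (hP : ¬ P ≤ S) : F.autGroup P = ⊥ := by
  rw [FusionSystem.autGroup, Subgroup.closure_eq_bot_iff]
  intro α h
  exact absurd (IsIso.le_left h) hP

theorem IsIso.mem_autGroup {α : MulAut P} (h : IsIso F α) : α ∈ F.autGroup P :=
  Subgroup.subset_closure h

theorem mem_autGroup_of_le_of_eq (hP : P ≤ S) {φ : P →* Ω} (hφ : φ ∈ F.Hom P) {α : MulAut P}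
    (h : ∀ x : P, (α x : Ω) = φ x) : α ∈ F.autGroup P :=
  (mem_autGroup_iff hP).2 (mem_congr hφ h)

/-- An isomorphism of the system conjugates `Aut_F(P)` onto `Aut_F(Q)`. -/
theorem congr_mem_autGroup {e : P ≃* Q} (he : IsIso F e) {α : MulAut P}
    (hα : α ∈ F.autGroup P) : MulAut.congr e α ∈ F.autGroup Q :=
  (mem_autGroup_iff he.le_right).2
    (he.symm.trans (((mem_autGroup_iff he.le_left).1 hα).trans he))

theorem congr_mem_autGroup_iff {e : P ≃* Q} (he : IsIso F e) {α : MulAut P} :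
    MulAut.congr e α ∈ F.autGroup Q ↔ α ∈ F.autGroup P := by
  refine ⟨fun h => ?_, congr_mem_autGroup he⟩
  have := congr_mem_autGroup he.symm h
  have e2 : MulAut.congr e.symm (MulAut.congr e α) = α := by
    ext x; simp [MulAut.congr]
  rwa [e2] at this

theorem map_autGroup {e : P ≃* Q} (he : IsIso F e) :
    (F.autGroup P).map (MulAut.congr e).toMonoidHom = F.autGroup Q := by
  refine le_antisymm ?_ fun β hβ =>
    ⟨(MulAut.congr e).symm β, ?_, (MulAut.congr e).apply_symm_apply β⟩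
  · rintro _ ⟨α, hα, rfl⟩
    exact congr_mem_autGroup he hα
  · refine (congr_mem_autGroup_iff he).1 ?_
    rw [(MulAut.congr e).apply_symm_apply β]
    exact hβ

/-! ### Automorphisms induced by a subgroup of the ambient group -/

theorem autInducedBy_eq (K P : Subgroup Ω) :
    autInducedBy K P = (K.subgroupOf (Subgroup.normalizer (P : Set Ω))).map
      P.normalizerMonoidHom := by
  refine le_antisymm ((Subgroup.closure_le _).2 ?_) ?_
  · rintro α ⟨g, hgK, hg⟩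
    have hn : g ∈ Subgroup.normalizer (P : Set Ω) := by
      rw [Subgroup.mem_normalizer_iff]
      refine fun h => ⟨fun hh => ?_, fun hh => ?_⟩
      · rw [← hg ⟨h, hh⟩]
        exact (α ⟨h, hh⟩).2
      · have := hg (α.symm ⟨_, hh⟩)
        rw [MulEquiv.apply_symm_apply] at this
        have e : ((α.symm ⟨_, hh⟩ : P) : Ω) = h := mul_left_cancel (mul_right_cancel this.symm)
        exact e ▸ (α.symm ⟨_, hh⟩).2
    exact ⟨⟨g, hn⟩, hgK, MulEquiv.ext fun x => Subtype.ext (hg x).symm⟩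
  · rintro α ⟨g, hg, rfl⟩
    exact Subgroup.subset_closure ⟨g, hg, fun x => rfl⟩

theorem mem_autInducedBy_iff {K P : Subgroup Ω} {α : MulAut P} :
    α ∈ autInducedBy K P ↔
      ∃ g ∈ K, g ∈ Subgroup.normalizer (P : Set Ω) ∧ ∀ x : P, (α x : Ω) = g * x * g⁻¹ := by
  rw [autInducedBy_eq]
  constructor
  · rintro ⟨g, hg, rfl⟩
    exact ⟨g, hg, g.2, fun x => rfl⟩
  · rintro ⟨g, hg, hn, h⟩
    exact ⟨⟨g, hn⟩, hg, MulEquiv.ext fun x => Subtype.ext (h x).symm⟩

theorem autInducedBy_mono {K K' : Subgroup Ω} (h : K ≤ K') (P : Subgroup Ω) :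
    autInducedBy K P ≤ autInducedBy K' P :=
  Subgroup.closure_mono fun _ ⟨g, hg, hα⟩ => ⟨g, h hg, hα⟩

theorem Inn_eq (P : Subgroup Ω) : Inn P = autInducedBy P P := by
  ext α
  rw [mem_autInducedBy_iff]
  constructor
  · rintro ⟨g, rfl⟩
    exact ⟨g, g.2, Subgroup.le_normalizer g.2, fun x => rfl⟩
  · rintro ⟨g, hg, -, h⟩
    exact ⟨⟨g, hg⟩, MulEquiv.ext fun x => Subtype.ext (h x).symm⟩

theorem autInducedBy_le_autGroup (hP : P ≤ S) : autInducedBy S P ≤ F.autGroup P := by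
  intro α hα
  obtain ⟨g, hg, -, h⟩ := mem_autInducedBy_iff.1 hα
  exact (mem_autGroup_iff hP).2 (conj_mem' hP hg h)

theorem Inn_le_autInducedBy (hP : P ≤ S) : Inn P ≤ autInducedBy S P :=
  Inn_eq P ▸ autInducedBy_mono hP P

theorem Inn_le_autGroup (hP : P ≤ S) : Inn P ≤ F.autGroup P :=
  (Inn_le_autInducedBy hP).trans (autInducedBy_le_autGroup hP)

theorem Inn_normal (P : Subgroup Ω) : (Inn P).Normal := by
  refine ⟨?_⟩
  rintro _ ⟨g, rfl⟩ α
  exact ⟨α g, MulEquiv.ext fun x => by simp⟩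

/-! ### The centralizer and normalizer in `S` -/

theorem centralizerIn_le (S P : Subgroup Ω) : centralizerIn S P ≤ S := inf_le_left

theorem normalizerIn_le (S P : Subgroup Ω) : normalizerIn S P ≤ S := inf_le_left

theorem mem_centralizerIn {g : Ω} :
    g ∈ centralizerIn S P ↔ g ∈ S ∧ ∀ x ∈ P, x * g = g * x := by
  rw [centralizerIn, Subgroup.mem_inf, Subgroup.mem_centralizer_iff]
  rfl

theorem mem_centralizerIn' {g : Ω} :
    g ∈ centralizerIn S P ↔ g ∈ S ∧ ∀ x ∈ P, g * x * g⁻¹ = x := by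
  rw [mem_centralizerIn]
  refine and_congr_right fun _ => forall₂_congr fun x _ => ?_
  rw [mul_inv_eq_iff_eq_mul, eq_comm]

theorem centralizerIn_le_normalizerIn (S P : Subgroup Ω) :
    centralizerIn S P ≤ normalizerIn S P := by
  intro g hg
  refine Subgroup.mem_inf.2 ⟨hg.1, Subgroup.mem_normalizer_iff.2 ?_⟩
  intro h
  have hc := (mem_centralizerIn'.1 hg).2
  constructor
  · intro hh
    rwa [hc h hh]
  · intro hh
    have := hc _ hh
    have e : g * h * g⁻¹ = h := mul_left_cancel (mul_right_cancel this)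
    rwa [e] at hh

theorem le_normalizerIn (hP : P ≤ S) : P ≤ normalizerIn S P :=
  le_inf hP Subgroup.le_normalizer

theorem centralizerIn_anti {P Q : Subgroup Ω} (h : P ≤ Q) :
    centralizerIn S Q ≤ centralizerIn S P :=
  inf_le_inf_left _ (Subgroup.centralizer_le h)

/-! ### Extenders -/

/-- Membership in `N_φ` unfolds to its defining condition. -/
theorem mem_extender_iff {φ : P →* Ω} {g : Ω} :
    g ∈ extender S P φ ↔ g ∈ S ∧ g ∈ Subgroup.normalizer (P : Set Ω) ∧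
      ∃ h ∈ S, ∀ (x : P) (hx : g * (x : Ω) * g⁻¹ ∈ P), φ ⟨g * x * g⁻¹, hx⟩ = h * φ x * h⁻¹ := by
  refine ⟨fun hg => ?_, fun hg => Subgroup.subset_closure hg⟩
  induction hg using Subgroup.closure_induction with
  | mem x hx => exact hx
  | one => exact ⟨S.one_mem, Subgroup.one_mem _, 1, S.one_mem, fun x hx => by simp⟩
  | mul a b _ _ ha hb =>
    obtain ⟨haS, haN, c, hc, hac⟩ := ha
    obtain ⟨hbS, hbN, d, hd, hbd⟩ := hb
    refine ⟨S.mul_mem haS hbS, Subgroup.mul_mem _ haN hbN, c * d, S.mul_mem hc hd, fun x hx => ?_⟩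
    have hbx : b * (x : Ω) * b⁻¹ ∈ P := (Subgroup.mem_normalizer_iff.1 hbN x).1 x.2
    have := hac ⟨_, hbx⟩ ((Subgroup.mem_normalizer_iff.1 haN _).1 hbx)
    rw [hbd x hbx] at this
    rw [show (⟨a * b * x * (a * b)⁻¹, hx⟩ : P) =
      ⟨a * (b * x * b⁻¹) * a⁻¹, (Subgroup.mem_normalizer_iff.1 haN _).1 hbx⟩ from
        Subtype.ext (by simp [mul_assoc]), this]
    simp [mul_assoc]
  | inv a _ ha =>
    obtain ⟨haS, haN, c, hc, hac⟩ := ha
    refine ⟨S.inv_mem haS, Subgroup.inv_mem _ haN, c⁻¹, S.inv_mem hc, fun x hx => ?_⟩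
    have e : a * (a⁻¹ * (x : Ω) * a⁻¹⁻¹) * a⁻¹ = (x : Ω) := by simp [mul_assoc]
    have := hac ⟨_, hx⟩ (e.symm ▸ x.2)
    rw [show (⟨a * (a⁻¹ * (x : Ω) * a⁻¹⁻¹) * a⁻¹, _⟩ : P) = x from Subtype.ext e] at this
    rw [this]
    simp [mul_assoc]

theorem extender_le_normalizerIn (φ : P →* Ω) : extender S P φ ≤ normalizerIn S P := fun g hg =>
  ⟨(mem_extender_iff.1 hg).1, (mem_extender_iff.1 hg).2.1⟩

theorem le_extender {φ : P →* Ω} (hP : P ≤ S) (hφ : ∀ x : P, φ x ∈ S) :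
    P ≤ extender S P φ := fun g hg =>
  mem_extender_iff.2 ⟨hP hg, Subgroup.le_normalizer hg, φ ⟨g, hg⟩, hφ _, fun x hx => by
    rw [← map_inv, ← map_mul, ← map_mul]
    rfl⟩

theorem centralizerIn_le_extender (φ : P →* Ω) :
    centralizerIn S P ≤ extender S P φ := fun g hg =>
  mem_extender_iff.2 ⟨hg.1, (centralizerIn_le_normalizerIn S P hg).2, 1, S.one_mem, fun x hx => by
    have e := (mem_centralizerIn'.1 hg).2 x x.2
    rw [show (⟨g * x * g⁻¹, hx⟩ : P) = x from Subtype.ext e]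
    simp⟩

/-- If `φ` extends to a map on `R`, the elements of `R` normalizing `P` lie in `N_φ`. -/
theorem inf_normalizer_le_extender {φ : P →* Ω} {ψ : R →* Ω} (hψ : ψ ∈ F.Hom R) (h : P ≤ R)
    (e : ∀ x : P, ψ ⟨x, h x.2⟩ = φ x) :
    R ⊓ Subgroup.normalizer (P : Set Ω) ≤ extender S P φ := fun g hg =>
  mem_extender_iff.2 ⟨le_left hψ hg.1, hg.2, ψ ⟨g, hg.1⟩, apply_mem hψ _, fun x hx => by
    rw [← e x, ← map_inv, ← map_mul, ← map_mul, ← e ⟨_, hx⟩]
    rfl⟩

/-! ### Fully normalized and fully centralized subgroups -/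

theorem exists_fullyNormalized [Finite S] (hP : P ≤ S) :
    ∃ Q, F.IsConj P Q ∧ F.IsFullyNormalized Q := by
  obtain ⟨Q, hQ, hmax⟩ := Set.exists_max_image {Q | F.IsConj P Q}
    (fun Q => Nat.card (normalizerIn S Q))
    (finite_subgroups.subset fun Q hQ => le_of_isConj_right hQ) ⟨P, isConj_refl hP⟩
  exact ⟨Q, hQ, le_of_isConj_right hQ, fun R hR => hmax R (isConj_trans hQ hR)⟩

theorem exists_fullyCentralized [Finite S] (hP : P ≤ S) :
    ∃ Q, F.IsConj P Q ∧ F.IsFullyCentralized Q := by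
  obtain ⟨Q, hQ, hmax⟩ := Set.exists_max_image {Q | F.IsConj P Q}
    (fun Q => Nat.card (centralizerIn S Q))
    (finite_subgroups.subset fun Q hQ => le_of_isConj_right hQ) ⟨P, isConj_refl hP⟩
  exact ⟨Q, hQ, le_of_isConj_right hQ, fun R hR => hmax R (isConj_trans hQ hR)⟩

theorem isFullyNormalized_self [Finite S] : F.IsFullyNormalized S :=
  ⟨le_rfl, fun _ hQ => (eq_S_of_isConj hQ) ▸ le_rfl⟩

/-! ### Centric subgroups -/

theorem isCentric_self [Finite S] : F.IsCentric S :=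
  ⟨le_rfl, fun _ hQ => (eq_S_of_isConj hQ).symm ▸ inf_le_left⟩

theorem isCentric_of_isConj (hP : F.IsCentric P) (h : F.IsConj P Q) : F.IsCentric Q :=
  ⟨le_of_isConj_right h, fun R hR => hP.2 R (isConj_trans h hR)⟩

theorem centralizerIn_le_of_centric (hP : F.IsCentric P) : centralizerIn S P ≤ P :=
  hP.2 P (isConj_refl hP.1)

theorem isCentric_of_le (hP : F.IsCentric P) (hPQ : P ≤ Q) (hQ : Q ≤ S) : F.IsCentric Q := by
  refine ⟨hQ, fun R ⟨φ, hφ, hr⟩ => ?_⟩
  have h1 : imgHom φ P ≤ R := hr ▸ imgHom_le_range φ P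
  exact ((centralizerIn_anti h1).trans (hP.2 _ (isConj_restrict hφ hPQ))).trans h1

end CfsgLib.Fusion
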