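import Cfsg.Agent.Fusion.ModelBiset
import Mathlib.GroupTheory.Index
import Mathlib.GroupTheory.QuotientGroup.Basic

/-!
# Existence of models

The group of the bundle of `ModelBiset`, pushed out along the averaging map to `Z(Q)`.
-/

set_option autoImplicit false

namespace CfsgLib.Fusion

open Cfsg Cfsg.FusionSystem

universe u

variable {Ω : Type u} [Group Ω] {S : Subgroup Ω} {F : FusionSystem S} {Q : Subgroup Ω} {p : ℕ}

theorem receptive_of_normal [Finite S] [Fact p.Prime] (hS : IsPGroup p S) (hF : F.IsSaturated p)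
    (hQ : F.IsNormal Q) : F.IsReceptive Q := by
  refine receptive_of_fullyCentralized hS hF ⟨hQ.1, fun R ⟨φ, hφ, hr⟩ => ?_⟩
  have h1 : R = Q := by
    subst hr
    have := finite_of_le hQ.1
    refine Subgroup.eq_of_le_of_card_ge ?_ (card_eq_of_isConj ⟨φ, hφ, rfl⟩).le
    rintro _ ⟨x, rfl⟩
    exact (stronglyClosed_of_normal hQ).2 Q le_rfl φ hφ x
  rw [h1]

theorem autHom_of_agree (hQ : F.IsNormal Q) {R : Subgroup Ω} {ψ : R →* Ω} (hψ : ψ ∈ F.Hom R)
    (hQR : Q ≤ R) {l : F.autGroup Q} (hl : ∀ q : Q, ψ ⟨q, hQR q.2⟩ = ((l : MulAut Q) q : Ω))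
    (x : R) : autHom hQ ⟨ψ x, apply_mem hψ x⟩ =
      l * autHom hQ ⟨x, le_left hψ x.2⟩ * l⁻¹ := by
  refine eq_mul_inv_of_mul_eq (Subtype.ext (MulEquiv.ext fun q => Subtype.ext ?_))
  simp only [Subgroup.coe_mul, MulAut.mul_apply]
  rw [autHom_apply, ← hl, ← hl, ← map_inv, ← map_mul, ← map_mul]
  exact congrArg ψ (Subtype.ext (autHom_apply hQ ⟨x, le_left hψ x.2⟩ q).symm)

/-- A map of the system on an overgroup of `Q` lifts to a permutation of the bundle. -/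
theorem exists_perm_of_map [Finite S] [Fact p.Prime] (hS : IsPGroup p S) (hF : F.IsSaturated p)
    (hQ : F.IsNormal Q) (hQc : F.IsCentric Q)
    {Y : Type u} [Finite Y] [MulAction (S × S) Y] {π : Y → F.autGroup Q}
    (h1 : ∀ (s w : S) (y : Y), π ((s, w) • y) = autHom hQ s * π y * (autHom hQ w)⁻¹)
    (h2 : Function.Surjective π)
    (h3 : ∀ y y' : Y, π y = π y' → ∃ a ∈ (autHom hQ).ker, y' = ((1 : S), a) • y)
    (h4 : ∀ (w : S) (y : Y), ((1 : S), w) • y = y → w = 1)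
    (h5 : ∀ y : Y, ∃ φ : ((domSub hQ (π y)).map S.subtype : Subgroup Ω) →* Ω,
      φ ∈ F.Hom ((domSub hQ (π y)).map S.subtype) ∧
        ∀ (x : S) (hx : (x : Ω) ∈ (domSub hQ (π y)).map S.subtype) (hφ : φ ⟨x, hx⟩ ∈ S),
          (x, (⟨φ ⟨x, hx⟩, hφ⟩ : S)) • y = y)
    (h6 : ∀ (y : Y) (q : Q), ((⟨q, hQ.1 q.2⟩ : S),
        (⟨(((π y)⁻¹ : F.autGroup Q) : MulAut Q) q, hQ.1 (Subtype.mem _)⟩ : S)) • y = y)
    {R : Subgroup Ω} {ψ : R →* Ω} (hψ : ψ ∈ F.Hom R) (hQR : Q ≤ R) {l : F.autGroup Q}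
    (hl : ∀ q : Q, ψ ⟨q, hQR q.2⟩ = ((l : MulAut Q) q : Ω)) :
    ∃ g : Equiv.Perm Y, (∀ (w : S) (y : Y), g (((1 : S), w) • y) = ((1 : S), w) • g y) ∧
      (∀ y, π (g y) = l * π y) ∧
      ∀ (x : R) (y : Y), g (((⟨x, le_left hψ x.2⟩ : S), (1 : S)) • y) =
        ((⟨ψ x, apply_mem hψ x⟩ : S), (1 : S)) • g y := by
  have hRS := le_left hψ
  have hfree : ∀ (x w w' : S) (y : Y), (x, w) • y = (x, w') • y → w = w' := by
    intro x w w' y h
    have h' := congrArg (fun z => (x⁻¹, w'⁻¹) • z) h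
    rw [smul_smul, smul_smul, Prod.mk_mul_mk, Prod.mk_mul_mk, inv_mul_cancel, inv_mul_cancel,
      ← Prod.one_eq_mk, one_smul] at h'
    exact (eq_inv_of_mul_eq_one_right (h4 _ _ h')).trans (inv_inv _)
  -- the choice of images of orbit representatives
  have hkey : ∀ y₀ : Y, ∃ y₁ : Y, π y₁ = l * π y₀ ∧ ∀ (x : R) (w : S),
      ((⟨x, hRS x.2⟩ : S), w) • y₀ = y₀ → ((⟨ψ x, apply_mem hψ x⟩ : S), w) • y₁ = y₁ := by
    intro y₀
    obtain ⟨y', hy'⟩ := h2 (l * π y₀)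
    obtain ⟨f₀, hf₀, hf₀fix⟩ := h5 y₀
    obtain ⟨f', hf', hf'fix⟩ := h5 y'
    obtain ⟨W, hWdef⟩ : ∃ W, W = R ⊓ (domSub hQ (π y₀)).map S.subtype := ⟨_, rfl⟩
    have hWR : W ≤ R := hWdef ▸ inf_le_left
    have hW0 : W ≤ (domSub hQ (π y₀)).map S.subtype := hWdef ▸ inf_le_right
    have hQW : Q ≤ W := hWdef ▸ le_inf hQR fun q hq =>
      ⟨⟨q, hQ.1 hq⟩, mem_domSub_of_mem hQ (π y₀) (q := ⟨q, hq⟩), rfl⟩
    have hψW : ∀ x : W, restrictHom ψ hWR x ∈ (domSub hQ (π y')).map S.subtype := by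
      intro x
      obtain ⟨s, hs, hsx⟩ := hW0 x.2
      refine ⟨⟨ψ ⟨x, hWR x.2⟩, apply_mem hψ _⟩, ?_, rfl⟩
      have hs' : (⟨(⟨x, hWR x.2⟩ : R), hRS (hWR x.2)⟩ : S) = s := Subtype.ext hsx.symm
      refine (mem_domSub hQ).2 ?_
      rw [autHom_of_agree hQ hψ hQR hl, hs', hy']
      simpa [mul_assoc] using (mem_domSub hQ).1 hs
    let φ₂ := f'.comp ((restrictHom ψ hWR).codRestrict _ hψW)
    have hφ₂ : φ₂ ∈ F.Hom W := F.comp_mem (restrict_mem hψ hWR) hf' hψW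
    have hfQ : ∀ (y : Y) (f : ((domSub hQ (π y)).map S.subtype : Subgroup Ω) →* Ω)
        (_ : f ∈ F.Hom ((domSub hQ (π y)).map S.subtype))
        (_ : ∀ (x : S) (hx : (x : Ω) ∈ (domSub hQ (π y)).map S.subtype) (hφ : f ⟨x, hx⟩ ∈ S),
          (x, (⟨f ⟨x, hx⟩, hφ⟩ : S)) • y = y) (q : Q)
        (hx : (q : Ω) ∈ (domSub hQ (π y)).map S.subtype),
        f ⟨q, hx⟩ = ((((π y)⁻¹ : F.autGroup Q) : MulAut Q) q : Ω) := by
      intro y f hf hfix q hx
      exact congrArg Subtype.val (hfree _ _ _ y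
        ((hfix ⟨q, hQ.1 q.2⟩ hx (apply_mem hf _)).trans (h6 y q).symm))
    obtain ⟨z, hzQ, hzC, hzv⟩ := exists_center_conj_of_agree hS hF hQW hQc
      (restrict_mem hf₀ hW0) hφ₂ fun x hx => by
        show f₀ ⟨x, hW0 x.2⟩ = f' _
        rw [hfQ y₀ f₀ hf₀ hf₀fix ⟨x, hx⟩ (hW0 x.2)]
        have e : ((restrictHom ψ hWR).codRestrict _ hψW x) =
            (⟨((l : MulAut Q) ⟨x, hx⟩ : Ω), hl ⟨x, hx⟩ ▸ hψW x⟩ :
              ((domSub hQ (π y')).map S.subtype : Subgroup Ω)) :=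
          Subtype.ext (hl ⟨x, hx⟩)
        rw [e, hfQ y' f' hf' hf'fix ((l : MulAut Q) ⟨x, hx⟩), hy', mul_inv_rev]
        simp [InvMemClass.coe_inv]
    let a : S := ⟨restrictHom f₀ hW0 z, apply_mem hf₀ _⟩
    have ha : a ∈ (autHom hQ).ker := by
      rw [mem_ker_autHom, mem_centralizerIn']
      refine ⟨a.2, fun v hv => ?_⟩
      obtain ⟨u, hu⟩ := (((π y₀)⁻¹ : F.autGroup Q) : MulAut Q).surjective ⟨v, hv⟩
      have hv' : v = restrictHom f₀ hW0 ⟨u, hQW u.2⟩ := by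
        rw [restrictHom_apply, hfQ y₀ f₀ hf₀ hf₀fix u, hu]
      show restrictHom f₀ hW0 z * v * (restrictHom f₀ hW0 z)⁻¹ = v
      rw [hv', ← map_inv, ← map_mul, ← map_mul]
      refine congrArg _ (Subtype.ext ?_)
      show (z : Ω) * u * (z : Ω)⁻¹ = u
      rw [← Subgroup.mem_centralizer_iff.1 hzC u u.2]
      simp [mul_assoc]
    refine ⟨((1 : S), a⁻¹) • y', ?_, fun x w hxw => ?_⟩
    · rw [h1, map_inv, MonoidHom.mem_ker.1 ha, hy']
      simp
    · have hx0 : (⟨x, hRS x.2⟩ : S) ∈ domSub hQ (π y₀) := by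
        refine (mem_domSub hQ).2 ⟨w, ?_⟩
        have h := congrArg π hxw
        rw [h1] at h
        have h' := congrArg (fun z => (π y₀)⁻¹ * z * autHom hQ w) h
        simpa [mul_assoc] using h'.symm
      have hxW : (x : Ω) ∈ W := hWdef.ge ⟨x.2, ⟨_, hx0, rfl⟩⟩
      have hw : (w : Ω) = restrictHom f₀ hW0 ⟨x, hxW⟩ := congrArg Subtype.val
        (hfree _ _ _ y₀ (hxw.trans (hf₀fix ⟨x, hRS x.2⟩ (hW0 hxW) (apply_mem hf₀ _)).symm))
      have hfix' := hf'fix ⟨ψ x, apply_mem hψ x⟩ (hψW ⟨x, hxW⟩) (apply_mem hf' _)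
      have hv : (⟨f' ⟨ψ x, hψW ⟨x, hxW⟩⟩, apply_mem hf' _⟩ : S) = a * w * a⁻¹ := by
        refine Subtype.ext ?_
        show φ₂ ⟨x, hxW⟩ = restrictHom f₀ hW0 z * (w : Ω) * (restrictHom f₀ hW0 z)⁻¹
        rw [hzv, hw, map_mul, map_mul, map_inv]
      conv_rhs => rw [← hfix', hv]
      rw [smul_smul, smul_smul]
      simp [mul_assoc]
  choose tgt htgt1 htgt2 using hkey
  -- orbits of `R × S`
  let D : Subgroup (S × S) := (R.subgroupOf S).prod ⊤
  letI : Setoid Y := MulAction.orbitRel D Y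
  let rep : Y → Y := fun y => (Quotient.mk (MulAction.orbitRel D Y) y).out
  have hrep : ∀ y, ∃ d : D, (d : S × S) • rep y = y := by
    intro y
    obtain ⟨d, hd⟩ := Quotient.mk_out (s := MulAction.orbitRel D Y) y
    exact ⟨d⁻¹, inv_smul_eq_iff.2 hd.symm⟩
  have hrep2 : ∀ (d : D) y, rep ((d : S × S) • y) = rep y := fun d y =>
    congrArg Quotient.out (Quotient.sound (s := MulAction.orbitRel D Y) ⟨d, rfl⟩)
  choose dec hdec using hrep
  let ψS : D →* S × S :=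
    { toFun := fun d => (⟨ψ ⟨((d : S × S).1 : Ω), (Subgroup.mem_prod.1 d.2).1⟩, apply_mem hψ _⟩,
        (d : S × S).2)
      map_one' := Prod.ext (Subtype.ext (map_one ψ)) rfl
      map_mul' := fun a b => Prod.ext (Subtype.ext (map_mul ψ
        ⟨((a : S × S).1 : Ω), (Subgroup.mem_prod.1 a.2).1⟩
        ⟨((b : S × S).1 : Ω), (Subgroup.mem_prod.1 b.2).1⟩)) rfl }
  let g : Y → Y := fun y => ψS (dec y) • tgt (rep y)
  have hg : ∀ (d : D) y, g ((d : S × S) • y) = ψS d • g y := by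
    intro d y
    show ψS (dec _) • tgt (rep _) = ψS d • ψS (dec y) • tgt (rep y)
    rw [hrep2]
    have e : (((dec ((d : S × S) • y))⁻¹ * (d * dec y) : D) : S × S) • rep y = rep y := by
      show ((dec ((d : S × S) • y) : S × S)⁻¹ * ((d : S × S) * dec y)) • rep y = rep y
      rw [mul_smul, mul_smul, hdec, inv_smul_eq_iff]
      conv_lhs => rw [← hdec ((d : S × S) • y), hrep2]
    have e2 : ψS ((dec ((d : S × S) • y))⁻¹ * (d * dec y)) • tgt (rep y) = tgt (rep y) :=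
      htgt2 (rep y) ⟨_, (Subgroup.mem_prod.1 ((dec ((d : S × S) • y))⁻¹ * (d * dec y) : D).2).1⟩
        _ e
    rw [map_mul, map_inv, mul_smul, inv_smul_eq_iff, map_mul, mul_smul] at e2
    exact e2.symm
  have hgπ : ∀ y, π (g y) = l * π y := by
    intro y
    show π (ψS (dec y) • tgt (rep y)) = _
    conv_rhs => rw [← hdec y]
    rw [h1, htgt1]
    obtain ⟨⟨s, w⟩, hsw⟩ := dec y
    show autHom hQ ⟨ψ ⟨s, _⟩, _⟩ * (l * π (rep y)) * (autHom hQ w)⁻¹ = _
    rw [autHom_of_agree hQ hψ hQR hl, h1]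
    simp [mul_assoc]
  have hgw : ∀ (w : S) (y : Y), g (((1 : S), w) • y) = ((1 : S), w) • g y := by
    intro w y
    have := hg ⟨(1, w), Subgroup.mem_prod.2 ⟨one_mem _, Subgroup.mem_top _⟩⟩ y
    rw [show ψS ⟨((1 : S), w), _⟩ = ((1 : S), w) from Prod.ext (Subtype.ext (map_one ψ)) rfl] at this
    exact this
  have hgbij : Function.Bijective g := by
    refine Finite.injective_iff_bijective.1 fun y y' h => ?_
    have hπy : π y = π y' := by
      have := congrArg π h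
      rwa [hgπ, hgπ, mul_right_inj] at this
    obtain ⟨a, -, rfl⟩ := h3 y y' hπy
    rw [hgw] at h
    rw [h4 a (g y) h.symm, ← Prod.one_eq_mk, one_smul]
  refine ⟨Equiv.ofBijective g hgbij, hgw, hgπ, fun x y => ?_⟩
  have := hg ⟨(⟨x, hRS x.2⟩, 1), Subgroup.mem_prod.2 ⟨x.2, Subgroup.mem_top _⟩⟩ y
  exact this

/-- The automorphism of `Z(Q) = ker (S → Aut(Q))` induced by an element of `Aut_F(Q)`. -/
theorem exists_act (hQ : F.IsNormal Q) (hQc : F.IsCentric Q) :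
    ∃ act : F.autGroup Q → ((autHom hQ).ker →* (autHom hQ).ker),
      ∀ l (a : (autHom hQ).ker) (ha : ((a : S) : Ω) ∈ Q),
        ((act l a : S) : Ω) = (l : MulAut Q) ⟨a, ha⟩ := by
  have hQa : ∀ a : (autHom hQ).ker, ((a : S) : Ω) ∈ Q := fun a =>
    centralizerIn_le_of_centric hQc ((mem_ker_autHom hQ).1 a.2)
  refine ⟨fun l => MonoidHom.mk' (fun a =>
    ⟨⟨(l : MulAut Q) ⟨a, hQa a⟩, hQ.1 (Subtype.mem _)⟩, ?_⟩) ?_, fun l a ha => rfl⟩
  · refine (mem_ker_autHom hQ).2 (mem_centralizerIn'.2 ⟨hQ.1 (Subtype.mem _), fun v hv => ?_⟩)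
    obtain ⟨u, hu⟩ := (l : MulAut Q).surjective ⟨v, hv⟩
    have hu' : v = ((l : MulAut Q) u : Ω) := by rw [hu]
    rw [hu']
    show ((l : MulAut Q) ⟨a, hQa a⟩ : Ω) * ((l : MulAut Q) u : Ω) *
      (((l : MulAut Q) ⟨a, hQa a⟩ : Q) : Ω)⁻¹ = _
    rw [← Subgroup.coe_inv, ← Subgroup.coe_mul, ← Subgroup.coe_mul, ← map_inv, ← map_mul,
      ← map_mul]
    exact congrArg (fun z => ((l : MulAut Q) z : Ω)) (Subtype.ext
      ((mem_centralizerIn'.1 ((mem_ker_autHom hQ).1 a.2)).2 u u.2))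
  · intro a b
    refine Subtype.ext (Subtype.ext ?_)
    exact congrArg (fun z : Q => (z : Ω)) (map_mul (l : MulAut Q) ⟨a, hQa a⟩ ⟨b, hQa b⟩) 

/-- Existence of a model for a saturated system with a normal centric subgroup. -/
theorem exists_model [Finite S] [Fact p.Prime] (hS : IsPGroup p S) (hF : F.IsSaturated p)
    (hQ : F.IsNormal Q) (hQc : F.IsCentric Q) :
    ∃ (G : Type u) (_ : Group G) (ι : S →* G), F.IsModel p G ι := by
  obtain ⟨Y, _, _, π, h1, h2, h3, h4, h5, h6⟩ := exists_biset hS hF hQ hQc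
  have hfQ := finite_of_le hQ.1
  obtain ⟨act, hact⟩ := exists_act hQ hQc
  let L := F.autGroup Q
  let t : S →* L := autHom hQ
  letI : CommGroup t.ker :=
    { (inferInstance : Group t.ker) with
      mul_comm := fun a b => Subtype.ext (Subtype.ext ((mem_centralizerIn.1 ((mem_ker_autHom hQ).1 b.2)).2 _
        (centralizerIn_le_of_centric hQc ((mem_ker_autHom hQ).1 a.2)))) }
  have hQa : ∀ a : t.ker, ((a : S) : Ω) ∈ Q := fun a =>
    centralizerIn_le_of_centric hQc ((mem_ker_autHom hQ).1 a.2)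
  have hact_mul : ∀ l m a, act (l * m) a = act l (act m a) := by
    intro l m a
    refine Subtype.ext (Subtype.ext ?_)
    rw [hact _ _ (hQa a), hact _ _ (hQa _)]
    show ((l : MulAut Q) ((m : MulAut Q) _) : Ω) = _
    exact congrArg (fun z => ((l : MulAut Q) z : Ω)) (Subtype.ext (hact m a (hQa a)).symm)
  -- the group of the bundle
  let Gh : Subgroup (Equiv.Perm Y) :=
    { carrier := {g | (∀ (w : S) (y : Y), g (((1 : S), w) • y) = ((1 : S), w) • g y) ∧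
        ∃ l : L, ∀ y, π (g y) = l * π y}
      one_mem' := ⟨fun w y => rfl, 1, fun y => (one_mul _).symm⟩
      mul_mem' := fun {a b} ha hb => ⟨fun w y => by
          show a (b _) = ((1 : S), w) • a (b y)
          rw [hb.1, ha.1], ha.2.choose * hb.2.choose, fun y => by
          show π (a (b y)) = _
          rw [ha.2.choose_spec, hb.2.choose_spec, mul_assoc]⟩
      inv_mem' := fun {a} ha => ⟨fun w y => by
          apply a.injective
          show a (a.symm _) = a (((1 : S), w) • a.symm y)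
          rw [ha.1, Equiv.apply_symm_apply, Equiv.apply_symm_apply],
          ha.2.choose⁻¹, fun y => by
          have h := ha.2.choose_spec (a.symm y)
          rw [Equiv.apply_symm_apply] at h
          rw [h, inv_mul_cancel_left]
          rfl⟩ }
  obtain ⟨y₁, hy₁⟩ := h2 1
  let φ₀ : Gh → L := fun g => π ((g : Equiv.Perm Y) y₁)
  have hφ₀ : ∀ (g : Gh) y, π ((g : Equiv.Perm Y) y) = φ₀ g * π y := by
    intro g y
    obtain ⟨l, hl⟩ := g.2.2
    show π _ = π ((g : Equiv.Perm Y) y₁) * π y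
    rw [hl, hl y₁, hy₁, mul_one]
  let φ : Gh →* L := MonoidHom.mk' φ₀ fun a b => by
    show π ((a : Equiv.Perm Y) ((b : Equiv.Perm Y) y₁)) = φ₀ a * φ₀ b
    rw [hφ₀ a]
  -- the left action
  let σ : S →* Gh := MonoidHom.mk' (fun s => ⟨MulAction.toPerm ((s, (1 : S)) : S × S),
      fun w y => by
        show (s, (1 : S)) • ((1 : S), w) • y = ((1 : S), w) • (s, (1 : S)) • y
        rw [smul_smul, smul_smul]; simp,
      t s, fun y => by
        show π ((s, (1 : S)) • y) = _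
        rw [h1, map_one, inv_one, mul_one]⟩) fun a b => Subtype.ext (Equiv.ext fun y => by
        show (a * b, (1 : S)) • y = (a, (1 : S)) • (b, (1 : S)) • y
        rw [smul_smul, Prod.mk_mul_mk, mul_one])
  have hφσ : ∀ s, φ (σ s) = t s := fun s => by
    show π ((s, (1 : S)) • y₁) = t s
    rw [h1, map_one, inv_one, mul_one, hy₁, mul_one]
  -- lifting maps of the system
  have hlift : ∀ {R : Subgroup Ω} {ψ : R →* Ω} (hψ : ψ ∈ F.Hom R) (hQR : Q ≤ R) {l : L}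
      (_ : ∀ q : Q, ψ ⟨q, hQR q.2⟩ = ((l : MulAut Q) q : Ω)),
      ∃ g : Gh, φ g = l ∧ ∀ x : R, g * σ ⟨x, le_left hψ x.2⟩ = σ ⟨ψ x, apply_mem hψ x⟩ * g := by
    intro R ψ hψ hQR l hl
    obtain ⟨g, hg1, hg2, hg3⟩ := exists_perm_of_map hS hF hQ hQc h1 h2 h3 h4 h5 h6 hψ hQR hl
    refine ⟨⟨g, hg1, l, hg2⟩, ?_, fun x => Subtype.ext (Equiv.ext fun y => hg3 x y)⟩
    show π (g y₁) = l
    rw [hg2, hy₁, mul_one]
  have hφsurj : Function.Surjective φ := fun l => by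
    obtain ⟨g, hg, -⟩ := hlift (R := Q) ((mem_autGroup_iff hQ.1).1 l.2) le_rfl fun q => rfl
    exact ⟨g, hg⟩
  -- the exact action on `Q`
  have hσQ : ∀ (q : Q) y, ((⟨q, hQ.1 q.2⟩ : S), (1 : S)) • y = ((1 : S),
      (⟨(((π y)⁻¹ : L) : MulAut Q) q, hQ.1 (Subtype.mem _)⟩ : S)⁻¹) • y := by
    intro q y
    refine Eq.trans ?_ (congrArg (fun z => ((1 : S),
      (⟨(((π y)⁻¹ : L) : MulAut Q) q, hQ.1 (Subtype.mem _)⟩ : S)⁻¹) • z) (h6 y q))
    rw [smul_smul, Prod.mk_mul_mk, one_mul, inv_mul_cancel]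
  have hexact : ∀ (g : Gh) (q : Q), g * σ ⟨q, hQ.1 q.2⟩ =
      σ ⟨((φ g : MulAut Q) q : Ω), hQ.1 (Subtype.mem _)⟩ * g := by
    intro g q
    refine Subtype.ext (Equiv.ext fun y => ?_)
    show (g : Equiv.Perm Y) (((⟨q, hQ.1 q.2⟩ : S), (1 : S)) • y) =
      ((⟨((φ g : MulAut Q) q : Ω), hQ.1 (Subtype.mem _)⟩ : S), (1 : S)) • (g : Equiv.Perm Y) y
    rw [hσQ, g.2.1, hσQ ((φ g : MulAut Q) q) ((g : Equiv.Perm Y) y)]
    congr 4
    rw [hφ₀, show φ₀ g = φ g from rfl, mul_inv_rev]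
    simp [InvMemClass.coe_inv]
  -- the averaging map
  have hdelta : ∀ (v : φ.ker) (y : Y), ∃ a : t.ker,
      ((v : Gh) : Equiv.Perm Y) y = ((1 : S), (a : S)) • y := by
    intro v y
    obtain ⟨a, ha, hay⟩ := h3 y (((v : Gh) : Equiv.Perm Y) y)
      (by rw [hφ₀, show φ₀ v = φ v from rfl, MonoidHom.mem_ker.1 v.2, one_mul])
    exact ⟨⟨a, ha⟩, hay⟩
  choose δ hδ using hdelta
  have hfree : ∀ (a b : S) (y : Y), ((1 : S), a) • y = ((1 : S), b) • y → a = b := by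
    intro a b y h
    have h' := congrArg (fun z => ((1 : S), b⁻¹) • z) h
    rw [smul_smul, smul_smul, Prod.mk_mul_mk, Prod.mk_mul_mk, inv_mul_cancel, one_mul,
      ← Prod.one_eq_mk, one_smul] at h'
    exact (eq_inv_of_mul_eq_one_right (h4 _ _ h')).trans (inv_inv _)
  let ν : φ.ker → Y → t.ker := fun v y => act (π y) (δ v y)
  have hν_w : ∀ (v : φ.ker) (w : S) (y : Y), ν v (((1 : S), w) • y) = ν v y := by
    intro v w y
    have hd : (δ v (((1 : S), w) • y) : S) = w * δ v y * w⁻¹ := by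
      refine hfree _ _ (((1 : S), w) • y) ?_
      rw [← hδ, (v : Gh).2.1, hδ v y, smul_smul, smul_smul]
      simp [mul_assoc]
    show act (π (((1 : S), w) • y)) _ = act (π y) (δ v y)
    rw [h1, map_one, one_mul, hact_mul]
    congr 1
    refine Subtype.ext (Subtype.ext ?_)
    rw [hact _ _ (hQa _), InvMemClass.coe_inv]
    have e : (⟨((δ v (((1 : S), w) • y) : S) : Ω), hQa _⟩ : Q) =
        ((t w : L) : MulAut Q) ⟨((δ v y : S) : Ω), hQa _⟩ := by
      refine Subtype.ext ?_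
      rw [autHom_apply]
      exact congrArg Subtype.val hd
    rw [e, MulAut.inv_apply_self]
  have hν_class : ∀ (v : φ.ker) (y y' : Y),
      (QuotientGroup.mk (π y) : L ⧸ t.range) = QuotientGroup.mk (π y') → ν v y = ν v y' := by
    intro v y y' h
    obtain ⟨w, hw⟩ := QuotientGroup.eq.1 h
    obtain ⟨a, -, hay⟩ := h3 (((1 : S), w⁻¹) • y) y' (by
      rw [h1, map_one, one_mul, map_inv, inv_inv, hw]
      simp)
    rw [hay, hν_w, hν_w]
  let X := L ⧸ t.range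
  letI : Fintype X := Fintype.ofFinite _
  choose sec hsec using fun x : X => h2 x.out
  have hν_sec : ∀ (v : φ.ker) (y : Y), ν v (sec (QuotientGroup.mk (π y))) = ν v y := fun v y =>
    hν_class v _ _ (by rw [hsec, QuotientGroup.out_eq'])
  have hν_mul : ∀ (v v' : φ.ker) y, ν (v * v') y = ν v y * ν v' y := by
    intro v v' y
    show act (π y) _ = act (π y) _ * act (π y) _
    rw [← map_mul, mul_comm (δ v y)]
    congr 1
    refine Subtype.ext (hfree _ _ y ?_)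
    rw [← hδ]
    show ((v : Gh) : Equiv.Perm Y) (((v' : Gh) : Equiv.Perm Y) y) = _
    rw [hδ v' y, (v : Gh).2.1, hδ v y, smul_smul, Prod.mk_mul_mk, one_mul]
    rfl
  let N : φ.ker →* t.ker := MonoidHom.mk' (fun v => ∏ x : X, ν v (sec x)) fun v v' => by
    simp only [hν_mul, Finset.prod_mul_distrib]
  have hNconj : ∀ (h : Gh) (v : φ.ker),
      N ⟨h * v * h⁻¹, (inferInstance : φ.ker.Normal).conj_mem v v.2 h⟩ = act (φ h) (N v) := by
    intro h v
    show ∏ x : X, ν _ (sec x) = act (φ h) (∏ x : X, ν v (sec x))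
    rw [map_prod, ← Equiv.prod_comp (MulAction.toPerm (φ h))]
    refine Finset.prod_congr rfl fun x _ => ?_
    obtain ⟨y, hy⟩ : ∃ y, y = sec x := ⟨_, rfl⟩
    have hx : (MulAction.toPerm (φ h)) x = QuotientGroup.mk (π ((h : Equiv.Perm Y) y)) := by
      rw [hy, hφ₀, hsec]
      show φ h • x = QuotientGroup.mk (φ h * x.out)
      conv_lhs => rw [← QuotientGroup.out_eq' x]
      rfl
    rw [hx, hν_sec, ← hy]
    show act (π ((h : Equiv.Perm Y) y)) _ = act (φ h) (act (π y) (δ v y))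
    rw [← hact_mul, hφ₀]
    congr 1
    refine Subtype.ext (hfree _ _ ((h : Equiv.Perm Y) y) ?_)
    rw [← hδ]
    show (h : Equiv.Perm Y) (((v : Gh) : Equiv.Perm Y) ((h : Equiv.Perm Y).symm ((h : Equiv.Perm Y) y))) = _
    rw [Equiv.symm_apply_apply, hδ v y, h.2.1]
  have hσa : ∀ a : t.ker, σ a ∈ φ.ker := fun a => MonoidHom.mem_ker.2 (by
    rw [hφσ]; exact MonoidHom.mem_ker.1 a.2)
  have hNσ : ∀ a : t.ker, N ⟨σ a, hσa a⟩ = (a⁻¹) ^ Nat.card X := by
    intro a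
    show ∏ x : X, ν _ (sec x) = _
    rw [Finset.prod_congr rfl (g := fun _ : X => a⁻¹), Finset.prod_const, Finset.card_univ,
      Nat.card_eq_fintype_card]
    intro x _
    show act (π (sec x)) (δ _ (sec x)) = a⁻¹
    generalize sec x = y
    have e : (δ ⟨σ a, hσa a⟩ y : S) =
        (⟨(((π y)⁻¹ : L) : MulAut Q) ⟨(a : S), hQa a⟩, hQ.1 (Subtype.mem _)⟩ : S)⁻¹ := by
      refine hfree _ _ y ?_
      rw [← hδ, ← hσQ]
      rfl
    refine Subtype.ext (Subtype.ext ?_)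
    rw [hact _ _ (hQa _)]
    have e2 : (⟨((δ ⟨σ a, hσa a⟩ y : S) : Ω), hQa _⟩ : Q) =
        ((((π y)⁻¹ : L) : MulAut Q) ⟨(a : S), hQa a⟩)⁻¹ :=
      Subtype.ext (congrArg (fun z : S => (z : Ω)) e :)
    rw [e2, map_inv, InvMemClass.coe_inv, InvMemClass.coe_inv, MulAut.apply_inv_self]
    rfl
  -- `|X|` is prime to the order of `t.ker`
  have hTS : IsSylowIn p (F.autGroup Q) (autInducedBy S Q) := by
    have hfn : F.IsFullyNormalized Q := ⟨hQ.1, fun R hR => by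
      have := finite_of_le (normalizerIn_le S Q)
      exact Subgroup.card_le_of_le (le_inf inf_le_left (inf_le_left.trans (normal_le_normalizer hQ)))⟩
    exact (automized_receptive hS hF hfn).1.2
  have hrange : t.range = (autInducedBy S Q).subgroupOf L := by
    ext l
    rw [Subgroup.mem_subgroupOf, mem_autInducedBy_iff]
    constructor
    · rintro ⟨s, rfl⟩
      exact ⟨s, s.2, normal_le_normalizer hQ s.2, fun _ => rfl⟩
    · rintro ⟨g, hg, -, hv⟩
      exact ⟨⟨g, hg⟩, Subtype.ext (MulEquiv.ext fun q => Subtype.ext (hv q).symm)⟩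
  have hindex : ¬ p ∣ t.range.index := by
    obtain ⟨T, hT⟩ := hTS
    rw [hrange, ← hT]
    exact T.not_dvd_index
  have hcop : (Nat.card t.ker).Coprime (Nat.card X) := by
    obtain ⟨k, hk⟩ := (hS.to_subgroup t.ker).exists_card_eq
    rw [hk]
    exact (((Fact.out : p.Prime).coprime_iff_not_dvd).2 hindex).pow_left k
  -- the model
  let K : Subgroup Gh := N.ker.map φ.ker.subtype
  haveI hK : K.Normal := ⟨fun x ⟨v, hv, hvx⟩ h =>
    ⟨⟨h * v * h⁻¹, (inferInstance : φ.ker.Normal).conj_mem v v.2 h⟩, MonoidHom.mem_ker.2 (by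
      rw [hNconj, MonoidHom.mem_ker.1 hv, map_one]), by rw [← hvx]; rfl⟩⟩
  let G := Gh ⧸ K
  let ι : S →* G := (QuotientGroup.mk' K).comp σ
  have hKφ : K ≤ φ.ker := Subgroup.map_subtype_le _
  let φb : G →* L := QuotientGroup.lift K φ hKφ
  have hφb : ∀ g : Gh, φb (QuotientGroup.mk' K g) = φ g := fun g => rfl
  have hinj : Function.Injective ι := by
    refine (injective_iff_map_eq_one ι).2 fun s hs => ?_
    have hs' : σ s ∈ K := (QuotientGroup.eq_one_iff _).1 hs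
    have hts : s ∈ t.ker := MonoidHom.mem_ker.2 (by
      rw [← hφσ]; exact MonoidHom.mem_ker.1 (hKφ hs'))
    obtain ⟨v, hv, hvs⟩ := hs'
    have e : v = ⟨σ ((⟨s, hts⟩ : t.ker) : S), hσa ⟨s, hts⟩⟩ := Subtype.ext hvs
    rw [SetLike.mem_coe, MonoidHom.mem_ker, e, hNσ] at hv
    have h1' : ((⟨s, hts⟩ : t.ker))⁻¹ = 1 :=
      (powCoprime hcop).injective (hv.trans (one_pow _).symm)
    exact congrArg Subtype.val (inv_eq_one.1 h1')
  have hker : ∀ g : G, φb g = 1 → ∃ a : t.ker, g = ι a := by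
    intro g hg
    obtain ⟨g, rfl⟩ := QuotientGroup.mk'_surjective K g
    have hgv : g ∈ φ.ker := MonoidHom.mem_ker.2 hg
    obtain ⟨a, ha⟩ := (powCoprime hcop).surjective (N ⟨g, hgv⟩)
    refine ⟨a⁻¹, QuotientGroup.eq.2 ⟨⟨g, hgv⟩⁻¹ * ⟨σ ((a⁻¹ : t.ker) : S), hσa a⁻¹⟩,
      MonoidHom.mem_ker.2 ?_, rfl⟩⟩
    rw [map_mul, map_inv, hNσ, inv_inv]
    show (N ⟨g, hgv⟩)⁻¹ * a ^ Nat.card X = 1
    rw [← ha]
    exact inv_mul_cancel _
  have hιrange : ι.range = t.range.comap φb := by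
    ext g
    constructor
    · rintro ⟨s, rfl⟩
      exact ⟨s, ((hφb _).trans (hφσ s)).symm⟩
    · rintro ⟨s, hs⟩
      obtain ⟨a, ha⟩ := hker (g * (ι s)⁻¹) (by
        rw [map_mul, map_inv, ← hs]
        show _ * (φ (σ s))⁻¹ = 1
        rw [hφσ, mul_inv_cancel])
      exact ⟨a * s, by rw [map_mul, ← ha, inv_mul_cancel_right]⟩
  have hφbs : Function.Surjective φb := fun l => by
    obtain ⟨g, hg⟩ := hφsurj l
    exact ⟨QuotientGroup.mk' K g, hg⟩
  have hQim : ∀ (g : G) (q : Q), g * ι ⟨q, hQ.1 q.2⟩ * g⁻¹ =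
      ι ⟨((φb g : MulAut Q) q : Ω), hQ.1 (Subtype.mem _)⟩ := by
    intro g q
    obtain ⟨g, rfl⟩ := QuotientGroup.mk'_surjective K g
    rw [mul_inv_eq_iff_eq_mul]
    show QuotientGroup.mk' K g * QuotientGroup.mk' K (σ _) =
      QuotientGroup.mk' K (σ _) * QuotientGroup.mk' K g
    rw [← map_mul, ← map_mul, hexact, hφb]
  have hTp : IsPGroup p ι.range := hS.of_equiv (MonoidHom.ofInjective hinj)
  have hidx : ¬ p ∣ ι.range.index := by
    rw [hιrange, Subgroup.index_comap_of_surjective _ hφbs]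
    exact hindex
  refine ⟨G, inferInstance, ι, inferInstance, ⟨hinj, fun P hP ϕ hϕ => ⟨fun hmem => ?_, ?_⟩⟩,
    ⟨hTp.toSylow hidx, rfl⟩, ?_⟩
  · -- maps of the system are induced by `G`
    obtain ⟨ψ, hψ, e1, e2⟩ := exists_normal_extension hQ hmem
    obtain ⟨α, hα, hαv⟩ := exists_iso (restrict_mem hψ (le_sup_right : Q ≤ P ⊔ Q))
      ((range_restrictHom ψ _).trans e2)
    obtain ⟨g, -, hg⟩ := hlift (l := ⟨α, (mem_autGroup_iff hQ.1).2 hα⟩) hψ le_sup_right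
      fun q => (hαv q).symm
    refine ⟨QuotientGroup.mk' K g, fun x => ?_⟩
    rw [eq_mul_inv_iff_mul_eq]
    show QuotientGroup.mk' K (σ _) * _ = _ * QuotientGroup.mk' K (σ _)
    rw [← map_mul, ← map_mul]
    refine congrArg (QuotientGroup.mk' K) ?_
    have h := hg (Subgroup.inclusion le_sup_left x)
    rw [show (⟨ψ (Subgroup.inclusion le_sup_left x), apply_mem hψ _⟩ : S) = ⟨ϕ x, hϕ x⟩ from
      Subtype.ext (e1 x)] at h
    exact h.symm
  · -- maps induced by `G` belong to the system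
    rintro ⟨g, hg⟩
    have hQr := receptive_of_normal hS hF hQ
    have hlI : IsIso F ((φb g : MulAut Q) : Q ≃* Q) := (mem_autGroup_iff hQ.1).1 (φb g).2
    have hle : P ⊔ Q ≤
        extender S Q (Q.subtype.comp ((φb g : MulAut Q) : Q ≃* Q).toMonoidHom) := by
      refine sup_le (fun x hx => ?_) (le_extender hQ.1 (F.le_of_mem hlI).2)
      refine mem_extender_of_congr (α := (t ⟨x, hP hx⟩ : MulAut Q))
        ⟨hP hx, normal_le_normalizer hQ (hP hx)⟩ (autHom_apply hQ ⟨x, hP hx⟩) ?_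
      rw [congr_self_eq]
      refine mem_autInducedBy_iff.2 ⟨ϕ ⟨x, hx⟩, hϕ _, normal_le_normalizer hQ (hϕ _), fun q => ?_⟩
      have h := congrArg φb (hg ⟨x, hx⟩)
      rw [map_mul, map_mul, map_inv, show φb (ι ⟨ϕ ⟨x, hx⟩, hϕ _⟩) = t ⟨ϕ ⟨x, hx⟩, hϕ _⟩ from hφσ _,
        show φb (ι ⟨x, hP hx⟩) = t ⟨x, hP hx⟩ from hφσ _] at h
      rw [← autHom_apply hQ ⟨ϕ ⟨x, hx⟩, hϕ _⟩ q]
      rw [show autHom hQ ⟨ϕ ⟨x, hx⟩, hϕ _⟩ = _ from h]
      rfl
    obtain ⟨ψ, hψ, hψx⟩ := exists_extension hQr hlI hle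
    have hψq : ∀ q : Q, ψ ⟨q, Subgroup.mem_sup_right q.2⟩ = ((φb g : MulAut Q) q : Ω) :=
      fun q => hψx q _
    obtain ⟨g', hg'l, hg'⟩ := hlift (l := φb g) hψ le_sup_right hψq
    obtain ⟨a, ha⟩ := hker ((QuotientGroup.mk' K g')⁻¹ * g) (by
      rw [map_mul, map_inv, hφb, hg'l, inv_mul_cancel])
    have hga : g = QuotientGroup.mk' K g' * ι a := by rw [← ha, mul_inv_cancel_left]
    have haQ : ∀ x : P, (a : S) * (x : Ω) * ((a : S) : Ω)⁻¹ ∈ P ⊔ Q := fun x =>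
      Subgroup.mul_mem _ (Subgroup.mul_mem _ (Subgroup.mem_sup_right (hQa a))
        (Subgroup.mem_sup_left x.2)) (Subgroup.inv_mem _ (Subgroup.mem_sup_right (hQa a)))
    refine mem_of_comp (F.conj_mem hP (a : S).2) hψ haQ fun x => ?_
    refine congrArg (fun z : S => (z : Ω))
      (hinj (?_ : ι ⟨ϕ x, hϕ x⟩ = ι ⟨ψ ⟨_, haQ x⟩, apply_mem hψ _⟩))
    have h := congrArg (QuotientGroup.mk' K) (hg' ⟨_, haQ x⟩)
    rw [map_mul, map_mul] at h
    rw [hg x, hga, show ι ⟨ψ ⟨_, haQ x⟩, apply_mem hψ _⟩ =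
      QuotientGroup.mk' K g' * ι ⟨(a : S) * (x : Ω) * ((a : S) : Ω)⁻¹,
        S.mul_mem (S.mul_mem (a : S).2 (hP x.2)) (S.inv_mem (a : S).2)⟩ *
          (QuotientGroup.mk' K g')⁻¹ from eq_mul_inv_of_mul_eq h.symm]
    rw [show (⟨(a : S) * (x : Ω) * ((a : S) : Ω)⁻¹,
      S.mul_mem (S.mul_mem (a : S).2 (hP x.2)) (S.inv_mem (a : S).2)⟩ : S) =
      (a : S) * ⟨x, hP x.2⟩ * (a : S)⁻¹ from rfl, map_mul, map_mul, map_inv]
    simp [mul_assoc]
  · -- the centralizer of the core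
    haveI hnQ : (im ι Q).Normal := by
      refine ⟨fun v hv g => ?_⟩
      obtain ⟨x, hx, rfl⟩ := hv
      rw [show x = ⟨((⟨x, hx⟩ : Q) : Ω), hQ.1 hx⟩ from rfl, hQim]
      exact ⟨⟨((φb g : MulAut Q) ⟨x, hx⟩ : Ω), hQ.1 (Subtype.mem _)⟩, Subtype.mem _, rfl⟩
    have hle : im ι Q ≤ pCore p G :=
      CfsgLib.PLocal.le_pCore (N := im ι Q) (hTp.to_le (im_le_range ι Q))
    intro c hc
    have hc' := Subgroup.centralizer_le hle hc
    have hl : φb c = 1 := by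
      refine Subtype.ext (MulEquiv.ext fun q => Subtype.ext ?_)
      have h := hQim c q
      rw [← Subgroup.mem_centralizer_iff.1 hc' _
        ((apply_mem_im_iff hinj).2 q.2 : ι ⟨q, hQ.1 q.2⟩ ∈ im ι Q)] at h
      rw [mul_inv_cancel_right] at h
      exact (congrArg Subtype.val (hinj h)).symm
    obtain ⟨a, rfl⟩ := hker c hl
    exact hle ((apply_mem_im_iff hinj).2 (hQa a))

end CfsgLib.Fusion
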