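import Cfsg.Agent.FusionAgemo.Induction
import Cfsg.Agent.FusionClosed.StronglyClosed

/-!
# Invariance and strong invariance

* `strongInvariant_of_invariant`: an invariant subsystem is strongly invariant.
* `invariant_of_strongInvariant`: the Frattini condition follows from strong invariance.
-/

set_option autoImplicit false

namespace CfsgLib.Fusion

open Cfsg Cfsg.FusionSystem CfsgLib.FusionAgemo CfsgLib.FusionClosed

variable {Ω : Type*} [Group Ω] {S T : Subgroup Ω} {F : FusionSystem S} {E : FusionSystem T}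
  {p : ℕ}

/-- The strong invariance condition. -/
def StronglyInvariant (E : FusionSystem T) (F : FusionSystem S) : Prop :=
  ∀ (P Q : Subgroup Ω) (hPQ : P ≤ Q) (_ : Q ≤ T) (φ : P →* Ω) (_ : φ ∈ E.Hom P)
    (hφQ : ∀ x : P, φ x ∈ Q) (ψ : Q →* Ω) (_ : ψ ∈ F.Hom Q),
    ∃ χ ∈ E.Hom ((P.subgroupOf Q).map ψ),
      ∀ (x : P) (hx : ψ (Subgroup.inclusion hPQ x) ∈ (P.subgroupOf Q).map ψ),
        χ ⟨ψ (Subgroup.inclusion hPQ x), hx⟩ = ψ ⟨φ x, hφQ x⟩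

theorem strongInvariant_of_invariant (h : E.IsInvariantIn F) : StronglyInvariant E F := by
  obtain ⟨-, hT, hinv, hfr⟩ := h
  intro P Q hPQ hQT φ hφ hφQ ψ hψ
  obtain ⟨α, hα, ψ₀, hψ₀, hψv⟩ := hfr Q hQT ψ hψ
  obtain ⟨θ, hθ, hθv⟩ := E.inv_mem hψ₀
  obtain ⟨P₀, hP₀⟩ : ∃ P₀, P₀ = (P.subgroupOf Q).map ψ₀ := ⟨_, rfl⟩
  have hP₀r : P₀ ≤ ψ₀.range := hP₀ ▸ Subgroup.map_le_range ψ₀ _
  have hP₀T : P₀ ≤ T := hP₀r.trans (range_le hψ₀)
  have hθP : ∀ z : P₀, restrictHom θ hP₀r z ∈ P := by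
    rintro ⟨z, hz⟩
    rw [hP₀] at hz
    obtain ⟨x, hx, rfl⟩ := hz
    rw [restrictHom_apply]
    exact (hθv x).symm ▸ hx
  let f := φ.comp ((restrictHom θ hP₀r).codRestrict P hθP)
  have hf : f ∈ E.Hom P₀ := E.comp_mem (restrict_mem hθ hP₀r) hφ hθP
  have hfQ : ∀ z : P₀, f z ∈ Q := fun z => hφQ _
  let g := ψ₀.comp (f.codRestrict Q hfQ)
  have hg : g ∈ E.Hom P₀ := E.comp_mem hf hψ₀ hfQ
  obtain ⟨χ, hχ, hχv⟩ := hinv P₀ hP₀T g hg α hα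
  have hle : (P.subgroupOf Q).map ψ ≤ (P₀.subgroupOf T).map (T.subtype.comp α.toMonoidHom) := by
    rintro _ ⟨x, hx, rfl⟩
    refine ⟨⟨ψ₀ x, apply_mem hψ₀ x⟩, hP₀ ▸ ⟨x, hx, rfl⟩, (hψv x (apply_mem hψ₀ x)).symm⟩
  refine ⟨restrictHom χ hle, restrict_mem hχ hle, fun x hx => ?_⟩
  let z : P₀ := ⟨ψ₀ (Subgroup.inclusion hPQ x), hP₀ ▸ ⟨_, x.2, rfl⟩⟩
  have e1 : ψ (Subgroup.inclusion hPQ x) = (α ⟨z, hP₀T z.2⟩ : T) :=
    hψv (Subgroup.inclusion hPQ x) (apply_mem hψ₀ _)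
  have e2 : g z = ψ₀ ⟨φ x, hφQ x⟩ := by
    show ψ₀ ⟨φ ⟨θ ⟨ψ₀ (Subgroup.inclusion hPQ x), _⟩, _⟩, _⟩ = _
    refine congrArg ψ₀ (Subtype.ext (congrArg φ (Subtype.ext ?_)))
    exact hθv (Subgroup.inclusion hPQ x)
  have hm : ((α ⟨z, hP₀T z.2⟩ : T) : Ω) ∈
      (P₀.subgroupOf T).map (T.subtype.comp α.toMonoidHom) :=
    ⟨⟨z, hP₀T z.2⟩, z.2, rfl⟩
  have h1 := hχv z (apply_mem hg z) hm
  show χ ⟨ψ (Subgroup.inclusion hPQ x), _⟩ = _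
  rw [hψv ⟨φ x, hφQ x⟩ (apply_mem hψ₀ _)]
  refine Eq.trans (congrArg χ (Subtype.ext e1 : _ = (⟨_, hm⟩ :
    ((P₀.subgroupOf T).map (T.subtype.comp α.toMonoidHom) : Subgroup Ω)))) (h1.trans ?_)
  exact congrArg (fun w : T => ((α w : T) : Ω)) (Subtype.ext e2)

/-- `E` is invariant under conjugation by `Aut_F(T)`. -/
def AutInvariant (E : FusionSystem T) (F : FusionSystem S) : Prop :=
  ∀ (P : Subgroup Ω) (hPT : P ≤ T) (φ : P →* Ω), φ ∈ E.Hom P → ∀ α ∈ F.autGroup T,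
    ∃ χ ∈ E.Hom ((P.subgroupOf T).map (T.subtype.comp α.toMonoidHom)),
      ∀ (x : P) (hφx : φ x ∈ T)
        (hαx : ((α ⟨x, hPT x.2⟩ : T) : Ω) ∈ (P.subgroupOf T).map (T.subtype.comp α.toMonoidHom)),
        χ ⟨(α ⟨x, hPT x.2⟩ : T), hαx⟩ = ((α ⟨φ x, hφx⟩ : T) : Ω)

theorem autInvariant_of_strongInvariant (hT : F.StronglyClosed T) (hsi : StronglyInvariant E F) :
    AutInvariant E F := fun P hPT φ hφ α hα => by
  obtain ⟨χ, hχ, hv⟩ := hsi P T hPT le_rfl φ hφ (apply_mem hφ)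
    (T.subtype.comp α.toMonoidHom) ((mem_autGroup_iff hT.1).1 hα)
  exact ⟨χ, hχ, fun x hφx hαx => hv x hαx⟩

/-- Transport of a map of `E` by an element of `Aut_F(T)`. -/
theorem exists_conj_hom (hinv : AutInvariant E F)
    {P : Subgroup Ω} {φ : P →* Ω} (hφ : φ ∈ E.Hom P) {α : MulAut T} (hα : α ∈ F.autGroup T)
    {R : Subgroup Ω} (hR : ∀ y ∈ R, ∃ x : P, ((α ⟨x, le_left hφ x.2⟩ : T) : Ω) = y) :
    ∃ χ ∈ E.Hom R, ∀ (x : P) (hx : ((α ⟨x, le_left hφ x.2⟩ : T) : Ω) ∈ R),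
      χ ⟨_, hx⟩ = ((α ⟨φ x, apply_mem hφ x⟩ : T) : Ω) := by
  obtain ⟨χ, hχ, hv⟩ := hinv P (le_left hφ) φ hφ α hα
  have hle : R ≤ (P.subgroupOf T).map (T.subtype.comp α.toMonoidHom) := fun y hy => by
    obtain ⟨x, rfl⟩ := hR y hy
    exact ⟨⟨x, le_left hφ x.2⟩, x.2, rfl⟩
  exact ⟨restrictHom χ hle, restrict_mem hχ hle, fun x hx => hv x _ (hle hx)⟩

/-- The maps of `F` whose restriction to the preimage of `T` is an element of `Aut_F(T)` composed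
with a map of `E` form a fusion system over `S`. -/
theorem exists_decomp_system (hT : F.StronglyClosed T)
    (hinv : AutInvariant E F) :
    ∃ D : FusionSystem S, ∀ (P : Subgroup Ω) (φ : P →* Ω), φ ∈ D.Hom P ↔
      (φ ∈ F.Hom P ∧ ∃ α ∈ F.autGroup T, ∃ φ₀ ∈ E.Hom (P ⊓ T),
        ∀ (x : ↥(P ⊓ T)) (hx : φ₀ x ∈ T), φ ⟨x, x.2.1⟩ = ((α ⟨φ₀ x, hx⟩ : T) : Ω)) := by
  refine ⟨{
    Hom := fun P => {φ | φ ∈ F.Hom P ∧ ∃ α ∈ F.autGroup T, ∃ φ₀ ∈ E.Hom (P ⊓ T),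
      ∀ (x : ↥(P ⊓ T)) (hx : φ₀ x ∈ T), φ ⟨x, x.2.1⟩ = ((α ⟨φ₀ x, hx⟩ : T) : Ω)}
    le_of_mem := fun h => F.le_of_mem h.1
    injective_of_mem := fun h => F.injective_of_mem h.1
    conj_mem := ?_
    comp_mem := ?_
    inv_mem := ?_ }, fun P φ => Iff.rfl⟩
  · intro P s hP hs
    have hn := mem_normalizer_stronglyClosed hT hs
    refine ⟨F.conj_mem hP hs, T.normalizerMonoidHom ⟨s, hn⟩,
      (mem_autGroup_iff hT.1).2 (conj_mem' hT.1 hs fun x => rfl),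
      (P ⊓ T).subtype, subtype_mem inf_le_right, fun x hx => rfl⟩
  · rintro P Q φ ψ ⟨hφ, α, hα, φ₀, hφ₀, hφv⟩ ⟨hψ, β, hβ, ψ₀, hψ₀, hψv⟩ h
    have hmem : ∀ x : ↥(P ⊓ T), φ ⟨x, x.2.1⟩ ∈ Q ⊓ T := fun x =>
      ⟨h _, apply_mem_stronglyClosed hT hφ (x := ⟨x, x.2.1⟩) x.2.2⟩
    obtain ⟨χ, hχ, hχv⟩ := exists_conj_hom hinv hψ₀ (inv_mem hα)
      (R := φ₀.range) fun _ ⟨x, hx⟩ => ⟨⟨_, hmem x⟩, by
        rw [← hx]
        have e : (⟨φ ⟨x, x.2.1⟩, (hmem x).2⟩ : T) = α ⟨φ₀ x, apply_mem hφ₀ x⟩ :=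
          Subtype.ext (hφv x _)
        show ((α⁻¹ ⟨φ ⟨x, x.2.1⟩, _⟩ : T) : Ω) = φ₀ x
        rw [e, MulAut.inv_apply_self]⟩
    refine ⟨F.comp_mem hφ hψ h, β * α, mul_mem hβ hα,
      χ.comp (φ₀.codRestrict _ fun x => ⟨x, rfl⟩), E.comp_mem hφ₀ hχ _, fun x hx => ?_⟩
    have e : (⟨φ ⟨x, x.2.1⟩, (hmem x).2⟩ : T) = α ⟨φ₀ x, apply_mem hφ₀ x⟩ :=
      Subtype.ext (hφv x _)
    have e' : ((α⁻¹ ⟨φ ⟨x, x.2.1⟩, (hmem x).2⟩ : T) : Ω) = φ₀ x := by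
      rw [e, MulAut.inv_apply_self]
    have h1 := hχv ⟨_, hmem x⟩ (e' ▸ ⟨x, rfl⟩)
    have h2 : (⟨(χ.comp (φ₀.codRestrict _ fun x => ⟨x, rfl⟩)) x, hx⟩ : T) =
        α⁻¹ ⟨ψ₀ ⟨_, hmem x⟩, apply_mem hψ₀ _⟩ := by
      refine Subtype.ext (Eq.trans ?_ h1)
      exact congrArg χ (Subtype.ext e'.symm)
    rw [h2, MulAut.mul_apply, MulAut.apply_inv_self]
    exact hψv ⟨_, hmem x⟩ _
  · rintro P φ ⟨hφ, α, hα, φ₀, hφ₀, hφv⟩
    obtain ⟨ψ, hψ, hψv⟩ := F.inv_mem hφ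
    obtain ⟨θ, hθ, hθv⟩ := E.inv_mem hφ₀
    have hpre : ∀ y ∈ φ.range ⊓ T, ∃ x : ↥(P ⊓ T), φ ⟨x, x.2.1⟩ = y := by
      rintro _ ⟨⟨x, rfl⟩, hy⟩
      exact ⟨⟨x, x.2, (mem_stronglyClosed_iff hT hφ).1 hy⟩, rfl⟩
    obtain ⟨χ, hχ, hχv⟩ := exists_conj_hom hinv hθ hα (R := φ.range ⊓ T) fun y hy => by
      obtain ⟨x, rfl⟩ := hpre y hy
      exact ⟨⟨φ₀ x, x, rfl⟩, (hφv x (apply_mem hφ₀ x)).symm⟩
    refine ⟨ψ, ⟨hψ, α⁻¹, inv_mem hα, χ, hχ, fun y hy => ?_⟩, hψv⟩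
    obtain ⟨x, hx⟩ := hpre y y.2
    have hα' : ((α ⟨φ₀ x, apply_mem hφ₀ x⟩ : T) : Ω) = y := (hφv x _).symm.trans hx
    have h1 := hχv ⟨φ₀ x, x, rfl⟩ (hα'.symm ▸ y.2)
    have h2 : (⟨χ y, hy⟩ : T) = α ⟨θ ⟨φ₀ x, x, rfl⟩, apply_mem hθ _⟩ := by
      refine Subtype.ext (Eq.trans ?_ h1)
      exact congrArg χ (Subtype.ext hα'.symm)
    rw [h2, MulAut.inv_apply_self]
    show ψ ⟨y, y.2.1⟩ = θ ⟨φ₀ x, x, rfl⟩
    rw [hθv x, show (⟨(y : Ω), y.2.1⟩ : φ.range) = ⟨φ ⟨x, x.2.1⟩, _, rfl⟩ from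
      Subtype.ext hx.symm]
    exact hψv ⟨x, x.2.1⟩

theorem invariant_of_strongInvariant [Finite S] [Fact p.Prime] (hS : IsPGroup p S)
    (hF : F.IsSaturated p) (hE : E.IsSubsystemOf F) (hT : F.StronglyClosed T)
    (hsi : StronglyInvariant E F) : E.IsInvariantIn F := by
  refine ⟨hE, hT, fun P hPT φ hφ α hα => ?_, ?_⟩
  · obtain ⟨χ, hχ, hv⟩ := hsi P T hPT le_rfl φ hφ (apply_mem hφ)
      (T.subtype.comp α.toMonoidHom) ((mem_autGroup_iff hT.1).1 hα)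
    exact ⟨χ, hχ, fun x hφx hαx => hv x hαx⟩
  obtain ⟨D, hD⟩ := exists_decomp_system hT (autInvariant_of_strongInvariant hT hsi)
  have hFD : F.IsSubsystemOf D := by
    refine isSubsystemOf_of_aut hS hF fun P hP habove α hα => ?_
    have hPS := hP.1
    have := finite_of_le hPS
    have hiso : IsIso F α := (mem_autGroup_iff hPS).1 hα
    by_cases hTP : T ≤ P
    · have hr : (restrictHom (P.subtype.comp α.toMonoidHom) hTP).range = T := by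
        ext y
        constructor
        · rintro ⟨x, rfl⟩
          exact (aut_mem_stronglyClosed_iff hT hPS hα).2 x.2
        · intro hy
          refine ⟨⟨(α.symm ⟨y, hTP hy⟩ : P), ?_⟩, ?_⟩
          · refine (aut_mem_stronglyClosed_iff hT hPS hα).1 ?_
            rw [MulEquiv.apply_symm_apply]
            exact hy
          · simp
      obtain ⟨β, hβ, hβv⟩ := exists_iso (restrict_mem hiso hTP) hr
      exact (hD P _).2 ⟨hiso, β, hβ.mem_autGroup, (P ⊓ T).subtype, subtype_mem inf_le_right,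
        fun x hx => (hβv ⟨x, hx⟩).symm⟩
    obtain ⟨hPa, hPr⟩ := automized_receptive hS hF hP
    have hlt : P < T ⊔ P := lt_of_le_of_ne le_sup_right fun h => hTP (h ▸ le_sup_left)
    have hMS : T ⊔ P ≤ S := sup_le hT.1 hPS
    have := finite_of_le hMS
    obtain ⟨m, hm, hmP⟩ := SetLike.exists_of_lt
      (lt_normalizerIn (p := p) (hS.to_le hMS) hlt)
    obtain ⟨c, hc, x, hx, hcx⟩ : ∃ c ∈ T, ∃ x ∈ P, c * x = m := by
      have hmem : m ∈ ((T ⊔ P : Subgroup Ω) : Set Ω) := hm.1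
      rw [Subgroup.coe_mul_of_right_le_normalizer_left _ _
        (fun y hy => mem_normalizer_stronglyClosed hT (hPS hy))] at hmem
      exact hmem
    have hcN : c ∈ normalizerIn S P := by
      refine ⟨hT.1 hc, ?_⟩
      have e : c = m * x⁻¹ := by rw [← hcx]; group
      rw [e]
      exact mul_mem hm.2 (Subgroup.inv_mem _ (Subgroup.le_normalizer hx))
    have hcP : c ∉ P := fun h => hmP (hcx ▸ P.mul_mem h hx)
    have hstab : ∀ a : F.autGroup P, ∀ y : ↥(P ⊓ T),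
        (((a : MulAut P) ⟨y, y.2.1⟩ : P) : Ω) ∈ P ⊓ T := fun a y =>
      ⟨Subtype.mem _, (aut_mem_stronglyClosed_iff hT hPS a.2).2 y.2.2⟩
    let K : Subgroup (F.autGroup P) :=
      { carrier := {k | ∃ φ₀ ∈ E.Hom (P ⊓ T), ∀ y : ↥(P ⊓ T),
          φ₀ y = (((k : MulAut P) ⟨y, y.2.1⟩ : P) : Ω)}
        one_mem' := ⟨_, subtype_mem inf_le_right, fun y => rfl⟩
        mul_mem' := fun {a b} ⟨f, hf, hfv⟩ ⟨g, hg, hgv⟩ =>
          ⟨_, E.comp_mem hg hf (fun y => hgv y ▸ hstab b y), fun y => by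
            show f ⟨g y, _⟩ = _
            rw [hfv]
            exact congrArg (fun z : P => (((a : MulAut P) z : P) : Ω)) (Subtype.ext (hgv y))⟩
        inv_mem' := fun {a} ⟨f, hf, hfv⟩ => by
          obtain ⟨θ, hθ, hθv⟩ := E.inv_mem hf
          have hle : P ⊓ T ≤ f.range := fun y hy =>
            ⟨⟨_, hstab a⁻¹ ⟨y, hy⟩⟩, by
              rw [hfv]
              show ((a : MulAut P) ((a : MulAut P)⁻¹ ⟨y, hy.1⟩) : Ω) = y
              rw [MulAut.apply_inv_self]⟩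
          refine ⟨restrictHom θ hle, restrict_mem hθ hle, fun y => ?_⟩
          have e : f ⟨_, hstab a⁻¹ y⟩ = y := by
            rw [hfv]
            show ((a : MulAut P) ((a : MulAut P)⁻¹ ⟨y, y.2.1⟩) : Ω) = y
            rw [MulAut.apply_inv_self]
          have h := hθv ⟨_, hstab a⁻¹ y⟩
          rw [restrictHom_apply]
          exact (congrArg θ (Subtype.ext e.symm)).trans h }
    have hKn : K.Normal := ⟨fun k ⟨f, hf, hfv⟩ a => by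
      obtain ⟨χ, hχ, hχv⟩ := hsi (P ⊓ T) (P ⊓ T) le_rfl inf_le_right f hf
        (fun y => hfv y ▸ hstab k y)
        (restrictHom (P.subtype.comp ((a : MulAut P) : P ≃* P).toMonoidHom) inf_le_left)
        (restrict_mem ((mem_autGroup_iff hPS).1 a.2) inf_le_left)
      have hle : P ⊓ T ≤ ((P ⊓ T).subgroupOf (P ⊓ T)).map
          (restrictHom (P.subtype.comp ((a : MulAut P) : P ≃* P).toMonoidHom) inf_le_left) :=
        fun y hy => ⟨⟨_, hstab a⁻¹ ⟨y, hy⟩⟩, Subtype.mem (⟨_, hstab a⁻¹ ⟨y, hy⟩⟩ : ↥(P ⊓ T)), by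
          show ((a : MulAut P) ((a : MulAut P)⁻¹ ⟨y, hy.1⟩) : Ω) = y
          rw [MulAut.apply_inv_self]⟩
      refine ⟨restrictHom χ hle, restrict_mem hχ hle, fun y => ?_⟩
      have e : ((a : MulAut P) ((a : MulAut P)⁻¹ ⟨y, y.2.1⟩) : Ω) = y := by
        rw [MulAut.apply_inv_self]
      have hm2 : ((a : MulAut P) ((a : MulAut P)⁻¹ ⟨y, y.2.1⟩) : Ω) ∈
          ((P ⊓ T).subgroupOf (P ⊓ T)).map (restrictHom
            (P.subtype.comp ((a : MulAut P) : P ≃* P).toMonoidHom) inf_le_left) :=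
        Eq.mpr (congrArg (· ∈ _) e) (hle y.2)
      have h := hχv ⟨(((a : MulAut P)⁻¹ ⟨y, y.2.1⟩ : P) : Ω), hstab a⁻¹ y⟩ hm2
      rw [restrictHom_apply]
      refine Eq.trans (congrArg χ (Subtype.ext e.symm)) (h.trans ?_)
      show ((a : MulAut P) ⟨f _, _⟩ : Ω) = _
      exact congrArg (fun z : P => (((a : MulAut P) z : P) : Ω)) (Subtype.ext (hfv _))⟩
    have hKD : ∀ k ∈ K, IsIso D ((k : F.autGroup P) : MulAut P) := fun k ⟨f, hf, hfv⟩ =>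
      (hD P _).2 ⟨(mem_autGroup_iff hPS).1 k.2, 1, one_mem _, f, hf, fun y _ => (hfv y).symm⟩
    let cm : MulAut P := P.normalizerMonoidHom ⟨c, hcN.2⟩
    have hcm : cm ∈ F.autGroup P :=
      autInducedBy_le_autGroup hPS (mem_autInducedBy_iff.2 ⟨c, hcN.1, hcN.2, fun y => rfl⟩)
    refine aut_mem_of_normal hS hPa hPr habove K hKn hKD hcN hcP (c := ⟨cm, hcm⟩) ?_
      (fun y => rfl) α hα
    exact ⟨_, E.conj_mem inf_le_right hc, fun y => rfl⟩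
  intro P hP φ hφ
  obtain ⟨-, α, hα, φ₀, hφ₀, hv⟩ := (hD P φ).1 (hFD P hφ)
  have hle : P ≤ P ⊓ T := le_inf le_rfl hP
  exact ⟨α, hα, restrictHom φ₀ hle, restrict_mem hφ₀ hle, fun x hx => hv ⟨x, hle x.2⟩ hx⟩

end CfsgLib.Fusion
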