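import Cfsg.Agent.FusionPIndex.Basic
import Cfsg.Agent.Fusion.Hyperfocal
import Cfsg.Agent.Fusion.Systems
import Cfsg.Agent.Fusion.Invariant
import Mathlib.GroupTheory.OrderOfElement

/-!
# Subsystems of `p`-power index over a normal subgroup are normal
-/

set_option autoImplicit false
set_option linter.style.haveILetI false

namespace CfsgLib.PPowerIndexNormal

open Cfsg Cfsg.FusionSystem CfsgLib.Fusion CfsgLib.FusionClosed CfsgLib.FusionPIndex

variable {Ω : Type*} [Group Ω] {S T : Subgroup Ω} {F : FusionSystem S} {E : FusionSystem T}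
  {p : ℕ}

/-- A subgroup normalised by `S` and containing `hyp(F)` is strongly closed. -/
theorem stronglyClosed_of_hyperfocal_le [Finite S] [Fact p.Prime] (hS : IsPGroup p S)
    (hF : F.IsSaturated p) (hTS : T ≤ S) (hn : ∀ s ∈ S, ∀ t ∈ T, s * t * s⁻¹ ∈ T)
    (hhyp : F.hyperfocalSubgroup p ≤ T) : F.StronglyClosed T := by
  refine ⟨hTS, fun R hR φ hφ x => ?_⟩
  let D : FusionSystem S :=
    { Hom := fun P => {φ | φ ∈ F.Hom P ∧ ∀ x : P, φ x ∈ T ↔ (x : Ω) ∈ T}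
      le_of_mem := fun h => F.le_of_mem h.1
      injective_of_mem := fun h => F.injective_of_mem h.1
      conj_mem := fun {P s} hP hs => ⟨F.conj_mem hP hs, fun x => by
        show s * (x : Ω) * s⁻¹ ∈ T ↔ _
        refine ⟨fun h => ?_, hn s hs x⟩
        have := hn s⁻¹ (S.inv_mem hs) _ h
        simpa [mul_assoc] using this⟩
      comp_mem := fun {P Q φ ψ} hφ hψ h =>
        ⟨F.comp_mem hφ.1 hψ.1 h, fun x => (hψ.2 _).trans (hφ.2 x)⟩
      inv_mem := fun {P φ} hφ => by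
        obtain ⟨ψ, hψ, hv⟩ := F.inv_mem hφ.1
        refine ⟨ψ, ⟨hψ, ?_⟩, hv⟩
        rintro ⟨_, x, rfl⟩
        rw [show ψ ⟨φ x, x, rfl⟩ = x from hv x]
        exact (hφ.2 x).symm }
  refine ((mem_le_of_pResidual hS hF (D := D) (fun Q hQ α hα =>
    ⟨(mem_autGroup_iff hQ).1 (Subgroup.map_subtype_le _ hα), fun y => ?_⟩) hφ).2 x).2 (hR x.2)
  have h : (y : Ω)⁻¹ * (α y : Ω) ∈ T := hhyp (inv_mul_apply_mem_hyperfocal hQ hα y)
  show (α y : Ω) ∈ T ↔ _
  constructor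
  · intro h'
    have := T.mul_mem h' (T.inv_mem h)
    simpa using this
  · intro h'
    have := T.mul_mem h' h
    simpa using this

/-- The image of a subgroup under an automorphism of `T`. -/
abbrev img (α : MulAut T) (P : Subgroup Ω) : Subgroup Ω :=
  (P.subgroupOf T).map (T.subtype.comp α.toMonoidHom)

theorem mem_img {α : MulAut T} {P : Subgroup Ω} {y : Ω} :
    y ∈ img α P ↔ ∃ x : T, (x : Ω) ∈ P ∧ (α x : Ω) = y := Iff.rfl

/-- The system transported by an automorphism of `T`. -/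
def transport (E : FusionSystem T) (α : MulAut T) : FusionSystem T where
  Hom P := {φ | ∃ hP : P ≤ T, ∃ hv : ∀ x : P, φ x ∈ T, ∃ χ ∈ E.Hom (img α P),
    ∀ (x : P) (h : (α ⟨x, hP x.2⟩ : Ω) ∈ img α P), χ ⟨_, h⟩ = (α ⟨φ x, hv x⟩ : Ω)}
  le_of_mem := fun ⟨hP, hv, _⟩ => ⟨hP, hv⟩
  injective_of_mem := by
    rintro P φ ⟨hP, hv, χ, hχ, hχv⟩ a b hab
    have h1 : ∀ x : P, (α ⟨x, hP x.2⟩ : Ω) ∈ img α P := fun x => ⟨⟨x, hP x.2⟩, x.2, rfl⟩
    have h2 : χ ⟨_, h1 a⟩ = χ ⟨_, h1 b⟩ := by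
      rw [hχv, hχv]
      exact congrArg (fun w : T => (α w : Ω)) (Subtype.ext hab)
    have h3 : (⟨a, hP a.2⟩ : T) = ⟨b, hP b.2⟩ := α.injective (Subtype.ext (congrArg Subtype.val (E.injective_of_mem hχ h2) :))
    exact Subtype.ext (congrArg Subtype.val h3 :)
  conj_mem := by
    intro P g hP hg
    refine ⟨hP, fun x => T.mul_mem (T.mul_mem hg (hP x.2)) (T.inv_mem hg),
      conjHom (img α P) (α ⟨g, hg⟩ : Ω), E.conj_mem ?_ (α ⟨g, hg⟩).2, fun x h => ?_⟩
    · rintro _ ⟨x, -, rfl⟩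
      exact (α x).2
    · show (α ⟨g, hg⟩ : Ω) * (α ⟨x, hP x.2⟩ : Ω) * (α ⟨g, hg⟩ : Ω)⁻¹ = _
      rw [← Subgroup.coe_mul, ← Subgroup.coe_inv, ← Subgroup.coe_mul, ← map_mul, ← map_inv,
        ← map_mul]
      rfl
  comp_mem := by
    rintro P Q φ ψ ⟨hP, hv, χ, hχ, hχv⟩ ⟨hQ, hw, ω, hω, hωv⟩ h
    have him : ∀ z : img α P, χ z ∈ img α Q := by
      rintro ⟨_, x, hx, rfl⟩
      exact ⟨⟨φ ⟨x, hx⟩, hv _⟩, h _, (hχv ⟨x, hx⟩ _).symm⟩
    refine ⟨hP, fun x => hw _, _, E.comp_mem hχ hω him, fun x hx => ?_⟩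
    show ω ⟨χ ⟨_, hx⟩, _⟩ = (α ⟨ψ ⟨φ x, h x⟩, hw _⟩ : Ω)
    rw [← hωv ⟨φ x, h x⟩ ⟨⟨φ x, hv x⟩, h x, rfl⟩]
    exact congrArg ω (Subtype.ext (hχv x hx))
  inv_mem := by
    rintro P φ ⟨hP, hv, χ, hχ, hχv⟩
    have h1 : ∀ x : P, (α ⟨x, hP x.2⟩ : Ω) ∈ img α P := fun x => ⟨⟨x, hP x.2⟩, x.2, rfl⟩
    have hinj : Function.Injective φ := fun a b hab => by
      have h2 : χ ⟨_, h1 a⟩ = χ ⟨_, h1 b⟩ := by
        rw [hχv, hχv]
        exact congrArg (fun w : T => (α w : Ω)) (Subtype.ext hab)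
      have h3 : (⟨a, hP a.2⟩ : T) = ⟨b, hP b.2⟩ := α.injective (Subtype.ext (congrArg Subtype.val (E.injective_of_mem hχ h2) :))
      exact Subtype.ext (congrArg Subtype.val h3 :)
    obtain ⟨θ, hθ, hθv⟩ := E.inv_mem hχ
    have hle : img α φ.range ≤ χ.range := by
      rintro _ ⟨z, ⟨x, hx⟩, rfl⟩
      exact ⟨⟨_, h1 x⟩, (hχv x _).trans (congrArg (fun w : T => (α w : Ω)) (Subtype.ext hx))⟩
    let e := MonoidHom.ofInjective hinj
    have hback : ∀ x : P, ((P.subtype.comp e.symm.toMonoidHom) ⟨φ x, x, rfl⟩) = x := fun x =>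
      congrArg Subtype.val ((MulEquiv.symm_apply_eq e).2 (Subtype.ext rfl))
    refine ⟨P.subtype.comp e.symm.toMonoidHom, ⟨?_, fun y => hP (e.symm y).2,
      restrictHom θ hle, restrict_mem hθ hle, ?_⟩, hback⟩
    · rintro _ ⟨x, rfl⟩
      exact hv x
    · rintro ⟨_, x, rfl⟩ h
      have h4 := hθv ⟨_, h1 x⟩
      have h5 : ∀ hr, θ ⟨(α ⟨φ x, hv x⟩ : Ω), hr⟩ = (α ⟨x, hP x.2⟩ : Ω) := fun hr =>
        (congrArg θ (Subtype.ext (hχv x (h1 x)).symm)).trans h4
      refine (h5 _).trans (congrArg (fun w : T => (α w : Ω)) (Subtype.ext ?_))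
      exact (hback x).symm

/-- A saturated subsystem of `p`-power index is invariant under `Aut_F(T)`. -/
theorem autInvariant_of_pPowerIndex [Finite S] [Fact p.Prime] (hS : IsPGroup p S) (hTS : T ≤ S)
    (hE : E.IsSaturated p) (hi : E.HasPPowerIndexIn F p) : AutInvariant E F := by
  intro P hPT φ hφ α hα
  haveI := finite_of_le hTS
  have hsub : E.IsSubsystemOf (transport E α) := by
    refine isSubsystemOf_of_pResidual (hS.to_le hTS) hE le_rfl fun Q hQ => ?_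
    rintro β hβ
    obtain ⟨γ, hγ, rfl⟩ := pResidual_autGroup_mono hi.1 hQ hβ
    obtain ⟨e, he, hev⟩ : ∃ e : Q ≃* img α Q, IsIso F e ∧
        ∀ x : Q, (e x : Ω) = (α ⟨x, hQ x.2⟩ : Ω) :=
      exists_iso_restrict ((mem_autGroup_iff hTS).1 hα) hQ
    let f : F.autGroup Q →* F.autGroup (img α Q) :=
      { toFun := fun β => ⟨MulAut.congr e β, congr_mem_autGroup he β.2⟩
        map_one' := Subtype.ext (map_one _)
        map_mul' := fun a b => Subtype.ext (map_mul _ _ _) }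
    have himgT : img α Q ≤ T := by
      rintro _ ⟨z, -, rfl⟩
      exact (α z).2
    have hmem : MulAut.congr e (γ : MulAut Q) ∈ E.autGroup (img α Q) := hi.2.2 _ himgT
      ⟨f γ, CfsgLib.Transfer.map_pResidual_le f ⟨γ, hγ, rfl⟩, rfl⟩
    refine IsIso.mem_autGroup ⟨hQ, fun x => hQ ((γ : MulAut Q) x).2,
      (img α Q).subtype.comp (MulAut.congr e (γ : MulAut Q)).toMonoidHom,
      (mem_autGroup_iff himgT).1 hmem, fun x h => ?_⟩
    show ((MulAut.congr e (γ : MulAut Q)) ⟨_, h⟩ : Ω) = _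
    rw [show (⟨(α ⟨x, hQ x.2⟩ : Ω), h⟩ : img α Q) = e x from Subtype.ext (hev x).symm, congr_apply,
      hev]
    rfl
  obtain ⟨_, hv, χ, hχ, hχv⟩ := hsub P hφ
  exact ⟨χ, hχ, fun x hφx hαx => hχv x hαx⟩

/-- The powers of agreeing automorphisms agree. -/
theorem pow_agree {P Q : Subgroup Ω} (hPQ : P ≤ Q) {a : MulAut P} {b : MulAut Q}
    (h : ∀ x : P, (b (Subgroup.inclusion hPQ x) : Ω) = (a x : Ω)) (n : ℕ) :
    ∀ x : P, ((b ^ n) (Subgroup.inclusion hPQ x) : Ω) = ((a ^ n) x : Ω) := by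
  induction n with
  | zero => exact fun x => rfl
  | succ n ih =>
    intro x
    rw [pow_succ, pow_succ, MulAut.mul_apply, MulAut.mul_apply,
      show b (Subgroup.inclusion hPQ x) = Subgroup.inclusion hPQ (a x) from Subtype.ext (h x)]
    exact ih (a x)

/-- Frattini: every map of `F` below `T` is an element of `Aut_F(T)` composed with a map of `E`. -/
theorem frattini_of_pPowerIndex [Finite S] [Fact p.Prime] (hS : IsPGroup p S)
    (hF : F.IsSaturated p) (hT : F.StronglyClosed T) (hi : E.HasPPowerIndexIn F p)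
    (hinv : AutInvariant E F) {P : Subgroup Ω} (hP : P ≤ T) {φ : P →* Ω} (hφ : φ ∈ F.Hom P) :
    ∃ α ∈ F.autGroup T, ∃ φ₀ ∈ E.Hom P,
      ∀ (x : P) (hx : φ₀ x ∈ T), φ x = ((α ⟨φ₀ x, hx⟩ : T) : Ω) := by
  obtain ⟨D, hD⟩ := exists_decomp_system hT hinv
  have hFD : F.IsSubsystemOf D := by
    refine isSubsystemOf_of_pResidual hS hF le_rfl fun Q hQ => ?_
    haveI := finite_of_le hQ
    rw [CfsgLib.Transfer.map_subtype_pResidual, Subgroup.closure_le]
    rintro a ⟨ha, hcop⟩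
    have hiso : IsIso F a := (mem_autGroup_iff hQ).1 ha
    let R : Subgroup Ω := Q ⊓ T
    have hRQ : R ≤ Q := inf_le_left
    have hr : (restrictHom (Q.subtype.comp a.toMonoidHom) hRQ).range = R := by
      ext y
      constructor
      · rintro ⟨x, rfl⟩
        exact ⟨(a _).2, (aut_mem_stronglyClosed_iff hT hQ ha).2 x.2.2⟩
      · intro hy
        refine ⟨⟨(a.symm ⟨y, hy.1⟩ : Q), Subtype.mem _,
          (aut_mem_stronglyClosed_iff hT hQ ha).1 ?_⟩, ?_⟩
        · rw [MulEquiv.apply_symm_apply]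
          exact hy.2
        · show (a (a.symm ⟨y, hy.1⟩) : Ω) = y
          rw [MulEquiv.apply_symm_apply]
    obtain ⟨b, hb, hbv⟩ := exists_iso (restrict_mem hiso hRQ) hr
    have hord : (orderOf (b : MulAut R)).Coprime p := by
      refine Nat.Coprime.coprime_dvd_left (orderOf_dvd_of_pow_eq_one (MulEquiv.ext fun x =>
        Subtype.ext ?_)) hcop
      rw [← pow_agree hRQ (a := (b : MulAut R)) (b := a) (fun x => (hbv x).symm) (orderOf a) x,
        pow_orderOf_eq_one]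
      rfl
    have hbE : (b : MulAut R) ∈ E.autGroup R := hi.2.2 R inf_le_right (by
      rw [CfsgLib.Transfer.map_subtype_pResidual]
      exact Subgroup.subset_closure ⟨hb.mem_autGroup, hord⟩)
    exact IsIso.mem_autGroup ((hD Q _).2 ⟨hiso, 1, one_mem _, _,
      (mem_autGroup_iff inf_le_right).1 hbE, fun x hx => (hbv x).symm⟩)
  obtain ⟨-, α, hα, φ₀, hφ₀, hv⟩ := (hD P φ).1 (hFD P hφ)
  have hle : P ≤ P ⊓ T := le_inf le_rfl hP
  exact ⟨α, hα, restrictHom φ₀ hle, restrict_mem hφ₀ hle, fun x hx => hv ⟨x, hle x.2⟩ hx⟩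

/-- A saturated subsystem of `p`-power index over a normal subgroup is normal. -/
theorem isNormalIn_of_pPowerIndex [Finite S] [Fact p.Prime] (hS : IsPGroup p S)
    (hF : F.IsSaturated p) (hTS : T ≤ S) (hn : ∀ s ∈ S, ∀ t ∈ T, s * t * s⁻¹ ∈ T)
    (hE : E.IsSaturated p) (hi : E.HasPPowerIndexIn F p) : E.IsNormalIn F p := by
  have hT : F.StronglyClosed T := stronglyClosed_of_hyperfocal_le hS hF hTS hn hi.2.1
  have hinv := autInvariant_of_pPowerIndex hS hTS hE hi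
  refine ⟨⟨hE, hF, hi.1, hT, hinv, fun P hP φ hφ => frattini_of_pPowerIndex hS hF hT hi hinv hP hφ⟩,
    ?_⟩
  haveI := finite_of_le hTS
  let C : Subgroup Ω := centralizerIn S T
  have hWS : T ⊔ C ≤ S := sup_le hTS inf_le_left
  haveI := finite_of_le hWS
  let Good : Set (MulAut T) := {α | ∃ β ∈ F.autGroup (T ⊔ C),
    (∀ x : T, ((β (Subgroup.inclusion le_sup_left x) : ↥(T ⊔ C)) : Ω) = ((α x : T) : Ω)) ∧
    ∀ c : ↥(T ⊔ C), (c : Ω) ∈ C →
      (c : Ω)⁻¹ * ((β c : ↥(T ⊔ C)) : Ω) ∈ T ⊓ Subgroup.centralizer (T : Set Ω)}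
  have hone : (1 : MulAut T) ∈ Good := ⟨1, one_mem _, fun x => rfl, fun c _ => by
    show (c : Ω)⁻¹ * (c : Ω) ∈ _
    rw [inv_mul_cancel]
    exact one_mem _⟩
  have hmul : ∀ a b, a ∈ Good → b ∈ Good → a * b ∈ Good := by
    rintro a b ⟨β, hβ, hβ1, hβ2⟩ ⟨γ, hγ, hγ1, hγ2⟩
    refine ⟨β * γ, mul_mem hβ hγ, fun x => ?_, fun c hc => ?_⟩
    · show (β (γ _) : Ω) = (a (b x) : Ω)
      rw [← hβ1, show γ (Subgroup.inclusion le_sup_left x) = Subgroup.inclusion le_sup_left (b x)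
        from Subtype.ext (hγ1 x)]
    · have hz := hγ2 c hc
      let z : ↥(T ⊔ C) := c⁻¹ * γ c
      have hzT : (z : Ω) ∈ T := hz.1
      have hzC : (z : Ω) ∈ C := ⟨hTS hzT, hz.2⟩
      show (c : Ω)⁻¹ * (β (γ c) : Ω) ∈ _
      rw [show γ c = c * z from (mul_inv_cancel_left c _).symm, map_mul, Subgroup.coe_mul,
        ← mul_assoc]
      refine mul_mem (hβ2 c hc) ?_
      refine ⟨?_, ?_⟩
      · rw [show z = Subgroup.inclusion (le_sup_left : T ≤ T ⊔ C) ⟨(z : Ω), hzT⟩ from Subtype.ext rfl,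
          hβ1]
        exact Subtype.mem _
      · have h := hβ2 z hzC
        have e : (β z : Ω) = (z : Ω) * ((z : Ω)⁻¹ * (β z : Ω)) := (mul_inv_cancel_left _ _).symm
        rw [e]
        exact mul_mem hzC.2 h.2
  have hpow : ∀ a ∈ Good, ∀ n : ℕ, a ^ n ∈ Good := by
    intro a ha n
    induction n with
    | zero => rw [pow_zero]; exact hone
    | succ n ih => rw [pow_succ]; exact hmul _ _ ih ha
  let G : Subgroup (MulAut T) :=
    { carrier := Good
      one_mem' := hone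
      mul_mem' := fun ha hb => hmul _ _ ha hb
      inv_mem' := fun {a} ha => by
        have e : a⁻¹ = a ^ (orderOf a - 1) := inv_eq_of_mul_eq_one_right (by
          rw [← pow_succ', Nat.sub_add_cancel (orderOf_pos a), pow_orderOf_eq_one])
        rw [e]
        exact hpow a ha _ }
  suffices h : E.autGroup T ≤ G from fun α hα => h hα
  have hTn : F.IsFullyNormalized T := by
    refine ⟨hTS, fun Q hQ => ?_⟩
    obtain ⟨φ, hφ, rfl⟩ := id hQ
    have : φ.range = T := by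
      refine Subgroup.eq_of_le_of_card_ge ?_ (card_eq_of_isConj hQ).le
      rintro _ ⟨x, rfl⟩
      exact apply_mem_stronglyClosed hT hφ x.2
    rw [this]
  have hTr := (automized_receptive hS hF hTn).2
  obtain ⟨R, hR⟩ := (automized_receptive (hS.to_le hTS) hE (isFullyNormalized_self (F := E))).1.2
  have htop := congrArg (Subgroup.map (E.autGroup T).subtype)
    (CfsgLib.Transfer.sylow_sup_pResidual R)
  rw [Subgroup.map_sup, ← MonoidHom.range_eq_map, Subgroup.range_subtype, hR,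
    Subgroup.subgroupOf_map_subtype] at htop
  refine htop.ge.trans (sup_le ?_ ?_)
  · rintro α ⟨hα, -⟩
    obtain ⟨g, hg, -, hgα⟩ := mem_autInducedBy_iff.1 hα
    have hgW : g ∈ T ⊔ C := Subgroup.mem_sup_left hg
    refine ⟨MulAut.conj ⟨g, hgW⟩, autInducedBy_le_autGroup hWS (mem_autInducedBy_iff.2
      ⟨g, hTS hg, Subgroup.le_normalizer hgW, fun x => rfl⟩), fun x => (hgα x).symm,
      fun c hc => ?_⟩
    show (c : Ω)⁻¹ * (g * c * g⁻¹) ∈ _
    have e : (c : Ω) * g = g * c := (Subgroup.mem_centralizer_iff.1 hc.2 g hg).symm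
    rw [← e, mul_inv_cancel_right, inv_mul_cancel]
    exact one_mem _
  · refine (pResidual_autGroup_mono hi.1 le_rfl).trans ?_
    rw [CfsgLib.Transfer.map_subtype_pResidual, Subgroup.closure_le]
    rintro a ⟨ha, hcop⟩
    have hiso : IsIso F a := (mem_autGroup_iff hTS).1 ha
    obtain ⟨ψ, hψ, hψv⟩ := exists_extension (T := T ⊔ C) hTr hiso
      (sup_le (le_extender hTS (F.le_of_mem hiso).2) (centralizerIn_le_extender _))
    have himg := imgHom_eq_of_agree le_sup_left hψv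
    have hr : ψ.range = T ⊔ C := by
      refine Subgroup.eq_of_le_of_card_ge ?_ ?_
      · rw [← imgHom_self, imgHom_sup ψ le_sup_left le_sup_right, himg]
        refine sup_le_sup_left ?_ T
        rintro _ ⟨c, hc, rfl⟩
        have h1 := map_mem_centralizer (ψ := ψ) le_sup_left (g := c)
          (Subgroup.mem_inf.1 (hc : (c : Ω) ∈ C)).2
        rw [himg] at h1
        exact ⟨apply_mem hψ c, h1⟩
      · rw [← imgHom_self, card_imgHom (F.injective_of_mem hψ) le_rfl]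
    obtain ⟨β₀, hβ₀, hβ₀v⟩ := exists_iso hψ hr
    obtain ⟨k, m, hm, hord⟩ := Nat.exists_eq_pow_mul_and_not_dvd
      (orderOf_pos (β₀ : MulAut ↥(T ⊔ C))).ne' p (Fact.out : p.Prime).ne_one
    obtain ⟨n, hn⟩ := exists_pow_eq_self_of_coprime (n := p ^ k) (x := a) (hcop.symm.pow_left k)
    let β : MulAut ↥(T ⊔ C) := ((β₀ : MulAut ↥(T ⊔ C)) ^ p ^ k) ^ n
    have hagree : ∀ x : T, (β (Subgroup.inclusion le_sup_left x) : Ω) = (a x : Ω) := by
      intro x
      have h := pow_agree (le_sup_left : T ≤ T ⊔ C) (a := a) (b := (β₀ : MulAut ↥(T ⊔ C)))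
        (fun y => (hβ₀v _).trans (hψv y _)) (p ^ k * n) x
      rwa [pow_mul, pow_mul, hn] at h
    have hcopβ : (orderOf β).Coprime p := by
      refine Nat.Coprime.coprime_dvd_left (orderOf_dvd_of_pow_eq_one (n := m) ?_)
        ((Fact.out : p.Prime).coprime_iff_not_dvd.2 hm).symm
      show ((((β₀ : MulAut ↥(T ⊔ C)) ^ p ^ k) ^ n) ^ m) = 1
      rw [← pow_mul, ← pow_mul, show p ^ k * (n * m) = (p ^ k * m) * n by ring, ← hord, pow_mul,
        pow_orderOf_eq_one, one_pow]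
    have hβF : β ∈ F.autGroup (T ⊔ C) :=
      Subgroup.pow_mem _ (Subgroup.pow_mem _ hβ₀.mem_autGroup _) _
    refine ⟨β, hβF, hagree, fun c hc => ?_⟩
    have hhyp : (c : Ω)⁻¹ * (β c : Ω) ∈ T := hi.2.1 (inv_mul_apply_mem_hyperfocal hWS (by
      rw [CfsgLib.Transfer.map_subtype_pResidual]
      exact Subgroup.subset_closure ⟨hβF, hcopβ⟩) c)
    refine ⟨hhyp, (Subgroup.centralizer (T : Set Ω)).mul_mem
      ((Subgroup.centralizer (T : Set Ω)).inv_mem hc.2) ?_⟩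
    apply Subgroup.mem_centralizer_iff.2
    intro t ht
    obtain ⟨t', ht'⟩ := a.surjective ⟨t, ht⟩
    have et : (Subgroup.inclusion le_sup_left t' : ↥(T ⊔ C)) * c =
        c * Subgroup.inclusion le_sup_left t' :=
      Subtype.ext (Subgroup.mem_centralizer_iff.1 hc.2 t' t'.2)
    have h := congrArg (fun w : ↥(T ⊔ C) => (β w : Ω)) et
    simp only [map_mul, Subgroup.coe_mul] at h
    rwa [hagree, ht'] at h

end CfsgLib.PPowerIndexNormal
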