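import Cfsg.Agent.Fusion.Systems
import Cfsg.Agent.Fusion.Sylow

/-!
# Normalizer and centralizer systems of saturated systems are saturated

`N_F^K(Q)` is saturated when `Q` is receptive and `Aut_S(Q) ∩ K` is a Sylow `p`-subgroup of
`Aut_F(Q) ∩ K`.
-/

set_option autoImplicit false

namespace CfsgLib.Fusion

open Cfsg Cfsg.FusionSystem
open scoped Pointwise

variable {Ω : Type*} [Group Ω] {S : Subgroup Ω} {F : FusionSystem S}
variable {W P Q N : Subgroup Ω} {p : ℕ}

/-- The automorphisms of `W` preserving `P` and acting on `Q` as an element of `K`. -/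
def kStar (W P : Subgroup Ω) {Q : Subgroup Ω} (hQ : Q ≤ W) (K : Subgroup (MulAut Q)) :
    Subgroup (MulAut W) where
  carrier := {α | (∀ x : W, (α x : Ω) ∈ P ↔ (x : Ω) ∈ P) ∧
    ∃ k ∈ K, ∀ q : Q, (α (Subgroup.inclusion hQ q) : Ω) = k q}
  one_mem' := ⟨fun x => Iff.rfl, 1, K.one_mem, fun q => rfl⟩
  mul_mem' {a b} ha hb := by
    obtain ⟨ha1, k, hk, ha2⟩ := ha
    obtain ⟨hb1, l, hl, hb2⟩ := hb
    refine ⟨fun x => (ha1 (b x)).trans (hb1 x), k * l, K.mul_mem hk hl, fun q => ?_⟩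
    show (a (b (Subgroup.inclusion hQ q)) : Ω) = (k (l q) : Ω)
    rw [← ha2 (l q)]
    exact congrArg (fun w : W => (a w : Ω)) (Subtype.ext (hb2 q))
  inv_mem' {a} ha := by
    obtain ⟨ha1, k, hk, ha2⟩ := ha
    refine ⟨fun x => ?_, k⁻¹, K.inv_mem hk, fun q => ?_⟩
    · have h := ha1 (a.symm x)
      rw [MulEquiv.apply_symm_apply] at h
      exact h.symm
    · have h := ha2 (k⁻¹ q)
      rw [MulAut.apply_inv_self] at h
      exact congrArg Subtype.val ((MulEquiv.symm_apply_eq a).2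
        (Subtype.ext h.symm : Subgroup.inclusion hQ q = a (Subgroup.inclusion hQ (k⁻¹ q))))

theorem congr_mem_kStar {W' P' Q' : Subgroup Ω} {hQ : Q ≤ W} {hQ' : Q' ≤ W'}
    {K : Subgroup (MulAut Q)} {K' : Subgroup (MulAut Q')} {ε : W ≃* W'} {f : Q ≃* Q'}
    (hP : ∀ x : W, (ε x : Ω) ∈ P' ↔ (x : Ω) ∈ P)
    (hf : ∀ q : Q, (ε (Subgroup.inclusion hQ q) : Ω) = f q)
    (hK : ∀ k ∈ K, MulAut.congr f k ∈ K') {α : MulAut W} (hα : α ∈ kStar W P hQ K) :
    MulAut.congr ε α ∈ kStar W' P' hQ' K' := by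
  obtain ⟨h1, k, hk, h2⟩ := hα
  refine ⟨fun x => ?_, MulAut.congr f k, hK k hk, fun q => ?_⟩
  · obtain ⟨w, rfl⟩ := ε.surjective x
    rw [congr_apply, hP, hP]
    exact h1 w
  · obtain ⟨r, rfl⟩ := f.surjective q
    have e : Subgroup.inclusion hQ' (f r) = ε (Subgroup.inclusion hQ r) := Subtype.ext (hf r).symm
    rw [e, congr_apply, congr_apply, ← hf (k r)]
    exact congrArg (fun w : W => (ε w : Ω)) (Subtype.ext (h2 r))

/-- The restriction to `P` of an automorphism in `kStar`. -/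
def kStarAut (hPW : P ≤ W) (hQ : Q ≤ W) (K : Subgroup (MulAut Q)) (α : kStar W P hQ K) :
    MulAut P where
  toFun x := ⟨(α : MulAut W) ⟨x, hPW x.2⟩, (α.2.1 _).2 x.2⟩
  invFun x := ⟨(α : MulAut W).symm ⟨x, hPW x.2⟩, (((α⁻¹ : kStar W P hQ K)).2.1 _).2 x.2⟩
  left_inv x := Subtype.ext
    (congrArg Subtype.val ((α : MulAut W).symm_apply_apply ⟨x, hPW x.2⟩) :)
  right_inv x := Subtype.ext
    (congrArg Subtype.val ((α : MulAut W).apply_symm_apply ⟨x, hPW x.2⟩) :)
  map_mul' x y := Subtype.ext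
    (congrArg Subtype.val (map_mul (α : MulAut W) ⟨x, hPW x.2⟩ ⟨y, hPW y.2⟩) :)

/-- The restriction homomorphism to `P` on `kStar`. -/
def kStarRes (hPW : P ≤ W) (hQ : Q ≤ W) (K : Subgroup (MulAut Q)) :
    ↥(kStar W P hQ K) →* MulAut P where
  toFun := kStarAut hPW hQ K
  map_one' := MulEquiv.ext fun _ => rfl
  map_mul' _ _ := MulEquiv.ext fun _ => rfl

theorem kStarRes_apply (hPW : P ≤ W) (hQ : Q ≤ W) (K : Subgroup (MulAut Q))
    (α : kStar W P hQ K) (x : P) :
    (kStarRes hPW hQ K α x : Ω) = (α : MulAut W) ⟨x, hPW x.2⟩ := rfl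

theorem mem_kStar_of_conj {hQ : Q ≤ W} {K : Subgroup (MulAut Q)} {g : Ω}
    (hgP : g ∈ Subgroup.normalizer (P : Set Ω)) (hgK : g ∈ kNormalizer S Q K)
    {α : MulAut W} (hα : ∀ x : W, (α x : Ω) = g * x * g⁻¹) : α ∈ kStar W P hQ K := by
  obtain ⟨-, k, hk, hkv⟩ := mem_kNormalizer.1 hgK
  refine ⟨fun x => ?_, k, hk, fun q => ?_⟩
  · rw [hα]
    exact (Subgroup.mem_normalizer_iff.1 hgP x).symm
  · rw [hα, hkv]
    rfl

theorem mem_normalizer_of_conj {hQ : Q ≤ W} {K : Subgroup (MulAut Q)} (hPW : P ≤ W) {g : Ω}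
    {α : MulAut W} (hα : ∀ x : W, (α x : Ω) = g * x * g⁻¹) (hmem : α ∈ kStar W P hQ K) :
    g ∈ Subgroup.normalizer (P : Set Ω) := by
  rw [Subgroup.mem_normalizer_iff]
  intro x
  constructor
  · intro hx
    rw [← hα ⟨x, hPW hx⟩]
    exact (hmem.1 ⟨x, hPW hx⟩).2 hx
  · intro hx
    obtain ⟨y, hy⟩ := α.surjective ⟨_, hPW hx⟩
    have h1 : g * (y : Ω) * g⁻¹ = g * x * g⁻¹ :=
      (hα y).symm.trans (congrArg (fun w : W => (w : Ω)) hy :)
    have h2 : (α y : Ω) ∈ P := by rw [hy]; exact hx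
    exact mul_left_cancel (mul_right_cancel h1) ▸ (hmem.1 y).1 h2

theorem mem_kNormalizer_of_conj {hQ : Q ≤ W} {K : Subgroup (MulAut Q)} {g : Ω} (hg : g ∈ S)
    {α : MulAut W} (hα : ∀ x : W, (α x : Ω) = g * x * g⁻¹) (hmem : α ∈ kStar W P hQ K) :
    g ∈ kNormalizer S Q K := by
  obtain ⟨-, k, hk, hkv⟩ := hmem
  exact mem_kNormalizer.2 ⟨hg, k, hk, fun q => (hkv q).symm.trans (hα _)⟩

theorem autInducedBy_inf_kStar {K : Subgroup (MulAut Q)} (hN : N = kNormalizer S Q K)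
    {hQ : Q ≤ P ⊔ Q} :
    autInducedBy S (P ⊔ Q) ⊓ kStar (P ⊔ Q) P hQ K =
      autInducedBy (normalizerIn N P) (P ⊔ Q) := by
  ext α
  constructor
  · rintro ⟨hα, hK⟩
    obtain ⟨g, hgS, -, hg⟩ := mem_autInducedBy_iff.1 hα
    exact Subgroup.subset_closure
      ⟨g, ⟨hN.symm ▸ mem_kNormalizer_of_conj hgS hg hK, mem_normalizer_of_conj le_sup_left hg hK⟩, hg⟩
  · intro hα
    obtain ⟨g, hg, -, hgv⟩ := mem_autInducedBy_iff.1 hα
    exact ⟨Subgroup.subset_closure ⟨g, kNormalizer_le K (hN ▸ hg.1), hgv⟩,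
      mem_kStar_of_conj hg.2 (hN ▸ hg.1) hgv⟩

theorem autInducedBy_normalizerIn_le (hP : P ≤ N) (hN : N ≤ Subgroup.normalizer (Q : Set Ω)) :
    normalizerIn N P ≤ Subgroup.normalizer ((P ⊔ Q : Subgroup Ω) : Set Ω) := by
  intro g hg
  rw [Subgroup.mem_normalizer_iff_map_conj_eq, Subgroup.map_sup,
    show P.map (MulAut.conj g : Ω →* Ω) = P from Subgroup.mem_normalizer_iff_map_conj_eq.1 hg.2,
    show Q.map (MulAut.conj g : Ω →* Ω) = Q from
      Subgroup.mem_normalizer_iff_map_conj_eq.1 (hN hg.1)]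

/-- The second stage: `P` is fully automized and receptive in `N_F^K(Q)` when `P ⊔ Q` is
receptive and suitably automized in `F`. -/
theorem automized_receptive_kSystem [Finite S] [Fact p.Prime] (hS : IsPGroup p S) (hQS : Q ≤ S)
    (K : Subgroup (MulAut Q)) (hN : N = kNormalizer S Q K) (hP : P ≤ N)
    (hW : F.IsReceptive (P ⊔ Q))
    (hSyl : IsSylowIn p (F.autGroup (P ⊔ Q) ⊓ kStar (P ⊔ Q) P le_sup_right K)
      (autInducedBy S (P ⊔ Q) ⊓ kStar (P ⊔ Q) P le_sup_right K)) :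
    (kSystem F hQS K hN).IsFullyAutomized p P ∧ (kSystem F hQS K hN).IsReceptive P := by
  have hNS : N ≤ S := hN ▸ kNormalizer_le K
  have hNQ : N ≤ Subgroup.normalizer (Q : Set Ω) :=
    hN ▸ (kNormalizer_le_normalizerIn K).trans inf_le_right
  have hPS := hP.trans hNS
  have hWS := hW.1
  have := finite_of_le hWS
  have := finite_of_le hPS
  set W := P ⊔ Q with hWdef
  set A := F.autGroup W ⊓ kStar W P le_sup_right K with hA
  set B := autInducedBy S W ⊓ kStar W P le_sup_right K with hB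
  let r : A →* MulAut P :=
    (kStarRes le_sup_left le_sup_right K).comp (Subgroup.inclusion inf_le_right)
  have hr : ∀ (a : A) (x : P), (r a x : Ω) = (a : MulAut W) ⟨x, Subgroup.mem_sup_left x.2⟩ :=
    fun a x => kStarRes_apply _ _ _ _ x
  have hrange : r.range = (kSystem F hQS K hN).autGroup P := by
    refine le_antisymm ?_ fun α hα => ?_
    · rintro _ ⟨a, rfl⟩
      obtain ⟨k, hk, hkv⟩ := a.2.2.2
      refine IsIso.mem_autGroup ⟨?_, hP, fun x => hP (r a x).2, _,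
        (mem_autGroup_iff hWS).1 a.2.1, fun x => (hr a x).symm, k, hk, hkv⟩
      exact mem_of_agree ((mem_autGroup_iff hWS).1 a.2.1) le_sup_left (hr a)
    · obtain ⟨-, -, -, ψ, hψ, h1, k, hk, h2⟩ := (mem_autGroup_iff hP).1 hα
      obtain ⟨e, he, hev⟩ := exists_iso hψ (Q := W) (by
        rw [range_extension h1 (imgHom_eq_of_forall le_sup_right h2), range_subtype_comp α])
      have hev1 : ∀ x : P, (e (Subgroup.inclusion le_sup_left x) : Ω) = α x :=
        fun x => (hev _).trans (h1 x)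
      have hmem : (e : MulAut W) ∈ A := by
        refine ⟨(mem_autGroup_iff hWS).2 he, fun x => ⟨fun hx => ?_, fun hx => ?_⟩,
          k, hk, fun q => (hev _).trans (h2 q)⟩
        · obtain ⟨z, hz⟩ := α.surjective ⟨_, hx⟩
          have : e (Subgroup.inclusion le_sup_left z) = e x :=
            Subtype.ext ((hev1 z).trans (congrArg (fun w : P => (w : Ω)) hz :))
          exact e.injective this ▸ z.2
        · exact (hev1 ⟨x, hx⟩).symm ▸ (α ⟨x, hx⟩).2
      exact ⟨⟨e, hmem⟩, MulEquiv.ext fun x => Subtype.ext ((hr _ x).trans (hev1 x))⟩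
  have hBr : (B.subgroupOf A).map r = autInducedBy N P := by
    refine le_antisymm ?_ fun α hα => ?_
    · rintro _ ⟨a, ha, rfl⟩
      obtain ⟨g, hg, -, hgv⟩ := mem_autInducedBy_iff.1
        ((autInducedBy_inf_kStar hN (hQ := le_sup_right)).le (Subgroup.mem_subgroupOf.1 ha))
      exact Subgroup.subset_closure ⟨g, hg.1, fun x => (hr a x).trans (hgv _)⟩
    · obtain ⟨g, hgN, hgP, hgv⟩ := mem_autInducedBy_iff.1 hα
      have hgW := autInducedBy_normalizerIn_le hP hNQ (⟨hgN, hgP⟩ : g ∈ normalizerIn N P)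
      let β : MulAut W := W.normalizerMonoidHom ⟨g, hgW⟩
      have hβ : β ∈ B := (autInducedBy_inf_kStar hN (hQ := le_sup_right)).ge <|
        Subgroup.subset_closure ⟨g, ⟨hgN, hgP⟩, fun x => rfl⟩
      exact ⟨⟨β, autInducedBy_le_autGroup hWS hβ.1, hβ.2⟩, hβ,
        MulEquiv.ext fun x => Subtype.ext ((hr _ x).trans (hgv x).symm)⟩
  refine ⟨⟨hP, hBr ▸ hrange ▸ hSyl.map_hom r⟩, hP, fun R φ hφ hφr => ?_⟩
  obtain ⟨hφF, hRN, hφN, ψ, hψ, h1, k, hk, h2⟩ := hφ
  obtain ⟨e, he, hev⟩ := exists_iso hψ (Q := W) (by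
    rw [range_extension h1 (imgHom_eq_of_forall le_sup_right h2), hφr])
  have hev1 : ∀ x : R, (e (Subgroup.inclusion le_sup_left x) : Ω) = φ x :=
    fun x => (hev _).trans (h1 x)
  have hev2 : ∀ q : Q, (e (Subgroup.inclusion le_sup_right q) : Ω) = k q :=
    fun q => (hev _).trans (h2 q)
  have heP : ∀ x : ↥(R ⊔ Q), (e x : Ω) ∈ P ↔ (x : Ω) ∈ R := by
    intro x
    constructor
    · intro hx
      rw [← hφr] at hx
      obtain ⟨y, hy⟩ := hx
      have : e (Subgroup.inclusion le_sup_left y) = e x := Subtype.ext ((hev1 y).trans hy)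
      exact e.injective this ▸ y.2
    · intro hx
      rw [← hφr]
      exact ⟨⟨x, hx⟩, (hev1 ⟨x, hx⟩).symm⟩
  set M := extender N R φ with hM
  have hMN : M ≤ normalizerIn N R := extender_le_normalizerIn φ
  let X : Subgroup (MulAut W) := (autInducedBy M (R ⊔ Q)).map (MulAut.congr e).toMonoidHom
  have hXA : X ≤ A := by
    rintro _ ⟨β, hβ, rfl⟩
    obtain ⟨g, hg, -, hgv⟩ := mem_autInducedBy_iff.1 hβ
    have hgN : g ∈ kNormalizer S Q K := hN ▸ (hMN hg).1
    refine ⟨congr_mem_autGroup he ((mem_autGroup_iff he.le_left).2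
      (conj_mem' he.le_left hgN.1 hgv)), ?_⟩
    exact congr_mem_kStar (hQ := le_sup_right) (f := k) heP hev2
      (fun l hl => congr_self_eq k l ▸ K.mul_mem (K.mul_mem hk hl) (K.inv_mem hk))
      (mem_kStar_of_conj (hMN hg).2 hgN hgv)
  have hXp : IsPGroup p X :=
    (isPGroup_autInducedBy (hS.to_le ((hMN.trans inf_le_left).trans hNS)) _).map _
  let L : Subgroup (MulAut W) := r.ker.map A.subtype
  have hBA : B ≤ A := inf_le_inf_right _ (autInducedBy_le_autGroup hWS)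
  have hXle : X ≤ B ⊔ L := by
    rintro _ ⟨β, hβ, rfl⟩
    obtain ⟨g, hg, -, hgv⟩ := mem_autInducedBy_iff.1 hβ
    obtain ⟨-, hgR, h, hh, hrel⟩ := mem_extender_iff.1 hg
    have hβR : ∀ x : R, (g * (x : Ω) * g⁻¹) ∈ R := fun x =>
      (Subgroup.mem_normalizer_iff.1 hgR x).1 x.2
    have hhP : h ∈ Subgroup.normalizer (P : Set Ω) := by
      refine Subgroup.mem_normalizer_fintype fun y hy => ?_
      rw [SetLike.mem_coe, ← hφr] at hy ⊢
      obtain ⟨x, rfl⟩ := hy
      exact ⟨_, hrel x (hβR x)⟩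
    let γ : MulAut W := W.normalizerMonoidHom
      ⟨h, autInducedBy_normalizerIn_le hP hNQ (⟨hh, hhP⟩ : h ∈ normalizerIn N P)⟩
    have hγ : γ ∈ B := (autInducedBy_inf_kStar hN (hQ := le_sup_right)).ge <|
      Subgroup.subset_closure ⟨h, ⟨hh, hhP⟩, fun x => rfl⟩
    have hxA : MulAut.congr e β ∈ A := hXA ⟨β, hβ, rfl⟩
    have hker : (⟨γ, hBA hγ⟩ : A)⁻¹ * ⟨_, hxA⟩ ∈ r.ker := by
      rw [MonoidHom.mem_ker, map_mul, map_inv, inv_mul_eq_one]
      refine MulEquiv.ext fun y => Subtype.ext ?_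
      rw [hr, hr]
      obtain ⟨x, hx⟩ : (y : Ω) ∈ φ.range := hφr.symm ▸ y.2
      have e1 : (⟨(y : Ω), Subgroup.mem_sup_left y.2⟩ : W) =
          e (Subgroup.inclusion le_sup_left x) := Subtype.ext (hx.symm.trans (hev1 x).symm)
      show h * (y : Ω) * h⁻¹ = _
      rw [e1, congr_apply, ← hx, ← hrel x (hβR x), ← hev1]
      exact congrArg (fun w => (e w : Ω)) (Subtype.ext (hgv (Subgroup.inclusion le_sup_left x)).symm)
    have : MulAut.congr e β = γ * (γ⁻¹ * MulAut.congr e β) := by group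
    rw [show (MulAut.congr e).toMonoidHom β = MulAut.congr e β from rfl, this]
    exact Subgroup.mul_mem_sup hγ ⟨_, hker, rfl⟩
  have hBL : B ⊔ L ≤ A := sup_le hBA (Subgroup.map_subtype_le _)
  obtain ⟨a, ha, haX⟩ := (hSyl.mono le_sup_left hBL).exists_conj hXle hXp
  have hnorm : A ≤ Subgroup.normalizer (L : Set (MulAut W)) := by
    intro c hc
    refine Subgroup.mem_normalizer_fintype fun l hl => ?_
    obtain ⟨l', hl', rfl⟩ := hl
    have h0 : (⟨c, hc⟩ : A) * l' * (⟨c, hc⟩ : A)⁻¹ ∈ r.ker := by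
      have hl'' : r l' = 1 := MonoidHom.mem_ker.1 hl'
      rw [MonoidHom.mem_ker, map_mul, map_mul, map_inv, hl'', mul_one, mul_inv_cancel]
    refine Subgroup.mem_map.2 ⟨_, h0, ?_⟩
    simp
  rw [← SetLike.mem_coe, Subgroup.coe_mul_of_left_le_normalizer_right _ _
    (hBA.trans hnorm)] at ha
  obtain ⟨b, hb, l, hl, rfl⟩ := Set.mem_mul.1 ha
  obtain ⟨l', hl', hll⟩ := hl
  have hlA : l ∈ A := hll ▸ l'.2
  have hlP : ∀ x : P, (l ⟨x, Subgroup.mem_sup_left x.2⟩ : Ω) = x := by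
    intro x
    have h3 := hr l' x
    rw [MonoidHom.mem_ker.1 hl'] at h3
    subst hll
    exact h3.symm
  obtain ⟨-, kl, hkl, hklv⟩ := hlA.2
  have he' : IsIso F (e.trans l) := he.trans ((mem_autGroup_iff hWS).1 hlA.1)
  have hRS : R ≤ S := hRN.trans hNS
  have hkM : ∀ q : Q, ((e.trans l) (Subgroup.inclusion le_sup_right q) : Ω) = (kl * k) q := by
    intro q
    show (l (e _) : Ω) = (kl (k q) : Ω)
    rw [← hklv]
    exact congrArg (fun w : W => (l w : Ω)) (Subtype.ext (hev2 q))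
  have hext : M ⊔ Q ≤ extender S (R ⊔ Q) (W.subtype.comp (e.trans l).toMonoidHom) := by
    refine sup_le (fun g hg => ?_) (le_sup_right.trans (le_extender he.le_left (F.le_of_mem he').2))
    · have hgW := autInducedBy_normalizerIn_le (P := R) hRN hNQ (hMN hg)
      refine mem_extender_of_congr (α := (R ⊔ Q).normalizerMonoidHom ⟨g, hgW⟩)
        ⟨hNS (hMN hg).1, hgW⟩ (fun x => rfl) ?_
      rw [congr_trans, congr_self_eq]
      have h3 := haX (MulAut.congr e ((R ⊔ Q).normalizerMonoidHom ⟨g, hgW⟩))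
        ⟨_, mem_autInducedBy_iff.2 ⟨g, hg, hgW, fun _ => rfl⟩, rfl⟩
      have h4 := B.mul_mem (B.mul_mem (B.inv_mem hb) h3) hb
      have h5 : l * MulAut.congr e ((R ⊔ Q).normalizerMonoidHom ⟨g, hgW⟩) * l⁻¹ ∈ B := by
        simpa [mul_assoc] using h4
      exact h5.1
  obtain ⟨θ, hθ, hθx⟩ := exists_extension hW he' hext
  have hRM : R ≤ M := le_extender hRN hφN
  have hθQ : ∀ q : Q, θ (Subgroup.inclusion le_sup_right q) = ((kl * k) q : Ω) := fun q =>
    (hθx (Subgroup.inclusion le_sup_right q) _).trans (hkM q)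
  have hθN : ∀ g : M, θ (Subgroup.inclusion le_sup_left g) ∈ N := by
    intro g
    rw [hN]
    obtain ⟨-, c, hc, hcv⟩ := mem_kNormalizer.1 (hN ▸ (hMN g.2).1)
    refine mem_kNormalizer.2 ⟨apply_mem hθ _, MulAut.congr (kl * k) c, ?_, fun q => ?_⟩
    · exact congr_self_eq (kl * k) c ▸ K.mul_mem (K.mul_mem (K.mul_mem hkl hk) hc)
        (K.inv_mem (K.mul_mem hkl hk))
    · obtain ⟨q, rfl⟩ := (kl * k).surjective q
      rw [congr_apply, ← hθQ, ← hθQ, ← map_inv, ← map_mul, ← map_mul]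
      exact congrArg θ (Subtype.ext (hcv q))
  refine ⟨restrictHom θ le_sup_left,
    ⟨restrict_mem hθ _, hMN.trans inf_le_left, hθN, θ, hθ, fun x => rfl, kl * k,
      K.mul_mem hkl hk, hθQ⟩, fun x hx hxM => ?_⟩
  show θ _ = φ ⟨x, hx⟩
  refine (hθx (Subgroup.inclusion le_sup_left ⟨x, hx⟩) (Subgroup.mem_sup_left hxM)).trans ?_
  have h6 : φ ⟨x, hx⟩ ∈ P := hφr ▸ ⟨_, rfl⟩
  refine Eq.trans ?_ (hlP ⟨_, h6⟩)
  exact congrArg (fun w : W => (l w : Ω)) (Subtype.ext (hev1 ⟨x, hx⟩))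

theorem map_congr_inf {W' : Subgroup Ω} (e : W ≃* W') (A B : Subgroup (MulAut W)) :
    (A ⊓ B).map (MulAut.congr e).toMonoidHom =
      A.map (MulAut.congr e).toMonoidHom ⊓ B.map (MulAut.congr e).toMonoidHom :=
  Subgroup.map_inf _ _ _ (MulAut.congr e).injective

/-- `N_F^K(Q)` is saturated when `Q` is receptive and `Aut_S(Q) ∩ K` is Sylow in `Aut_F(Q) ∩ K`. -/
theorem isSaturated_kSystem [Finite S] [Fact p.Prime] (hS : IsPGroup p S) (hF : F.IsSaturated p)
    (hQS : Q ≤ S) (hQr : F.IsReceptive Q) (K : Subgroup (MulAut Q))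
    (hKS : IsSylowIn p (F.autGroup Q ⊓ K) (autInducedBy S Q ⊓ K))
    (hN : N = kNormalizer S Q K) : (kSystem F hQS K hN).IsSaturated p := by
  intro P hP
  have hNS : N ≤ S := hN ▸ kNormalizer_le K
  have hWS : P ⊔ Q ≤ S := sup_le (hP.trans hNS) hQS
  have := finite_of_le hQS
  -- a receptive conjugate with the right automizer
  obtain ⟨W₀, hconj, hW₀a, hW₀r⟩ := hF (P ⊔ Q) hWS
  obtain ⟨e₀, he₀⟩ := isConj_iff.1 hconj
  have := finite_of_le he₀.le_left
  have := finite_of_le he₀.le_right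
  obtain ⟨X, hXA, hXp, hXS⟩ := exists_isSylowIn p
    ((F.autGroup (P ⊔ Q) ⊓ kStar (P ⊔ Q) P le_sup_right K).map (MulAut.congr e₀).toMonoidHom)
  obtain ⟨α, hα, hαX⟩ := exists_conj_autInducedBy hW₀a (X := X)
    (hXA.trans ((Subgroup.map_mono inf_le_left).trans (map_autGroup he₀).le)) hXp
  have he : IsIso F (e₀.trans α) := he₀.trans ((mem_autGroup_iff he₀.le_right).1 hα)
  generalize he_def : e₀.trans α = e at he
  obtain ⟨f, hf, hfv⟩ := exists_iso_restrict he (le_sup_right : Q ≤ P ⊔ Q)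
  generalize hQ₀ : imgHom (W₀.subtype.comp e.toMonoidHom) Q = Q₀ at f hf hfv
  have := finite_of_le hf.le_right
  -- move `Q₀` back onto `Q`
  let K₀ := K.map (MulAut.congr f).toMonoidHom
  obtain ⟨β, ⟨hβ, hβK⟩, hβX⟩ := hKS.exists_conj
    (X := (autInducedBy S Q₀ ⊓ K₀).map (MulAut.congr f.symm).toMonoidHom) (by
      rintro _ ⟨c, ⟨hc, ⟨k, hk, rfl⟩⟩, rfl⟩
      refine ⟨congr_mem_autGroup hf.symm (autInducedBy_le_autGroup hf.le_right hc), ?_⟩
      show MulAut.congr f.symm (MulAut.congr f k) ∈ K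
      rw [show MulAut.congr f.symm (MulAut.congr f k) = k from
        (MulAut.congr f).symm_apply_apply k]
      exact hk)
    (((isPGroup_autInducedBy hS Q₀).to_le inf_le_left).map _)
  have hg : IsIso F (f.symm.trans β) := hf.symm.trans ((mem_autGroup_iff hQS).1 hβ)
  have hext : kNormalizer S Q₀ K₀ ⊔ Q₀ ≤
      extender S Q₀ (Q.subtype.comp (f.symm.trans β).toMonoidHom) := by
    refine sup_le (fun g hgK => ?_) (le_extender hf.le_right (F.le_of_mem hg).2)
    · obtain ⟨hgS, c, hc, hcv⟩ := mem_kNormalizer.1 hgK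
      have hgN := kNormalizer_le_normalizerIn K₀ hgK
      refine mem_extender_of_congr hgN (α := c) hcv ?_
      rw [congr_trans, congr_self_eq]
      exact (hβX _ ⟨c, ⟨Subgroup.subset_closure ⟨g, hgS, hcv⟩, hc⟩, rfl⟩).1
  obtain ⟨χ, hχ, hχx⟩ := exists_extension hQr hg hext
  have hχQ : ∀ q : Q, χ ⟨f q, Subgroup.mem_sup_right (f q).2⟩ = (β q : Ω) := by
    intro q
    rw [hχx (f q) _]
    exact congrArg (fun z => (β z : Ω)) (f.symm_apply_apply q)
  have heP : ∀ x : ↥(P ⊔ Q), (x : Ω) ∈ P → (e x : Ω) ∈ kNormalizer S Q₀ K₀ := by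
    intro x hx
    obtain ⟨-, c, hc, hcv⟩ := mem_kNormalizer.1 (hN ▸ hP hx)
    refine mem_kNormalizer.2 ⟨he.le_right (e x).2, MulAut.congr f c, ⟨c, hc, rfl⟩, fun q => ?_⟩
    obtain ⟨q, rfl⟩ := f.surjective q
    rw [congr_apply, hfv, hfv]
    show (e ⟨c q, _⟩ : Ω) = (e x : Ω) * (e ⟨q, _⟩ : Ω) * (e x : Ω)⁻¹
    rw [← Subgroup.coe_inv, ← Subgroup.coe_mul, ← Subgroup.coe_mul, ← map_inv, ← map_mul,
      ← map_mul]
    exact congrArg (fun z => (e z : Ω)) (Subtype.ext (hcv q))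
  have hW₀le : W₀ ≤ kNormalizer S Q₀ K₀ ⊔ Q₀ := by
    rw [← range_subtype_comp e, ← imgHom_self, imgHom_sup _ le_sup_left le_sup_right]
    refine sup_le_sup ?_ hQ₀.le
    rintro _ ⟨x, hx, rfl⟩
    exact heP x hx
  obtain ⟨h, hh, hhv⟩ := exists_iso_restrict hχ hW₀le
  let ψ : ↥(P ⊔ Q) →* Ω := (imgHom χ W₀).subtype.comp (e.trans h).toMonoidHom
  have hψ : ψ ∈ F.Hom (P ⊔ Q) := he.trans hh
  have hψQ : ∀ q : Q, ψ (Subgroup.inclusion le_sup_right q) = (β q : Ω) := by
    intro q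
    show (h (e _) : Ω) = _
    rw [hhv, ← hχQ]
    exact congrArg χ (Subtype.ext (hfv q).symm)
  let φ : P →* Ω := restrictHom ψ le_sup_left
  have hφN : ∀ x : P, φ x ∈ N := by
    intro x
    rw [hN]
    obtain ⟨-, c, hc, hcv⟩ := mem_kNormalizer.1 (hN ▸ hP x.2)
    refine mem_kNormalizer.2 ⟨apply_mem hψ _, MulAut.congr β c,
      congr_self_eq β c ▸ K.mul_mem (K.mul_mem hβK hc) (K.inv_mem hβK), fun q => ?_⟩
    obtain ⟨q, rfl⟩ := β.surjective q
    rw [congr_apply, ← hψQ, ← hψQ]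
    show ψ _ = ψ _ * ψ _ * (ψ _)⁻¹
    rw [← map_inv, ← map_mul, ← map_mul]
    exact congrArg ψ (Subtype.ext (hcv q))
  have hφE : φ ∈ (kSystem F hQS K hN).Hom P :=
    ⟨restrict_mem hψ _, hP, hφN, ψ, hψ, fun x => rfl, β, hβK, hψQ⟩
  generalize hP₁ : φ.range = P₁
  have hW₁ : imgHom χ W₀ = P₁ ⊔ Q := by
    rw [← hP₁, ← range_extension (ψ := ψ) (φ := φ) (fun x => rfl)
      (imgHom_eq_of_forall le_sup_right hψQ)]
    exact (range_subtype_comp (e.trans h)).symm
  have hP₁N : P₁ ≤ N := by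
    rw [← hP₁]
    rintro _ ⟨x, rfl⟩
    exact hφN x
  -- the image is receptive and suitably automized
  generalize imgHom χ W₀ = W₁ at h hh hhv hψ hW₁ ψ φ hψQ hφN hφE hP₁
  subst hW₁
  refine ⟨P₁, ⟨φ, hφE, hP₁⟩, automized_receptive_kSystem hS hQS K hN hP₁N ?_ ?_⟩
  · refine receptive_of_fullyCentralized hS hF ⟨hh.le_right, fun R hR => ?_⟩
    refine ((isFullyCentralized_of_receptive hW₀r).2 R (isConj_trans hh.isConj hR)).trans ?_
    have hle : centralizerIn S W₀ ≤ kNormalizer S Q₀ K₀ := by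
      intro c hc
      refine mem_kNormalizer.2 ⟨hc.1, 1, K₀.one_mem, fun q => ((mem_centralizerIn'.1 hc).2 q ?_).symm⟩
      obtain ⟨q, rfl⟩ := f.surjective q
      rw [hfv]
      exact (e _).2
    have := finite_of_le (centralizerIn_le S (P₁ ⊔ Q))
    refine Nat.card_le_card_of_injective (fun c : centralizerIn S W₀ =>
      (⟨χ ⟨c, Subgroup.mem_sup_left (hle c.2)⟩, ?_⟩ : centralizerIn S (P₁ ⊔ Q))) ?_
    · refine mem_centralizerIn'.2 ⟨apply_mem hχ _, fun y hy => ?_⟩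
      obtain ⟨w, hw⟩ := h.surjective ⟨y, hy⟩
      rw [show y = χ ⟨w, hW₀le w.2⟩ from
          ((congrArg (fun z : ↥(P₁ ⊔ Q) => (z : Ω)) hw).symm.trans (hhv w) :),
        ← map_inv, ← map_mul, ← map_mul]
      exact congrArg χ (Subtype.ext ((mem_centralizerIn'.1 c.2).2 w w.2))
    · intro a b hab
      exact Subtype.ext (congrArg (fun z : ↥(kNormalizer S Q₀ K₀ ⊔ Q₀) => (z : Ω))
        (F.injective_of_mem hχ (congrArg Subtype.val hab)) :)
  · have := finite_of_le hh.le_right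
    have hεP : ∀ x : ↥(P ⊔ Q), ((e.trans h) x : Ω) ∈ P₁ ↔ (x : Ω) ∈ P := by
      intro x
      constructor
      · intro hx'
        obtain ⟨y, hy⟩ := hP₁.ge hx'
        have : (e.trans h) (Subgroup.inclusion le_sup_left y) = (e.trans h) x := Subtype.ext hy
        exact (e.trans h).injective this ▸ y.2
      · exact fun hx => hP₁.le ⟨⟨x, hx⟩, rfl⟩
    have hiff : ∀ a, MulAut.congr (e.trans h) a ∈
        F.autGroup (P₁ ⊔ Q) ⊓ kStar (P₁ ⊔ Q) P₁ le_sup_right K ↔
        a ∈ F.autGroup (P ⊔ Q) ⊓ kStar (P ⊔ Q) P le_sup_right K := by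
      intro a
      refine and_congr (congr_mem_autGroup_iff (he.trans hh)) ⟨fun ha => ?_,
        congr_mem_kStar (f := β) hεP hψQ
          (fun k hk => congr_self_eq β k ▸ K.mul_mem (K.mul_mem hβK hk) (K.inv_mem hβK))⟩
      have h1 := congr_mem_kStar (W := P₁ ⊔ Q) (W' := P ⊔ Q) (P' := P) (hQ := le_sup_right)
        (hQ' := le_sup_right) (K' := K) (ε := (e.trans h).symm) (f := β.symm)
        (fun x => by
          have := hεP ((e.trans h).symm x)
          rw [MulEquiv.apply_symm_apply] at this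
          exact this.symm)
        (fun q => by
          obtain ⟨q, rfl⟩ := β.surjective q
          rw [MulEquiv.symm_apply_apply]
          refine congrArg Subtype.val ((MulEquiv.symm_apply_eq (e.trans h)).2 ?_ :
            (e.trans h).symm _ = Subgroup.inclusion le_sup_right q)
          exact Subtype.ext (hψQ q).symm)
        (fun k hk => congr_self_eq β.symm k ▸ K.mul_mem (K.mul_mem (K.inv_mem hβK) hk)
          (K.inv_mem (K.inv_mem hβK))) ha
      rwa [show MulAut.congr (e.trans h).symm (MulAut.congr (e.trans h) a) = a from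
        (MulAut.congr (e.trans h)).symm_apply_apply a] at h1
    have hAmap : (F.autGroup (P ⊔ Q) ⊓ kStar (P ⊔ Q) P le_sup_right K).map
        (MulAut.congr (e.trans h)).toMonoidHom =
          F.autGroup (P₁ ⊔ Q) ⊓ kStar (P₁ ⊔ Q) P₁ le_sup_right K := by
      ext b
      obtain ⟨a, rfl⟩ := (MulAut.congr (e.trans h)).surjective b
      rw [hiff a]
      exact Subgroup.mem_map_iff_mem (MulAut.congr (e.trans h)).injective
    refine isSylowIn_of_card_max (inf_le_inf_right _ (autInducedBy_le_autGroup hh.le_right))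
      ((isPGroup_autInducedBy hS _).to_le inf_le_left) fun Y hY hYp => ?_
    -- compare with the Sylow subgroup `X`
    have hY' : Y.map (MulAut.congr (e.trans h).symm).toMonoidHom ≤
        F.autGroup (P ⊔ Q) ⊓ kStar (P ⊔ Q) P le_sup_right K := by
      rintro _ ⟨y, hy, rfl⟩
      rw [← hiff, show MulAut.congr (e.trans h) ((MulAut.congr (e.trans h).symm).toMonoidHom y) = y
        from (MulAut.congr (e.trans h)).apply_symm_apply y]
      exact hY hy
    have h1 := hXS.card_le hXA (Subgroup.map_mono (f := (MulAut.congr e₀).toMonoidHom) hY')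
      ((hYp.map _).map _)
    rw [Subgroup.card_map_of_injective (MulAut.congr e₀).injective,
      Subgroup.card_map_of_injective (MulAut.congr (e.trans h).symm).injective] at h1
    refine h1.trans (Nat.card_le_card_of_injective (fun x : X =>
      (⟨MulAut.congr h (α * x * α⁻¹), ?_⟩ :
        ↥(autInducedBy S (P₁ ⊔ Q) ⊓ kStar (P₁ ⊔ Q) P₁ le_sup_right K))) ?_)
    · obtain ⟨a, ha, hax⟩ := hXA x.2
      have e1 : MulAut.congr h (α * (x : MulAut W₀) * α⁻¹) = MulAut.congr (e.trans h) a := by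
        rw [congr_trans, ← congr_self_eq, ← hax, ← he_def, congr_trans]
        rfl
      have hmemA := (hiff a).2 ha
      rw [← e1] at hmemA
      refine ⟨?_, hmemA.2⟩
      obtain ⟨s, hsS, hsW, hs⟩ := mem_autInducedBy_iff.1 (hαX x x.2)
      have hsQ : s ∈ kNormalizer S Q₀ K₀ := by
        obtain ⟨c, hc, hcv⟩ := ha.2.2
        refine mem_kNormalizer.2 ⟨hsS, MulAut.congr f c, ⟨c, hc, rfl⟩, fun q => ?_⟩
        obtain ⟨q, rfl⟩ := f.surjective q
        rw [congr_apply, hfv, hfv]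
        have h2 : (MulAut.congr e a (e (Subgroup.inclusion le_sup_right q)) : Ω) =
            s * (e (Subgroup.inclusion le_sup_right q) : Ω) * s⁻¹ := by
          rw [← hs, show MulAut.congr e a = α * (x : MulAut W₀) * α⁻¹ by
            rw [← congr_self_eq, ← hax, ← he_def, congr_trans]; rfl]
        rw [congr_apply] at h2
        refine (congrArg (fun z => (e z : Ω)) (Subtype.ext ?_)).trans h2
        exact (hcv q).symm
      refine Subgroup.subset_closure
        ⟨χ ⟨s, Subgroup.mem_sup_left hsQ⟩, apply_mem hχ _, fun y => ?_⟩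
      obtain ⟨w, rfl⟩ := h.surjective y
      rw [congr_apply, hhv, hhv, ← map_inv, ← map_mul, ← map_mul]
      exact congrArg χ (Subtype.ext (hs w))
    · intro x y hxy
      have h2 := (MulAut.congr h).injective (congrArg Subtype.val hxy)
      exact Subtype.ext (mul_left_cancel (mul_right_cancel h2))

theorem isSaturated_normalizerSystem [Finite S] [Fact p.Prime] (hS : IsPGroup p S)
    (hF : F.IsSaturated p) (hQ : F.IsFullyNormalized Q)
    {E : FusionSystem (normalizerIn S Q)} (hE : F.IsNormalizerSystem Q E) : E.IsSaturated p := by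
  obtain ⟨hQa, hQr⟩ := automized_receptive hS hF hQ
  have hKS : IsSylowIn p (F.autGroup Q ⊓ ⊤) (autInducedBy S Q ⊓ ⊤) := by
    rw [inf_top_eq, inf_top_eq]
    exact hQa.2
  have h := isSaturated_kSystem hS hF hQ.1 hQr ⊤ hKS kNormalizer_top.symm
  have e : kSystem F hQ.1 ⊤ kNormalizer_top.symm = E :=
    fusionSystem_ext fun P => (kHom_top F Q P).trans (hE P).symm
  exact e ▸ h

theorem isSaturated_centralizerSystem [Finite S] [Fact p.Prime] (hS : IsPGroup p S)
    (hF : F.IsSaturated p) (hQ : F.IsFullyCentralized Q)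
    {E : FusionSystem (centralizerIn S Q)} (hE : F.IsCentralizerSystem Q E) : E.IsSaturated p := by
  have := finite_of_le hQ.1
  have hKS : IsSylowIn p (F.autGroup Q ⊓ ⊥) (autInducedBy S Q ⊓ ⊥) := by
    rw [inf_bot_eq, inf_bot_eq]
    refine isSylowIn_of_card_max le_rfl IsPGroup.of_bot fun X hX _ => ?_
    rw [le_bot_iff.1 hX]
  have h := isSaturated_kSystem hS hF hQ.1 (receptive_of_fullyCentralized hS hF hQ) ⊥ hKS
    kNormalizer_bot.symm
  have e : kSystem F hQ.1 ⊥ kNormalizer_bot.symm = E :=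
    fusionSystem_ext fun P => (kHom_bot F Q P).trans (hE P).symm
  exact e ▸ h

end CfsgLib.Fusion
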