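import Cfsg.Agent.Fusion.Alperin
import Cfsg.Agent.Fusion.Sylow
import Cfsg.Agent.Fusion.Systems

/-!
# A saturation criterion

Let `C` be a conjugacy class of subgroups such that the classes of all larger subgroups have fully
automized receptive members and such that the system is generated by maps with source outside `C`.

* `To.top`: the normalizer of every member of `C` maps to that of a fully normalized member `Q`.
* `mem_extSubgroup`: every automorphism of `Q` extends to the subgroup `hat F p Q` of the elements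
  acting on `Q` inside `O_p(Aut_F(Q))`.
* `satClass_step`: if `Q < hat F p Q` then `Q` is fully automized and receptive.
-/

set_option autoImplicit false
set_option linter.style.haveILetI false

namespace CfsgLib.SatCriterion

open Cfsg Cfsg.FusionSystem CfsgLib.Fusion

variable {Ω : Type*} [Group Ω] {S : Subgroup Ω} {F : FusionSystem S} {p : ℕ}
variable {P Q R T U W : Subgroup Ω}

/-- The class of `P` has a fully automized receptive member. -/
def SatClass (F : FusionSystem S) (p : ℕ) (P : Subgroup Ω) : Prop :=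
  ∃ Q, F.IsConj P Q ∧ F.IsFullyAutomized p Q ∧ F.IsReceptive Q

/-! ### General lemmas -/

theorem imgHom_comp {X Y : Subgroup Ω} (φ : X →* Ω) (ψ : Y →* Ω) (h : ∀ x, φ x ∈ Y)
    (R : Subgroup Ω) : imgHom (ψ.comp (φ.codRestrict Y h)) R = imgHom ψ (imgHom φ R) := by
  ext y
  constructor
  · rintro ⟨x, hx, rfl⟩
    exact ⟨⟨φ x, h x⟩, ⟨x, hx, rfl⟩, rfl⟩
  · rintro ⟨⟨z, hz⟩, ⟨x, hx, hxz⟩, rfl⟩
    exact ⟨x, hx, congrArg ψ (Subtype.ext hxz)⟩

theorem imgHom_congr {X Y : Subgroup Ω} {φ : X →* Ω} {ψ : Y →* Ω} (hRX : R ≤ X) (hRY : R ≤ Y)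
    (h : ∀ (x : Ω) (hx : x ∈ R), φ ⟨x, hRX hx⟩ = ψ ⟨x, hRY hx⟩) : imgHom φ R = imgHom ψ R := by
  ext y
  constructor
  · rintro ⟨⟨x, _⟩, hx, rfl⟩
    exact ⟨⟨x, hRY hx⟩, hx, (h x hx).symm⟩
  · rintro ⟨⟨x, _⟩, hx, rfl⟩
    exact ⟨⟨x, hRX hx⟩, hx, h x hx⟩

theorem imgHom_subtype (hRW : R ≤ W) : imgHom W.subtype R = R := by
  ext y
  exact ⟨fun ⟨x, hx, hxy⟩ => hxy ▸ hx, fun hy => ⟨⟨y, hRW hy⟩, hy, rfl⟩⟩

theorem apply_mem_normalizerIn {φ : W →* Ω} (hφ : φ ∈ F.Hom W) (hRW : R ≤ W)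
    (hW : W ≤ normalizerIn S R) (x : W) : φ x ∈ normalizerIn S (imgHom φ R) :=
  ⟨apply_mem hφ x, map_mem_normalizer hRW (hW x.2).2⟩

theorem range_le_normalizerIn {φ : W →* Ω} (hφ : φ ∈ F.Hom W) (hRW : R ≤ W)
    (hW : W ≤ normalizerIn S R) : φ.range ≤ normalizerIn S (imgHom φ R) := by
  rintro _ ⟨x, rfl⟩
  exact apply_mem_normalizerIn hφ hRW hW x

theorem exists_sylowIn_ge {A : Type*} [Group A] {H X : Subgroup A} (hXH : X ≤ H)
    (hX : IsPGroup p X) : ∃ K ≤ H, X ≤ K ∧ IsPGroup p K ∧ IsSylowIn p H K := by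
  obtain ⟨R, hR⟩ := (hX.comap_subtype (K := H)).exists_le_sylow
  refine ⟨(R : Subgroup H).map H.subtype, Subgroup.map_subtype_le _, fun x hx => ?_,
    R.isPGroup'.map _, R, ((R : Subgroup H).comap_map_eq_self_of_injective H.subtype_injective).symm⟩
  exact ⟨⟨x, hXH hx⟩, hR hx, rfl⟩

theorem exists_iso_sylow [Finite S] [Fact p.Prime] (hW : SatClass F p W)
    {X : Subgroup (MulAut W)} (hX : X ≤ F.autGroup W) (hXp : IsPGroup p X) :
    ∃ (V : Subgroup Ω) (θ : W ≃* V), IsIso F θ ∧ F.IsReceptive V ∧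
      ∀ a ∈ X, MulAut.congr θ a ∈ autInducedBy S V := by
  obtain ⟨V, hconj, hVa, hVr⟩ := hW
  obtain ⟨θ₀, hθ₀⟩ := isConj_iff.1 hconj
  obtain ⟨γ, hγ, hγc⟩ := exists_conj_autInducedBy hVa
    (X := X.map (MulAut.congr θ₀).toMonoidHom)
    (by
      rintro _ ⟨a, ha, rfl⟩
      exact congr_mem_autGroup hθ₀ (hX ha))
    (hXp.map _)
  refine ⟨V, θ₀.trans γ, hθ₀.trans ((mem_autGroup_iff hθ₀.le_right).1 hγ), hVr, fun a ha => ?_⟩
  rw [congr_trans, congr_self_eq]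
  exact hγc _ ⟨a, ha, rfl⟩

theorem mem_normalizer_of_finite [Finite R] {g : Ω} (h : ∀ x ∈ R, g * x * g⁻¹ ∈ R) :
    g ∈ Subgroup.normalizer (R : Set Ω) := by
  rw [Subgroup.mem_normalizer_iff]
  refine fun y => ⟨h y, fun hy => ?_⟩
  have hinj : Function.Injective fun x : R => (⟨g * x * g⁻¹, h x x.2⟩ : R) := fun a b hab =>
    Subtype.ext (mul_left_cancel (mul_right_cancel (congrArg Subtype.val hab)))
  obtain ⟨x, hx⟩ := (Finite.injective_iff_surjective.1 hinj) ⟨_, hy⟩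
  exact mul_left_cancel (mul_right_cancel (congrArg Subtype.val hx)) ▸ x.2

/-! ### Stabilizers -/

/-- The automorphisms of `W` in the system which preserve `R`. -/
def stab (F : FusionSystem S) (W R : Subgroup Ω) : Subgroup (MulAut W) where
  carrier := {a | a ∈ F.autGroup W ∧ ∀ x : W, (a x : Ω) ∈ R ↔ (x : Ω) ∈ R}
  one_mem' := ⟨one_mem _, fun _ => Iff.rfl⟩
  mul_mem' := fun {a b} ha hb => ⟨mul_mem ha.1 hb.1, fun x => (ha.2 (b x)).trans (hb.2 x)⟩
  inv_mem' := fun {a} ha => ⟨Subgroup.inv_mem _ ha.1, fun x => by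
    have h := ha.2 (a⁻¹ x)
    rw [MulAut.apply_inv_self] at h
    exact h.symm⟩

/-- Restriction of the stabilizer to `R`. -/
def res (F : FusionSystem S) (hRW : R ≤ W) : stab F W R →* MulAut R where
  toFun a :=
    { toFun := fun x => ⟨((a : MulAut W) ⟨x, hRW x.2⟩ : W), (a.2.2 _).2 x.2⟩
      invFun := fun x => ⟨((a : MulAut W).symm ⟨x, hRW x.2⟩ : W), (a.2.2 _).1 (by
        rw [MulEquiv.apply_symm_apply]; exact x.2)⟩
      left_inv := fun x => Subtype.ext (by simp)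
      right_inv := fun x => Subtype.ext (by simp)
      map_mul' := fun x y => Subtype.ext (by
        show ((a : MulAut W) (⟨x, hRW x.2⟩ * ⟨y, hRW y.2⟩) : Ω) = _
        rw [map_mul]
        rfl) }
  map_one' := MulEquiv.ext fun _ => Subtype.ext rfl
  map_mul' _ _ := MulEquiv.ext fun _ => Subtype.ext rfl

theorem res_apply (hRW : R ≤ W) (a : stab F W R) (x : R) :
    (res F hRW a x : Ω) = ((a : MulAut W) ⟨x, hRW x.2⟩ : Ω) := rfl

theorem res_mem (hRW : R ≤ W) (hW : W ≤ S) (a : stab F W R) : res F hRW a ∈ F.autGroup R :=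
  (mem_autGroup_iff (hRW.trans hW)).2
    (mem_of_agree ((mem_autGroup_iff hW).1 a.2.1) hRW fun _ => rfl)

theorem autInducedBy_le_stab (hRW : R ≤ W) (hW : W ≤ S) {M : Subgroup Ω}
    (hM : M ≤ normalizerIn S R) : autInducedBy M W ≤ stab F W R := by
  intro a ha
  obtain ⟨g, hg, -, hga⟩ := mem_autInducedBy_iff.1 ha
  refine ⟨autInducedBy_le_autGroup hW (autInducedBy_mono (hM.trans inf_le_left) W ha), fun x => ?_⟩
  rw [hga]
  exact (Subgroup.mem_normalizer_iff.1 (hM hg).2 x).symm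

theorem congr_mem_stab {V : Subgroup Ω} (hW : W ≤ S) {e : W ≃* V} (he : IsIso F e)
    {R' : Subgroup Ω} (hR : ∀ x : W, (e x : Ω) ∈ R' ↔ (x : Ω) ∈ R) {a : MulAut W}
    (ha : a ∈ stab F W R) : MulAut.congr e a ∈ stab F V R' := by
  refine ⟨congr_mem_autGroup he ha.1, fun y => ?_⟩
  obtain ⟨x, rfl⟩ := e.surjective y
  rw [congr_apply, hR, hR]
  exact ha.2 x

/-! ### The order on a class -/

/-- Some map on `N_S(R)` carries `R` onto `T`. -/
def To (F : FusionSystem S) (R T : Subgroup Ω) : Prop :=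
  ∃ φ ∈ F.Hom (normalizerIn S R), imgHom φ R = T

theorem To.mk' (hU : U = normalizerIn S R) {φ : U →* Ω} (hφ : φ ∈ F.Hom U)
    (h : imgHom φ R = T) : To F R T := by
  subst hU
  exact ⟨φ, hφ, h⟩

theorem To.refl (hR : R ≤ S) : To F R R :=
  ⟨_, subtype_mem (normalizerIn_le S R), imgHom_subtype (le_normalizerIn hR)⟩

theorem To.trans (hR : R ≤ S) (h : To F R T) (h' : To F T U) : To F R U := by
  obtain ⟨φ, hφ, rfl⟩ := h
  obtain ⟨ψ, hψ, rfl⟩ := h'
  exact ⟨_, F.comp_mem hφ hψ (apply_mem_normalizerIn hφ (le_normalizerIn hR) le_rfl),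
    imgHom_comp _ _ _ _⟩

theorem To.isConj (hR : R ≤ S) (h : To F R T) : F.IsConj R T := by
  obtain ⟨φ, hφ, rfl⟩ := h
  exact isConj_restrict hφ (le_normalizerIn hR)

/-- `a` and `b` have a common upper bound. -/
def Join (F : FusionSystem S) (a b : Subgroup Ω) : Prop := ∃ T, To F a T ∧ To F b T

theorem imgHom_inv {φ : W →* Ω} (hRW : R ≤ W) {ψ : φ.range →* Ω}
    (hψ : ∀ x : W, ψ ⟨φ x, x, rfl⟩ = x) : imgHom ψ (imgHom φ R) = R := by
  ext y
  constructor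
  · rintro ⟨⟨_, x, rfl⟩, ⟨x', hx', hxx⟩, rfl⟩
    rw [show (⟨φ x, x, rfl⟩ : φ.range) = ⟨φ x', x', rfl⟩ from Subtype.ext hxx.symm, hψ]
    exact hx'
  · intro hy
    exact ⟨⟨φ ⟨y, hRW hy⟩, _, rfl⟩, ⟨⟨y, hRW hy⟩, hy, rfl⟩, hψ _⟩

section joins

variable [Finite S] [Fact p.Prime] (hS : IsPGroup p S)
variable (hbig : ∀ W : Subgroup Ω, W ≤ S → Nat.card P < Nat.card W → SatClass F p W)
include hS hbig

theorem join_step : ∀ (d : ℕ) (W R : Subgroup Ω) (ψ : W →* Ω), Nat.card S ≤ Nat.card W + d →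
    ψ ∈ F.Hom W → F.IsConj P R → R < W → W ≤ normalizerIn S R → Join F R (imgHom ψ R) := by
  intro d
  induction d using Nat.strong_induction_on with
  | _ d ih =>
  intro W R ψ hd hψ hPR hRW hWN
  have hRS : R ≤ S := le_of_isConj_right hPR
  have hWS : W ≤ S := le_left hψ
  have hR' : F.IsConj R (imgHom ψ R) := isConj_restrict hψ hRW.le
  have hR'S := le_of_isConj_right hR'
  rcases hWN.eq_or_lt with hWK | hWK
  · exact ⟨_, To.mk' hWK hψ rfl, To.refl hR'S⟩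
  have hW'le : ψ.range ≤ normalizerIn S (imgHom ψ R) := range_le_normalizerIn hψ hRW.le hWN
  rcases hW'le.eq_or_lt with hWK' | hWK'
  · obtain ⟨ψi, hψi, hψiv⟩ := F.inv_mem hψ
    exact ⟨_, To.refl hRS, To.mk' hWK' hψi (imgHom_inv hRW.le hψiv)⟩
  obtain ⟨e, he, hev⟩ := exists_iso_range hψ
  haveI := finite_of_le hWS
  haveI := finite_of_le (normalizerIn_le S R)
  haveI := finite_of_le (normalizerIn_le S (imgHom ψ R))
  -- the larger subgroups
  obtain ⟨M, hM⟩ : ∃ M, M = normalizerIn (normalizerIn S R) W := ⟨_, rfl⟩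
  obtain ⟨M', hM'⟩ : ∃ M', M' = normalizerIn (normalizerIn S (imgHom ψ R)) ψ.range := ⟨_, rfl⟩
  have hWM : W < M := hM ▸ lt_normalizerIn (hS.to_le (normalizerIn_le S R)) hWK
  have hWM' : ψ.range < M' :=
    hM' ▸ lt_normalizerIn (hS.to_le (normalizerIn_le S _)) hWK'
  have hMN : M ≤ normalizerIn S R := hM ▸ normalizerIn_le _ W
  have hM'N : M' ≤ normalizerIn S (imgHom ψ R) := hM' ▸ normalizerIn_le _ _
  have hMW : M ≤ normalizerIn S W := fun g hg => ⟨(hMN hg).1, (hM ▸ hg : _).2⟩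
  have hMW' : M' ≤ normalizerIn S ψ.range := fun g hg => ⟨(hM'N hg).1, (hM' ▸ hg : _).2⟩
  have heR : ∀ x : W, (e x : Ω) ∈ imgHom ψ R ↔ (x : Ω) ∈ R := fun x => by
    rw [hev]
    exact mem_imgHom_apply_iff (F.injective_of_mem hψ)
  have heR' : ∀ y : ψ.range, (e.symm y : Ω) ∈ R ↔ (y : Ω) ∈ imgHom ψ R := fun y => by
    rw [← heR, MulEquiv.apply_symm_apply]
  -- a Sylow subgroup of the stabilizer
  obtain ⟨Sig, hSigA, hAutM, hSigp, hSig⟩ := exists_sylowIn_ge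
    (autInducedBy_le_stab (F := F) hRW.le hWS hMN)
    (isPGroup_autInducedBy (hS.to_le (hMN.trans (normalizerIn_le S R))) W)
  have hle' : (autInducedBy M' ψ.range).map (MulAut.congr e.symm).toMonoidHom ≤ stab F W R := by
    rintro _ ⟨a, ha, rfl⟩
    exact congr_mem_stab he.le_right he.symm heR'
      (autInducedBy_le_stab (F := F) (imgHom_le_range ψ R) he.le_right hM'N ha)
  obtain ⟨γ, hγ, hγc⟩ := hSig.exists_conj hle'
    ((isPGroup_autInducedBy (hS.to_le (hM'N.trans (normalizerIn_le S _))) _).map _)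
  obtain ⟨V, θ, hθ, hVr, hθc⟩ := exists_iso_sylow
    (hbig W hWS (lt_of_eq_of_lt (card_eq_of_isConj hPR) (card_lt_of_lt hRW hWS)))
    (fun a ha => (hSigA ha).1) hSigp
  obtain ⟨φ₁, hφ₁, hφ₁v⟩ := exists_extension (T := M) hVr hθ fun g hg =>
    mem_extender_of_congr (hMW hg) (α := W.normalizerMonoidHom ⟨g, (hMW hg).2⟩) (fun _ => rfl)
      (hθc _ (hAutM (mem_autInducedBy_iff.2 ⟨g, hg, (hMW hg).2, fun _ => rfl⟩)))
  have hγiso : IsIso F γ := (mem_autGroup_iff hWS).1 hγ.1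
  obtain ⟨φ₂, hφ₂, hφ₂v⟩ := exists_extension (T := M') hVr
    ((he.symm.trans hγiso).trans hθ) fun g hg =>
    mem_extender_of_congr (hMW' hg) (α := ψ.range.normalizerMonoidHom ⟨g, (hMW' hg).2⟩)
      (fun _ => rfl) (by
      rw [congr_trans, congr_trans, congr_self_eq]
      exact hθc _ (hγc _ ⟨_, mem_autInducedBy_iff.2 ⟨g, hg, (hMW' hg).2, fun _ => rfl⟩, rfl⟩))
  have himg : imgHom φ₂ (imgHom ψ R) = imgHom φ₁ R := by
    ext z
    constructor
    · rintro ⟨⟨y, hyM⟩, hy, rfl⟩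
      have hy' : y ∈ ψ.range := imgHom_le_range ψ R hy
      refine ⟨⟨(γ (e.symm ⟨y, hy'⟩) : W), hWM.le (Subtype.mem _)⟩,
        (hγ.2 _).2 ((heR' _).2 hy), ?_⟩
      exact (hφ₁v (γ (e.symm ⟨y, hy'⟩)) _).trans (hφ₂v ⟨y, hy'⟩ hyM).symm
    · rintro ⟨⟨x, hxM⟩, hx, rfl⟩
      have hxW : x ∈ W := hRW.le hx
      obtain ⟨w, hw⟩ := γ.surjective ⟨x, hxW⟩
      have hwR : (w : Ω) ∈ R := (hγ.2 w).1 (by rw [hw]; exact hx)
      refine ⟨⟨(e w : Ω), hWM'.le (e w).2⟩, (heR w).2 hwR, ?_⟩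
      refine (hφ₂v (e w) _).trans ((hφ₁v ⟨x, hxW⟩ hxM).trans ?_).symm
      show (θ ⟨x, hxW⟩ : Ω) = (θ (γ (e.symm (e w))) : Ω)
      rw [e.symm_apply_apply, hw]
  have hcM : Nat.card W < Nat.card M := card_lt_of_lt hWM (hMN.trans (normalizerIn_le S R))
  have hcM' : Nat.card W < Nat.card M' :=
    lt_of_eq_of_lt he.card_eq (card_lt_of_lt hWM' (hM'N.trans (normalizerIn_le S _)))
  have hMS : Nat.card M ≤ Nat.card S :=
    Nat.card_le_card_of_injective _
      (Subgroup.inclusion_injective (hMN.trans (normalizerIn_le S R)))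
  have hM'S : Nat.card M' ≤ Nat.card S :=
    Nat.card_le_card_of_injective _
      (Subgroup.inclusion_injective (hM'N.trans (normalizerIn_le S _)))
  have hRM : R < M := hRW.trans hWM
  have hR'M : imgHom ψ R < M' := lt_of_le_of_lt (imgHom_le_range ψ R) hWM'
  obtain ⟨T₁, hT₁R, hT₁⟩ := ih (Nat.card S - Nat.card M) (by omega) M R φ₁ (by omega) hφ₁ hPR hRM
    hMN
  obtain ⟨T₂, hT₂R, hT₂⟩ := ih (Nat.card S - Nat.card M') (by omega) M' (imgHom ψ R) φ₂ (by omega)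
    hφ₂ (isConj_trans hPR hR') hR'M hM'N
  rw [himg] at hT₂
  -- confluence above the common image
  obtain ⟨R₁, hR₁⟩ : ∃ R₁, R₁ = imgHom φ₁ R := ⟨_, rfl⟩
  rw [← hR₁] at hT₁ hT₂
  have hR₁S : R₁ ≤ S := hR₁ ▸ imgHom_le hφ₁ R
  obtain ⟨f₁, hf₁, hf₁v⟩ := hT₁
  obtain ⟨f₂, hf₂, hf₂v⟩ := hT₂
  obtain ⟨g₁, hg₁, hg₁v⟩ := F.inv_mem hf₁
  haveI := finite_of_le (normalizerIn_le S R₁)
  have hcN : Nat.card M ≤ Nat.card (normalizerIn S R₁) := by
    refine Nat.card_le_card_of_injective (fun x => (⟨φ₁ x, hR₁ ▸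
      apply_mem_normalizerIn hφ₁ hRM.le hMN x⟩ : normalizerIn S R₁)) fun a b h => ?_
    exact F.injective_of_mem hφ₁ (congrArg Subtype.val h)
  have hcr : Nat.card f₁.range = Nat.card (normalizerIn S R₁) :=
    (Nat.card_congr (MonoidHom.ofInjective (F.injective_of_mem hf₁)).toEquiv).symm
  have hmem : ∀ y : f₁.range, g₁ y ∈ normalizerIn S R₁ := by
    rintro ⟨_, x, rfl⟩
    rw [hg₁v x]
    exact x.2
  have hPT₁ : F.IsConj P T₁ := isConj_trans hPR (hT₁R.isConj hRS)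
  have hT₁lt : T₁ < f₁.range := by
    refine lt_of_le_of_ne (hf₁v ▸ imgHom_le_range f₁ R₁) fun h => ?_
    have h1 := card_eq_of_isConj hPT₁
    rw [h, hcr] at h1
    have h2 := card_eq_of_isConj hPR
    have h3 := card_lt_of_lt hRW hWS
    omega
  obtain ⟨T, hTa, hTb⟩ := ih (Nat.card S - Nat.card f₁.range) (by omega) f₁.range T₁
    (f₂.comp (g₁.codRestrict _ hmem))
    (by omega) (F.comp_mem hg₁ hf₂ hmem) hPT₁ hT₁lt
    (hf₁v ▸ range_le_normalizerIn hf₁ (le_normalizerIn hR₁S) le_rfl)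
  have heq : imgHom (f₂.comp (g₁.codRestrict _ hmem)) T₁ = T₂ := by
    rw [imgHom_comp, ← hf₁v, imgHom_inv (le_normalizerIn hR₁S) hg₁v, hf₂v]
  rw [heq] at hTb
  exact ⟨T, hT₁R.trans hRS hTa, hT₂R.trans hR'S hTb⟩

theorem join_trans (hne : Nat.card P < Nat.card S) {a b c : Subgroup Ω} (hPa : F.IsConj P a)
    (hPc : F.IsConj P c) (hPb : F.IsConj P b) (h : Join F a b) (h' : Join F b c) :
    Join F a c := by
  obtain ⟨T₁, ha, hb₁⟩ := h
  obtain ⟨T₂, hb₂, hc⟩ := h'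
  have haS := le_of_isConj_right hPa
  have hbS := le_of_isConj_right hPb
  have hcS := le_of_isConj_right hPc
  obtain ⟨f₁, hf₁, hf₁v⟩ := hb₁
  obtain ⟨f₂, hf₂, hf₂v⟩ := hb₂
  obtain ⟨g₁, hg₁, hg₁v⟩ := F.inv_mem hf₁
  haveI := finite_of_le (normalizerIn_le S b)
  have hmem : ∀ y : f₁.range, g₁ y ∈ normalizerIn S b := by
    rintro ⟨_, x, rfl⟩
    rw [hg₁v x]
    exact x.2
  have hPT₁ : F.IsConj P T₁ := isConj_trans hPa (ha.isConj haS)
  have hcr : Nat.card f₁.range = Nat.card (normalizerIn S b) :=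
    (Nat.card_congr (MonoidHom.ofInjective (F.injective_of_mem hf₁)).toEquiv).symm
  have hblt : b < normalizerIn S b := lt_normalizerIn hS (lt_of_le_of_ne hbS fun h => by
    have := card_eq_of_isConj hPb
    rw [h] at this
    omega)
  have hT₁lt : T₁ < f₁.range := by
    refine lt_of_le_of_ne (hf₁v ▸ imgHom_le_range f₁ b) fun h => ?_
    have h1 := card_eq_of_isConj hPT₁
    rw [h, hcr, card_eq_of_isConj hPb] at h1
    exact (card_lt_of_lt hblt (normalizerIn_le S b)).ne h1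
  obtain ⟨T, hTa, hTb⟩ := join_step hS hbig (Nat.card S) f₁.range T₁
    (f₂.comp (g₁.codRestrict _ hmem)) (Nat.le_add_left _ _) (F.comp_mem hg₁ hf₂ hmem) hPT₁ hT₁lt
    (hf₁v ▸ range_le_normalizerIn hf₁ (le_normalizerIn hbS) le_rfl)
  have heq : imgHom (f₂.comp (g₁.codRestrict _ hmem)) T₁ = T₂ := by
    rw [imgHom_comp, ← hf₁v, imgHom_inv (le_normalizerIn hbS) hg₁v, hf₂v]
  rw [heq] at hTb
  exact ⟨T, ha.trans haS hTa, hc.trans hcS hTb⟩

/-- The normalizer of every member of the class maps to that of a fully normalized one. -/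
theorem To.top (hne : Nat.card P < Nat.card S)
    (hgen : ∀ E : FusionSystem S,
      (∀ X : Subgroup Ω, ¬ F.IsConj P X → F.Hom X ⊆ E.Hom X) → F ≤ E)
    (hPQ : F.IsConj P Q) (hQ : F.IsFullyNormalized Q) (hPR : F.IsConj P R) : To F R Q := by
  let D : FusionSystem S :=
    { Hom := fun X => {φ | φ ∈ F.Hom X ∧ ∀ Y, Y ≤ X → F.IsConj P Y → Join F Y (imgHom φ Y)}
      le_of_mem := fun h => F.le_of_mem h.1
      injective_of_mem := fun h => F.injective_of_mem h.1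
      conj_mem := fun {X g} hX hg => ⟨F.conj_mem hX hg, fun Y hYX hY => by
        refine ⟨imgHom (conjHom X g) Y,
          ⟨_, F.conj_mem (normalizerIn_le S Y) hg, ?_⟩,
          To.refl (imgHom_le (F.conj_mem hX hg) Y)⟩
        exact imgHom_congr (le_normalizerIn (hYX.trans hX)) hYX fun _ _ => rfl⟩
      comp_mem := fun {X Z φ ψ} hφ hψ h => ⟨F.comp_mem hφ.1 hψ.1 h, fun Y hYX hY => by
        rw [imgHom_comp]
        have hle : imgHom φ Y ≤ Z := by
          rintro _ ⟨x, -, rfl⟩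
          exact h x
        have h1 : F.IsConj P (imgHom φ Y) := isConj_trans hY (isConj_restrict hφ.1 hYX)
        exact join_trans hS hbig hne hY (isConj_trans h1 (isConj_restrict hψ.1 hle)) h1
          (hφ.2 Y hYX hY) (hψ.2 _ hle h1)⟩
      inv_mem := fun {X φ} hφ => by
        obtain ⟨ψ, hψ, hv⟩ := F.inv_mem hφ.1
        refine ⟨ψ, ⟨hψ, fun Y hYX hY => ?_⟩, hv⟩
        obtain ⟨Y₀, hY₀⟩ : ∃ Y₀, Y₀ = imgHom ψ Y := ⟨_, rfl⟩
        have hle : Y₀ ≤ X := by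
          rw [hY₀]
          rintro _ ⟨⟨_, x, rfl⟩, -, rfl⟩
          rw [hv x]
          exact x.2
        have himg : imgHom φ Y₀ = Y := by
          rw [hY₀]
          ext y
          constructor
          · rintro ⟨x, ⟨⟨_, x', rfl⟩, hy', hxx⟩, rfl⟩
            rw [hv x'] at hxx
            rw [show x = x' from Subtype.ext hxx.symm]
            exact hy'
          · intro hy
            obtain ⟨x, rfl⟩ := hYX hy
            exact ⟨x, ⟨⟨φ x, x, rfl⟩, hy, hv x⟩, rfl⟩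
        obtain ⟨T, h1, h2⟩ := hφ.2 Y₀ hle
          (hY₀ ▸ isConj_trans hY (isConj_restrict hψ hYX))
        rw [himg] at h2
        exact hY₀ ▸ ⟨T, h2, h1⟩ }
  have hFD : F ≤ D := hgen D fun X hX φ hφ => ⟨hφ, fun Y hYX hY => by
    have hlt : Y < X := lt_of_le_of_ne hYX fun h => hX (h ▸ hY)
    haveI := finite_of_le (le_left hφ)
    have hN : Y < normalizerIn X Y := lt_normalizerIn (hS.to_le (le_left hφ)) hlt
    have hle : normalizerIn X Y ≤ X := normalizerIn_le X Y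
    rw [imgHom_congr hYX hN.le (ψ := restrictHom φ hle) fun _ _ => rfl]
    exact join_step hS hbig (Nat.card S) _ Y _ (Nat.le_add_left _ _) (restrict_mem hφ hle) hY hN
      fun g hg => ⟨le_left hφ (hle hg), hg.2⟩⟩
  obtain ⟨φ, hφ, hr⟩ := isConj_trans (isConj_symm hPR) hPQ
  obtain ⟨T, hRT, hQT⟩ := (hFD R hφ).2 R le_rfl hPR
  rw [imgHom_self, hr] at hQT
  refine hRT.trans (le_of_isConj_right hPR) ?_
  obtain ⟨f, hf, hfv⟩ := hQT
  obtain ⟨g, hg, hgv⟩ := F.inv_mem hf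
  haveI := finite_of_le (normalizerIn_le S T)
  have hle : f.range ≤ normalizerIn S T := hfv ▸ range_le_normalizerIn hf (le_normalizerIn hQ.1) le_rfl
  have heq : f.range = normalizerIn S T := by
    refine Subgroup.eq_of_le_of_card_ge hle ?_
    rw [← Nat.card_congr (MonoidHom.ofInjective (F.injective_of_mem hf)).toEquiv]
    exact hQ.2 T (hfv ▸ isConj_restrict hf (le_normalizerIn hQ.1))
  exact To.mk' heq hg (hfv ▸ imgHom_inv (le_normalizerIn hQ.1) hgv)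

end joins

/-! ### Extension of the automorphisms of a fully normalized member -/

/-- `O_p(Aut_F(Q))` as automorphisms of `Q`. -/
abbrev opAut (F : FusionSystem S) (p : ℕ) (Q : Subgroup Ω) : Subgroup (MulAut Q) :=
  (pCore p (F.autGroup Q)).map (F.autGroup Q).subtype

/-- The elements of `N_S(Q)` acting on `Q` inside `O_p(Aut_F(Q))`. -/
abbrev hat (F : FusionSystem S) (p : ℕ) (Q : Subgroup Ω) : Subgroup Ω :=
  kNormalizer S Q (opAut F p Q)

theorem pCore_normal' {A : Type*} [Group A] : (pCore p A).Normal :=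
  Subgroup.sSup_normal _ fun _ hN => hN.1

theorem conj_mem_opAut {a k : MulAut Q} (ha : a ∈ F.autGroup Q) (hk : k ∈ opAut F p Q) :
    a * k * a⁻¹ ∈ opAut F p Q := by
  obtain ⟨k', hk', rfl⟩ := hk
  exact ⟨⟨a, ha⟩ * k' * ⟨a, ha⟩⁻¹, pCore_normal'.conj_mem k' hk' _, rfl⟩

theorem congr_mem_opAut [Fact p.Prime] [Finite S] {e : R ≃* Q} (he : IsIso F e) {k : MulAut R}
    (hk : k ∈ opAut F p R) : MulAut.congr e k ∈ opAut F p Q := by
  obtain ⟨k', hk', rfl⟩ := hk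
  haveI := finite_of_le he.le_left
  haveI : (pCore p (F.autGroup R)).Normal := pCore_normal'
  let f : F.autGroup R →* F.autGroup Q :=
    { toFun := fun β => ⟨MulAut.congr e β, congr_mem_autGroup he β.2⟩
      map_one' := Subtype.ext (map_one _)
      map_mul' := fun a b => Subtype.ext (map_mul _ _ _) }
  have hf : Function.Surjective f := fun β => by
    obtain ⟨α, hα, hαβ⟩ := (map_autGroup he).ge β.2
    exact ⟨⟨α, hα⟩, Subtype.ext hαβ⟩
  haveI : ((pCore p (F.autGroup R)).map f).Normal := Subgroup.Normal.map inferInstance f hf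
  exact ⟨f k', CfsgLib.PLocal.le_pCore ((CfsgLib.PLocal.isPGroup_pCore p _).map f)
    ⟨k', hk', rfl⟩, rfl⟩

theorem isPGroup_opAut [Fact p.Prime] [Finite S] (hQ : Q ≤ S) : IsPGroup p (opAut F p Q) := by
  haveI := finite_of_le hQ
  exact (CfsgLib.PLocal.isPGroup_pCore p _).map _

theorem centralizerIn_le_hat : centralizerIn S Q ≤ hat F p Q := by
  rw [← kNormalizer_bot]
  intro g hg
  obtain ⟨hgS, α, hα, h⟩ := mem_kNormalizer.1 hg
  exact mem_kNormalizer.2 ⟨hgS, α, (bot_le : ⊥ ≤ opAut F p Q) hα, h⟩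

theorem le_hat [Fact p.Prime] [Finite S] (hS : IsPGroup p S) (hQ : Q ≤ S) : Q ≤ hat F p Q := by
  intro q hq
  haveI := finite_of_le hQ
  haveI : ((Inn Q).subgroupOf (F.autGroup Q)).Normal := (Inn_normal Q).subgroupOf _
  have hI : Q.normalizerMonoidHom ⟨q, Subgroup.le_normalizer hq⟩ ∈ Inn Q :=
    ⟨⟨q, hq⟩, MulEquiv.ext fun _ => rfl⟩
  refine mem_kNormalizer.2 ⟨hQ hq, _, ⟨⟨_, Inn_le_autGroup hQ hI⟩,
    CfsgLib.PLocal.le_pCore (N := (Inn Q).subgroupOf (F.autGroup Q)) ?_ hI, rfl⟩, fun _ => rfl⟩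
  rw [Inn_eq]
  exact (isPGroup_autInducedBy (hS.to_le hQ) Q).comap_subtype

theorem conj_mem_hat (hQ : Q ≤ S) {g x : Ω} (hg : g ∈ normalizerIn S Q) (hx : x ∈ hat F p Q) :
    g * x * g⁻¹ ∈ hat F p Q := by
  obtain ⟨hxS, k, hk, hkx⟩ := mem_kNormalizer.1 hx
  let c : MulAut Q := Q.normalizerMonoidHom ⟨g, hg.2⟩
  have hc : c ∈ F.autGroup Q :=
    autInducedBy_le_autGroup hQ (mem_autInducedBy_iff.2 ⟨g, hg.1, hg.2, fun _ => rfl⟩)
  refine mem_kNormalizer.2 ⟨S.mul_mem (S.mul_mem hg.1 hxS) (S.inv_mem hg.1), c * k * c⁻¹,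
    conj_mem_opAut hc hk, fun q => ?_⟩
  obtain ⟨r, rfl⟩ := c.surjective q
  show (c (k (c⁻¹ (c r))) : Ω) = _
  rw [MulAut.inv_apply_self]
  show g * (k r : Ω) * g⁻¹ = g * x * g⁻¹ * (g * (r : Ω) * g⁻¹) * (g * x * g⁻¹)⁻¹
  rw [hkx]
  group

theorem hat_le_normalizerIn : hat F p Q ≤ normalizerIn S Q := kNormalizer_le_normalizerIn _

/-- A map on a subgroup containing `Q` inducing an automorphism of `Q` maps into `hat F p Q`. -/
theorem apply_mem_hat (hQ : Q ≤ S) {ψ : W →* Ω} (hψ : ψ ∈ F.Hom W) (hQW : Q ≤ W) {a : MulAut Q}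
    (ha : a ∈ F.autGroup Q) (hagree : ∀ q : Q, ψ ⟨q, hQW q.2⟩ = (a q : Ω)) {x : W}
    (hx : (x : Ω) ∈ hat F p Q) : ψ x ∈ hat F p Q := by
  obtain ⟨-, k, hk, hkx⟩ := mem_kNormalizer.1 hx
  refine mem_kNormalizer.2 ⟨apply_mem hψ x, a * k * a⁻¹, conj_mem_opAut ha hk, fun q => ?_⟩
  obtain ⟨r, rfl⟩ := a.surjective q
  show (a (k (a⁻¹ (a r))) : Ω) = _
  rw [MulAut.inv_apply_self, ← hagree, ← hagree, ← map_inv, ← map_mul, ← map_mul]
  exact congrArg ψ (Subtype.ext (hkx r))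

section ext

variable [Finite S] [Fact p.Prime]

/-- The automorphisms of `Q` extending to `hat F p Q`. -/
def extSubgroup (F : FusionSystem S) (hS : IsPGroup p S) (hQ : Q ≤ S) : Subgroup (MulAut Q) :=
  have := finite_of_le hQ
  have hmul : ∀ a b : MulAut Q,
      a ∈ {a | a ∈ F.autGroup Q ∧ ∃ ψ ∈ F.Hom (hat F p Q),
        ∀ q : Q, ψ ⟨q, le_hat hS hQ q.2⟩ = (a q : Ω)} →
      b ∈ {a | a ∈ F.autGroup Q ∧ ∃ ψ ∈ F.Hom (hat F p Q),
        ∀ q : Q, ψ ⟨q, le_hat hS hQ q.2⟩ = (a q : Ω)} →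
      a * b ∈ {a | a ∈ F.autGroup Q ∧ ∃ ψ ∈ F.Hom (hat F p Q),
        ∀ q : Q, ψ ⟨q, le_hat hS hQ q.2⟩ = (a q : Ω)} := fun a b ⟨ha, ψ, hψ, hψv⟩ ⟨hb, χ, hχ, hχv⟩ =>
    ⟨mul_mem ha hb, _, F.comp_mem hχ hψ (fun x => apply_mem_hat hQ hχ (le_hat hS hQ) hb hχv x.2),
      fun q => by
        show ψ ⟨χ ⟨q, _⟩, _⟩ = (a (b q) : Ω)
        rw [← hψv]
        exact congrArg ψ (Subtype.ext (hχv q))⟩
  { carrier := {a | a ∈ F.autGroup Q ∧ ∃ ψ ∈ F.Hom (hat F p Q),
      ∀ q : Q, ψ ⟨q, le_hat hS hQ q.2⟩ = (a q : Ω)}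
    one_mem' := ⟨one_mem _, _, subtype_mem (kNormalizer_le _), fun _ => rfl⟩
    mul_mem' := fun ha hb => hmul _ _ ha hb
    inv_mem' := fun {a} ha => by
      have hpow : ∀ n : ℕ, a ^ n ∈ {a | a ∈ F.autGroup Q ∧ ∃ ψ ∈ F.Hom (hat F p Q),
          ∀ q : Q, ψ ⟨q, le_hat hS hQ q.2⟩ = (a q : Ω)} := by
        intro n
        induction n with
        | zero => rw [pow_zero]; exact ⟨one_mem _, _, subtype_mem (kNormalizer_le _), fun _ => rfl⟩
        | succ n ih => rw [pow_succ]; exact hmul _ _ ih ha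
      have e : a⁻¹ = a ^ (orderOf a - 1) := inv_eq_of_mul_eq_one_right (by
        rw [← pow_succ', Nat.sub_add_cancel (orderOf_pos a), pow_orderOf_eq_one])
      rw [e]
      exact hpow _ }

theorem exists_induced {θ : W →* Ω} (hθ : θ ∈ F.Hom W) (hQW : Q ≤ W) (hWN : W ≤ normalizerIn S Q)
    {χ : normalizerIn S (imgHom θ Q) →* Ω} (hχ : χ ∈ F.Hom (normalizerIn S (imgHom θ Q)))
    (hχQ : imgHom χ (imgHom θ Q) = Q) :
    ∃ ξ ∈ F.Hom W, ∃ a : MulAut Q, a ∈ F.autGroup Q ∧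
      (∀ q : Q, ξ ⟨q, hQW q.2⟩ = (a q : Ω)) ∧
      ∀ q : Q, (a q : Ω) = χ ⟨θ ⟨q, hQW q.2⟩, apply_mem_normalizerIn hθ hQW hWN _⟩ := by
  have h := fun x => apply_mem_normalizerIn (R := Q) hθ hQW hWN x
  have hξ := F.comp_mem hθ hχ h
  obtain ⟨a, ha, hav⟩ := exists_iso (restrict_mem hξ hQW)
    ((range_restrictHom _ hQW).trans ((imgHom_comp θ χ h Q).trans hχQ))
  exact ⟨_, hξ, a, ha.mem_autGroup, fun q => (hav q).symm, fun q => hav q⟩

variable (hS : IsPGroup p S)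
variable (hbig : ∀ W : Subgroup Ω, W ≤ S → Nat.card P < Nat.card W → SatClass F p W)
include hS hbig

/-- An automorphism of `Q` extending to a larger subgroup extends to `hat F p Q`. -/
theorem mem_extSubgroup_of_larger (hPQ : F.IsConj P Q) (hQn : F.IsFullyNormalized Q)
    (htop : ∀ R, F.IsConj P R → To F R Q) :
    ∀ (d : ℕ) (W : Subgroup Ω) (β : W →* Ω) (a : MulAut Q), Nat.card S ≤ Nat.card W + d →
      β ∈ F.Hom W → ∀ hQW : Q < W, W ≤ normalizerIn S Q →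
      (∀ q : Q, β ⟨q, hQW.le q.2⟩ = (a q : Ω)) → a ∈ extSubgroup F hS hQn.1 := by
  intro d
  induction d using Nat.strong_induction_on with
  | _ d ih =>
  intro W β a hd hβ hQW hWN hagree
  have hQS := hQn.1
  have hWS : W ≤ S := le_left hβ
  haveI := finite_of_le hQS
  have ha : a ∈ F.autGroup Q :=
    (mem_autGroup_iff hQS).2 (mem_of_agree hβ hQW.le fun q => (hagree q).symm)
  by_cases hhat : hat F p Q ≤ W
  · exact ⟨ha, restrictHom β hhat, restrict_mem hβ hhat, fun q => hagree q⟩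
  have himgQ : imgHom β Q = Q :=
    imgHom_eq_of_agree (e := a) hQW.le fun q _ => hagree q
  have hW'N : β.range ≤ normalizerIn S Q := by
    have h := range_le_normalizerIn hβ hQW.le hWN
    rwa [himgQ] at h
  obtain ⟨e, he, hev⟩ := exists_iso_range hβ
  haveI := finite_of_le hWS
  haveI := finite_of_le (normalizerIn_le S Q)
  have hNp : IsPGroup p (normalizerIn S Q) := hS.to_le (normalizerIn_le S Q)
  obtain ⟨M, hM⟩ : ∃ M, M = normalizerIn (normalizerIn S Q) W := ⟨_, rfl⟩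
  obtain ⟨M', hM'⟩ : ∃ M', M' = normalizerIn (normalizerIn S Q) β.range := ⟨_, rfl⟩
  have hlt : W < W ⊔ hat F p Q :=
    lt_of_le_of_ne le_sup_left fun h => hhat (h ▸ le_sup_right)
  have hsupN : W ⊔ hat F p Q ≤ normalizerIn S Q := sup_le hWN hat_le_normalizerIn
  have hWK : W < normalizerIn S Q := lt_of_lt_of_le hlt hsupN
  have hWK' : β.range < normalizerIn S Q := by
    refine lt_of_le_of_ne hW'N fun h => ?_
    have h1 := card_lt_of_lt hWK (normalizerIn_le S Q)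
    rw [he.card_eq, h] at h1
    exact lt_irrefl _ h1
  have hWM : W < M := hM ▸ lt_normalizerIn hNp hWK
  have hWM' : β.range < M' := hM' ▸ lt_normalizerIn hNp hWK'
  have hMN : M ≤ normalizerIn S Q := hM ▸ normalizerIn_le _ W
  have hM'N : M' ≤ normalizerIn S Q := hM' ▸ normalizerIn_le _ _
  have hMW : M ≤ normalizerIn S W := fun g hg => ⟨(hMN hg).1, (hM ▸ hg : _).2⟩
  have hMW' : M' ≤ normalizerIn S β.range := fun g hg => ⟨(hM'N hg).1, (hM' ▸ hg : _).2⟩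
  -- an element of `hat` normalizing `W`
  obtain ⟨x, hx, hxW, hxN⟩ : ∃ x ∈ hat F p Q, x ∉ W ∧ x ∈ normalizerIn S W := by
    haveI := finite_of_le (hsupN.trans (normalizerIn_le S Q))
    obtain ⟨m, hm, hmW⟩ := SetLike.exists_of_lt
      (lt_normalizerIn (p := p) (hS.to_le (hsupN.trans (normalizerIn_le S Q))) hlt)
    have hWn : W ≤ Subgroup.normalizer (hat F p Q : Set Ω) := fun w hw => by
      rw [Subgroup.mem_normalizer_iff]
      refine fun y => ⟨conj_mem_hat hQS (hWN hw), fun h => ?_⟩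
      have := conj_mem_hat hQS (Subgroup.inv_mem _ (hWN hw)) h
      simpa [mul_assoc] using this
    have hmem : m ∈ ((W ⊔ hat F p Q : Subgroup Ω) : Set Ω) := hm.1
    rw [Subgroup.coe_mul_of_left_le_normalizer_right _ _ hWn] at hmem
    obtain ⟨w, hw, y, hy, rfl⟩ := hmem
    refine ⟨y, hy, fun h => hmW (W.mul_mem hw h), (kNormalizer_le _ hy), ?_⟩
    have := Subgroup.mul_mem _ (Subgroup.inv_mem _ (Subgroup.le_normalizer hw)) hm.2
    simpa using this
  -- the Sylow subgroup of the stabilizer, and its part acting inside `O_p`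
  obtain ⟨Sig, hSigA, hAutM, hSigp, hSig⟩ := exists_sylowIn_ge
    (autInducedBy_le_stab (F := F) hQW.le hWS hMN)
    (isPGroup_autInducedBy (hS.to_le (hMN.trans (normalizerIn_le S Q))) W)
  let KW : Subgroup (MulAut W) :=
    ((opAut F p Q).comap (res F hQW.le)).map (stab F W Q).subtype
  have hKW : KW ≤ stab F W Q := Subgroup.map_subtype_le _
  have hKn : stab F W Q ≤ Subgroup.normalizer (KW : Set (MulAut W)) := by
    intro g hg
    rw [Subgroup.mem_normalizer_iff]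
    have h1 : ∀ g ∈ stab F W Q, ∀ k ∈ KW, g * k * g⁻¹ ∈ KW := by
      rintro g hg _ ⟨k, hk, rfl⟩
      refine ⟨⟨g, hg⟩ * k * ⟨g, hg⟩⁻¹, ?_, rfl⟩
      show res F hQW.le (⟨g, hg⟩ * k * ⟨g, hg⟩⁻¹) ∈ opAut F p Q
      rw [map_mul, map_mul, map_inv]
      exact conj_mem_opAut (res_mem hQW.le hWS _) hk
    refine fun k => ⟨h1 g hg k, fun h => ?_⟩
    have := h1 g⁻¹ (Subgroup.inv_mem _ hg) _ h
    simpa [mul_assoc] using this
  have hSigK : IsSylowIn p KW (Sig ⊓ KW) := hSig.inf_normal hSigA hKW hKn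
  obtain ⟨V, θ, hθ, hVr, hθc⟩ := exists_iso_sylow
    (hbig W hWS (lt_of_eq_of_lt (card_eq_of_isConj hPQ) (card_lt_of_lt hQW hWS)))
    (fun k hk => (hSigA hk).1) hSigp
  obtain ⟨R₁, hR₁⟩ : ∃ R₁, R₁ = imgHom (V.subtype.comp θ.toMonoidHom) Q := ⟨_, rfl⟩
  have hPR₁ : F.IsConj P R₁ := isConj_trans hPQ (hR₁ ▸ isConj_restrict hθ hQW.le)
  obtain ⟨χ, hχ, hχQ⟩ := htop R₁ hPR₁
  have hθQ : ∀ q : Q, (θ ⟨q, hQW.le q.2⟩ : Ω) ∈ normalizerIn S R₁ := fun q => by
    rw [hR₁]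
    exact apply_mem_normalizerIn hθ hQW.le hWN ⟨q, hQW.le q.2⟩
  -- maps on larger subgroups, followed by `χ`
  have key : ∀ (U : Subgroup Ω) (φ : U →* Ω), φ ∈ F.Hom U → ∀ hQU : Q < U,
      U ≤ normalizerIn S Q → Nat.card W < Nat.card U → ∀ (n : Q → Q), Function.Surjective n →
      (∀ q : Q, φ ⟨q, hQU.le q.2⟩ = (θ ⟨n q, hQW.le (n q).2⟩ : Ω)) →
      ∃ b ∈ extSubgroup F hS hQS, ∀ q : Q, (b q : Ω) = χ ⟨_, hθQ (n q)⟩ := by
    intro U φ hφ hQU hUN hcard n hn hv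
    have him : imgHom φ Q = R₁ := by
      rw [hR₁]
      ext z
      constructor
      · rintro ⟨⟨y, hyU⟩, hy, rfl⟩
        exact ⟨⟨n ⟨y, hy⟩, hQW.le (n ⟨y, hy⟩).2⟩, (n ⟨y, hy⟩).2, (hv ⟨y, hy⟩).symm⟩
      · rintro ⟨⟨y, hyW⟩, hy, rfl⟩
        obtain ⟨q, hq⟩ := hn ⟨y, hy⟩
        refine ⟨⟨q, hQU.le q.2⟩, q.2, (hv q).trans ?_⟩
        show (θ _ : Ω) = (θ ⟨y, hyW⟩ : Ω)
        exact congrArg (fun w => (θ w : Ω)) (Subtype.ext (congrArg Subtype.val hq :))
    subst him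
    obtain ⟨ξ, hξ, b, hb, hξb, hbv⟩ := exists_induced hφ hQU.le hUN hχ hχQ
    have hcU : Nat.card U ≤ Nat.card S :=
      Nat.card_le_card_of_injective _ (Subgroup.inclusion_injective (le_left hφ))
    refine ⟨b, ih (Nat.card S - Nat.card U) (by omega) U ξ b (by omega) hξ hQU hUN hξb, fun q => ?_⟩
    rw [hbv]
    exact congrArg χ (Subtype.ext (hv q))
  have hcM : Nat.card W < Nat.card M := card_lt_of_lt hWM (hMN.trans (normalizerIn_le S Q))
  obtain ⟨φ₁, hφ₁, hφ₁v⟩ := exists_extension (T := M) hVr hθ fun g hg =>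
    mem_extender_of_congr (hMW hg) (α := W.normalizerMonoidHom ⟨g, (hMW hg).2⟩) (fun _ => rfl)
      (hθc _ (hAutM (mem_autInducedBy_iff.2 ⟨g, hg, (hMW hg).2, fun _ => rfl⟩)))
  obtain ⟨b₁, hb₁, hb₁v⟩ := key M φ₁ hφ₁ (hQW.trans hWM) hMN hcM id Function.surjective_id
    fun q => hφ₁v ⟨q, hQW.le q.2⟩ _
  -- elements of the stabilizer normalizing the Sylow subgroup of `KW`
  have hnorm : ∀ n : stab F W Q, (∀ k ∈ Sig ⊓ KW, (n : MulAut W) * k * (n : MulAut W)⁻¹ ∈ Sig) →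
      res F hQW.le n ∈ extSubgroup F hS hQS := by
    intro n hn
    have hn' : IsIso F (n : MulAut W) := (mem_autGroup_iff hWS).1 n.2.1
    have hxM : x ∈ M := hM ▸ ⟨hat_le_normalizerIn hx, hxN.2⟩
    have hxK : W.normalizerMonoidHom ⟨x, hxN.2⟩ ∈ Sig ⊓ KW := by
      have hA : W.normalizerMonoidHom ⟨x, hxN.2⟩ ∈ autInducedBy M W :=
        mem_autInducedBy_iff.2 ⟨x, hxM, hxN.2, fun _ => rfl⟩
      refine ⟨hAutM hA, ⟨⟨_, autInducedBy_le_stab (F := F) hQW.le hWS hMN hA⟩, ?_, rfl⟩⟩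
      obtain ⟨-, k, hk, hkx⟩ := mem_kNormalizer.1 hx
      show res F hQW.le ⟨_, _⟩ ∈ opAut F p Q
      convert hk
      exact MulEquiv.ext fun q => Subtype.ext (hkx q).symm
    obtain ⟨φ, hφ, hφv⟩ := exists_extension (T := W ⊔ Subgroup.zpowers x) hVr (hn'.trans hθ)
      (sup_le (le_extender hWS (F.le_of_mem (hn'.trans hθ)).2) (Subgroup.zpowers_le.2
        (mem_extender_of_congr hxN (α := W.normalizerMonoidHom ⟨x, hxN.2⟩) (fun _ => rfl) (by
          rw [congr_trans, congr_self_eq]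
          exact hθc _ (hn _ hxK)))))
    have hUN : W ⊔ Subgroup.zpowers x ≤ normalizerIn S Q :=
      sup_le hWN (Subgroup.zpowers_le.2 (hat_le_normalizerIn hx))
    have hWU : W < W ⊔ Subgroup.zpowers x := lt_of_le_of_ne le_sup_left fun h =>
      hxW (h ▸ Subgroup.mem_sup_right (Subgroup.mem_zpowers x))
    obtain ⟨b, hb, hbv⟩ := key _ φ hφ (hQW.trans hWU) hUN
      (card_lt_of_lt hWU (le_left hφ)) (res F hQW.le n) (res F hQW.le n).surjective
      fun q => hφv ⟨q, hQW.le q.2⟩ _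
    have heq : b = b₁ * res F hQW.le n :=
      MulEquiv.ext fun q => Subtype.ext ((hbv q).trans (hb₁v (res F hQW.le n q)).symm)
    have h2 := mul_mem (Subgroup.inv_mem _ hb₁) hb
    rwa [heq, inv_mul_cancel_left] at h2
  have hA : ∀ g : stab F W Q, res F hQW.le g ∈ extSubgroup F hS hQS := by
    intro g
    obtain ⟨k, hk, hkc⟩ := hSigK.exists_conj
      (X := (Sig ⊓ KW).map (MulAut.conj (g : MulAut W)).toMonoidHom)
      (by
        rintro _ ⟨y, hy, rfl⟩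
        exact (Subgroup.mem_normalizer_iff.1 (hKn g.2) y).1 hy.2)
      (((hSigp.to_le inf_le_left)).map _)
    obtain ⟨k', hk', rfl⟩ := id hk
    have h1 : res F hQW.le (k' * g) ∈ extSubgroup F hS hQS := hnorm (k' * g) fun y hy => by
      have := (hkc _ ⟨y, hy, rfl⟩).1
      simpa [mul_assoc] using this
    -- on `Q` every element of `KW` is an element of its Sylow subgroup
    have h2 : res F hQW.le k' ∈ extSubgroup F hS hQS := by
      let f : KW →* MulAut Q := (res F hQW.le).comp (Subgroup.inclusion hKW)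
      have hfp : IsPGroup p f.range := by
        refine (isPGroup_opAut (F := F) hQS).to_le ?_
        rintro _ ⟨⟨_, y, hy, rfl⟩, rfl⟩
        exact hy
      have hSyl := hSigK.map_hom f
      have htop' : ((Sig ⊓ KW).subgroupOf KW).map f = f.range := by
        haveI : Finite f.range := Finite.of_surjective _ f.rangeRestrict_surjective
        exact Subgroup.eq_of_le_of_card_ge (Subgroup.map_le_range f _)
          (hSyl.card_le (Subgroup.map_le_range f _) le_rfl hfp)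
      have hkf : res F hQW.le k' ∈ f.range := ⟨⟨_, k', hk', rfl⟩, rfl⟩
      rw [← htop'] at hkf
      obtain ⟨⟨y, hyK⟩, hy, hy'⟩ := hkf
      have hyA : y ∈ stab F W Q := hKW hyK
      have h3 : res F hQW.le ⟨y, hyA⟩ ∈ extSubgroup F hS hQS := hnorm ⟨y, hyA⟩ fun z hz =>
        Sig.mul_mem (Sig.mul_mem hy.1 hz.1) (Sig.inv_mem hy.1)
      rw [← hy']
      exact h3
    have := mul_mem (Subgroup.inv_mem _ h2) h1
    rwa [map_mul, inv_mul_cancel_left] at this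
  -- the given map
  have heQ : ∀ w : W, (e w : Ω) ∈ Q ↔ (w : Ω) ∈ Q := fun w => by
    rw [hev]
    conv_lhs => rw [← himgQ]
    exact mem_imgHom_apply_iff (F.injective_of_mem hβ)
  have heQ' : ∀ y : β.range, (e.symm y : Ω) ∈ Q ↔ (y : Ω) ∈ Q := fun y => by
    rw [← heQ, MulEquiv.apply_symm_apply]
  have hQr : Q ≤ β.range := himgQ ▸ imgHom_le_range β Q
  have hle' : (autInducedBy M' β.range).map (MulAut.congr e.symm).toMonoidHom ≤ stab F W Q := by
    rintro _ ⟨c, hc, rfl⟩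
    exact congr_mem_stab he.le_right he.symm heQ'
      (autInducedBy_le_stab (F := F) hQr he.le_right hM'N hc)
  obtain ⟨γ, hγ, hγc⟩ := hSig.exists_conj hle'
    ((isPGroup_autInducedBy (hS.to_le (hM'N.trans (normalizerIn_le S Q))) _).map _)
  have hγiso : IsIso F γ := (mem_autGroup_iff hWS).1 hγ.1
  obtain ⟨φ₂, hφ₂, hφ₂v⟩ := exists_extension (T := M') hVr
    ((he.symm.trans hγiso).trans hθ) fun g hg =>
    mem_extender_of_congr (hMW' hg) (α := β.range.normalizerMonoidHom ⟨g, (hMW' hg).2⟩)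
      (fun _ => rfl) (by
      rw [congr_trans, congr_trans, congr_self_eq]
      exact hθc _ (hγc _ ⟨_, mem_autInducedBy_iff.2 ⟨g, hg, (hMW' hg).2, fun _ => rfl⟩, rfl⟩))
  have hQM' : Q < M' := lt_of_le_of_lt hQr hWM'
  have hcM' : Nat.card W < Nat.card M' :=
    lt_of_eq_of_lt he.card_eq (card_lt_of_lt hWM' (hM'N.trans (normalizerIn_le S Q)))
  let g' : MulAut Q := res F hQW.le ⟨γ, hγ⟩ * a⁻¹
  have hainv : ∀ q : Q, (e.symm ⟨q, hQr q.2⟩ : Ω) = (a⁻¹ q : Ω) := by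
    intro q
    have h1 : e ⟨(a⁻¹ q : Q), hQW.le (a⁻¹ q).2⟩ = ⟨q, hQr q.2⟩ := by
      refine Subtype.ext ?_
      rw [hev, hagree, MulAut.apply_inv_self]
    rw [← h1, e.symm_apply_apply]
  obtain ⟨b₂, hb₂, hb₂v⟩ := key M' φ₂ hφ₂ hQM' hM'N hcM' g' g'.surjective fun q => by
    refine (hφ₂v ⟨q, hQr q.2⟩ _).trans ?_
    show (θ (γ (e.symm ⟨q, hQr q.2⟩)) : Ω) = _
    refine congrArg (fun w => (θ w : Ω)) (Subtype.ext ?_)
    show (γ (e.symm ⟨q, hQr q.2⟩) : Ω) = (γ ⟨(a⁻¹ q : Q), _⟩ : Ω)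
    exact congrArg (fun w => (γ w : Ω)) (Subtype.ext (hainv q))
  have heq : b₂ = b₁ * g' :=
    MulEquiv.ext fun q => Subtype.ext ((hb₂v q).trans (hb₁v (g' q)).symm)
  have h3 : g' ∈ extSubgroup F hS hQS := by
    have h2 := mul_mem (Subgroup.inv_mem _ hb₁) hb₂
    rwa [heq, inv_mul_cancel_left] at h2
  have h4 := mul_mem (Subgroup.inv_mem _ h3) (hA ⟨γ, hγ⟩)
  rwa [show g'⁻¹ * res F hQW.le ⟨γ, hγ⟩ = a by simp [g']] at h4

/-- Every automorphism of `Q` extends to `hat F p Q`. -/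
theorem mem_extSubgroup (hne : Nat.card P < Nat.card S)
    (hgen : ∀ E : FusionSystem S,
      (∀ X : Subgroup Ω, ¬ F.IsConj P X → F.Hom X ⊆ E.Hom X) → F ≤ E)
    (hPQ : F.IsConj P Q) (hQn : F.IsFullyNormalized Q) {α : MulAut Q} (hα : α ∈ F.autGroup Q) :
    α ∈ extSubgroup F hS hQn.1 := by
  have htop : ∀ R, F.IsConj P R → To F R Q := fun R hR => To.top hS hbig hne hgen hPQ hQn hR
  let G := extSubgroup F hS hQn.1
  have hstep : ∀ {X : Subgroup Ω} {φ : X →* Ω}, φ ∈ F.Hom X → ∀ (Y : Subgroup Ω) (hYX : Y < X),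
      F.IsConj P Y → ∀ u ∈ F.Hom (normalizerIn S Y), imgHom u Y = Q →
      ∀ v ∈ F.Hom (normalizerIn S (imgHom φ Y)), imgHom v (imgHom φ Y) = Q → ∀ a : MulAut Q,
      (∀ (y : Ω) (hy : y ∈ Y) (h1 : y ∈ normalizerIn S Y) (h2 : u ⟨y, h1⟩ ∈ Q)
        (h3 : φ ⟨y, hYX.le hy⟩ ∈ normalizerIn S (imgHom φ Y)),
        (a ⟨u ⟨y, h1⟩, h2⟩ : Ω) = v ⟨φ ⟨y, hYX.le hy⟩, h3⟩) → a ∈ G := by
    intro X φ hφ Y hYX hPY u hu huQ v hv hvQ a ha
    haveI := finite_of_le (le_left hφ)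
    obtain ⟨N, hN⟩ : ∃ N, N = normalizerIn X Y := ⟨_, rfl⟩
    have hYN : Y < N := hN ▸ lt_normalizerIn (hS.to_le (le_left hφ)) hYX
    have hNX : N ≤ X := hN ▸ normalizerIn_le X Y
    have hNN : N ≤ normalizerIn S Y := fun g hg => ⟨le_left hφ (hNX hg), (hN ▸ hg : _).2⟩
    -- `ξ := v φ u⁻¹` on `u(N)`
    obtain ⟨e, he, hev⟩ := exists_iso_restrict hu hNN
    let χ : N →* normalizerIn S (imgHom φ Y) :=
      (restrictHom φ hNX).codRestrict _ fun x => by
        have := apply_mem_normalizerIn (R := Y) (restrict_mem hφ hNX) hYN.le hNN x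
        rwa [show imgHom (restrictHom φ hNX) Y = imgHom φ Y from
          imgHom_congr hYN.le hYX.le fun _ _ => rfl] at this
    let ξ : imgHom u N →* Ω := (v.comp χ).comp e.symm.toMonoidHom
    have hξ : ξ ∈ F.Hom (imgHom u N) :=
      mem_of_comp (mem_of_comp he.symm (restrict_mem hφ hNX) (fun y => (e.symm y).2)
        (χ := (restrictHom φ hNX).comp e.symm.toMonoidHom) fun _ => rfl) hv
        (fun y => (χ (e.symm y)).2) fun _ => rfl
    have hQle : Q ≤ imgHom u N := huQ ▸ imgHom_mono u hYN.le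
    have hQlt : Q < imgHom u N := by
      refine lt_of_le_of_ne hQle fun h => ?_
      have h1 : Nat.card Q = Nat.card N := by
        rw [h, card_imgHom (F.injective_of_mem hu) hNN]
      have h2 := card_lt_of_lt hYN (hNN.trans (normalizerIn_le S Y))
      have h3 := card_eq_of_isConj hPY
      have h4 := card_eq_of_isConj hPQ
      omega
    have hQN : imgHom u N ≤ normalizerIn S Q := by
      rintro _ ⟨x, -, rfl⟩
      exact huQ ▸ apply_mem_normalizerIn hu (le_normalizerIn (le_of_isConj_right hPY)) le_rfl x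
    refine mem_extSubgroup_of_larger hS hbig hPQ hQn htop (Nat.card S) _ ξ a (Nat.le_add_left _ _)
      hξ hQlt hQN fun q => ?_
    obtain ⟨⟨y, hy1⟩, hyY, hyq⟩ : (q : Ω) ∈ imgHom u Y := by
      rw [huQ]
      exact q.2
    have hyN : y ∈ N := hYN.le hyY
    have he1 : e.symm ⟨q, hQle q.2⟩ = ⟨y, hyN⟩ :=
      (MulEquiv.symm_apply_eq e).2 (Subtype.ext (hyq.symm.trans (hev ⟨y, hyN⟩).symm))
    have h1 := ha y hyY hy1 (hyq ▸ q.2) (χ ⟨y, hyN⟩).2
    rw [show (⟨u ⟨y, hy1⟩, hyq ▸ q.2⟩ : Q) = q from Subtype.ext hyq] at h1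
    show v (χ (e.symm ⟨q, hQle q.2⟩)) = _
    rw [he1, h1]
    rfl
  let D : FusionSystem S :=
    { Hom := fun X => {φ | φ ∈ F.Hom X ∧ ∀ (Y : Subgroup Ω) (hYX : Y ≤ X), F.IsConj P Y →
        ∀ u ∈ F.Hom (normalizerIn S Y), imgHom u Y = Q →
        ∀ v ∈ F.Hom (normalizerIn S (imgHom φ Y)), imgHom v (imgHom φ Y) = Q → ∀ a : MulAut Q,
        (∀ (y : Ω) (hy : y ∈ Y) (h1 : y ∈ normalizerIn S Y) (h2 : u ⟨y, h1⟩ ∈ Q)
          (h3 : φ ⟨y, hYX hy⟩ ∈ normalizerIn S (imgHom φ Y)),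
          (a ⟨u ⟨y, h1⟩, h2⟩ : Ω) = v ⟨φ ⟨y, hYX hy⟩, h3⟩) → a ∈ G}
      le_of_mem := fun h => F.le_of_mem h.1
      injective_of_mem := fun h => F.injective_of_mem h.1
      conj_mem := fun {X g} hX hg => ⟨F.conj_mem hX hg, fun Y hYX hPY u hu huQ v hv hvQ a ha => by
        have hYS := hYX.trans hX
        have hlt : Y < normalizerIn S Y := lt_normalizerIn hS (lt_of_le_of_ne hYS fun h => by
          have := card_eq_of_isConj hPY
          rw [h] at this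
          omega)
        have heq : imgHom (conjHom (normalizerIn S Y) g) Y = imgHom (conjHom X g) Y :=
          imgHom_congr hlt.le hYX fun _ _ => rfl
        have hs := hstep (F.conj_mem (normalizerIn_le S Y) hg) Y hlt hPY u hu huQ
        rw [heq] at hs
        exact hs v hv hvQ a fun y hy h1 h2 h3 => ha y hy h1 h2 h3⟩
      comp_mem := fun {X Z φ ψ} hφ hψ h => ⟨F.comp_mem hφ.1 hψ.1 h,
        fun Y hYX hPY u hu huQ => by
        rw [imgHom_comp]
        intro v hv hvQ a ha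
        have hle : imgHom φ Y ≤ Z := by
          rintro _ ⟨x, -, rfl⟩
          exact h x
        have hPY' : F.IsConj P (imgHom φ Y) := isConj_trans hPY (isConj_restrict hφ.1 hYX)
        obtain ⟨w, hw, hwQ⟩ := htop _ hPY'
        -- the automorphism induced by `φ`
        obtain ⟨eY, heY, heYv⟩ := exists_iso (restrict_mem hu (le_normalizerIn (le_left hφ.1 |> hYX.trans)))
          ((range_restrictHom u _).trans huQ)
        obtain ⟨eφ, heφ, heφv⟩ := exists_iso_restrict hφ.1 hYX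
        obtain ⟨eW, heW, heWv⟩ := exists_iso
          (restrict_mem hw (le_normalizerIn (le_of_isConj_right hPY')))
          ((range_restrictHom w _).trans hwQ)
        let a₁ : MulAut Q := (eY.symm.trans eφ).trans eW
        have ha₁ : a₁ ∈ G := hφ.2 Y hYX hPY u hu huQ w hw hwQ a₁ fun y hy h1 h2 h3 => by
          show (eW (eφ (eY.symm ⟨u ⟨y, h1⟩, h2⟩)) : Ω) = _
          rw [show eY.symm ⟨u ⟨y, h1⟩, h2⟩ = ⟨y, hy⟩ from
            (MulEquiv.symm_apply_eq eY).2 (Subtype.ext (heYv ⟨y, hy⟩).symm), heWv]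
          exact congrArg w (Subtype.ext (heφv ⟨y, hy⟩))
        have ha₂ : a * a₁⁻¹ ∈ G := hψ.2 _ hle hPY' w hw hwQ v hv hvQ _ fun z hz h1 h2 h3 => by
          obtain ⟨y, hy⟩ := eφ.surjective ⟨z, hz⟩
          have hz' : z = φ ⟨y, hYX y.2⟩ :=
            (congrArg Subtype.val hy).symm.trans (heφv y)
          have h4 : (⟨w ⟨z, h1⟩, h2⟩ : Q) = a₁ (eY y) := by
            refine Subtype.ext ?_
            show w ⟨z, h1⟩ = (eW (eφ (eY.symm (eY y))) : Ω)
            rw [eY.symm_apply_apply, heWv, hy]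
            rfl
          have hyN : (y : Ω) ∈ normalizerIn S Y := le_normalizerIn (hYX.trans (le_left hφ.1)) y.2
          have h3' : (ψ.comp (φ.codRestrict Z h)) ⟨y, hYX y.2⟩ ∈
              normalizerIn S (imgHom ψ (imgHom φ Y)) := by
            have e : (⟨z, hle hz⟩ : Z) = ⟨φ ⟨y, hYX y.2⟩, h _⟩ := Subtype.ext hz'
            show ψ ⟨φ ⟨y, hYX y.2⟩, _⟩ ∈ _
            exact e ▸ h3
          have h5 := ha y y.2 hyN (heYv y ▸ (eY y).2) h3'
          rw [h4, MulAut.mul_apply, MulAut.inv_apply_self]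
          rw [show (⟨u ⟨y, hyN⟩, heYv y ▸ (eY y).2⟩ : Q) = eY y from Subtype.ext (heYv y).symm] at h5
          refine h5.trans (congrArg v (Subtype.ext ?_))
          exact congrArg ψ (Subtype.ext hz'.symm)
        have := mul_mem ha₂ ha₁
        rwa [inv_mul_cancel_right] at this⟩
      inv_mem := fun {X φ} hφ => by
        obtain ⟨ψ, hψ, hψv⟩ := F.inv_mem hφ.1
        refine ⟨ψ, ⟨hψ, fun Y hYX hPY u hu huQ => ?_⟩, hψv⟩
        obtain ⟨Y₀, hY₀⟩ : ∃ Y₀, Y₀ = imgHom ψ Y := ⟨_, rfl⟩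
        rw [← hY₀]
        intro v hv hvQ a ha
        have hle : Y₀ ≤ X := by
          rw [hY₀]
          rintro _ ⟨⟨_, x, rfl⟩, -, rfl⟩
          rw [hψv x]
          exact x.2
        have himg : imgHom φ Y₀ = Y := by
          rw [hY₀]
          ext y
          constructor
          · rintro ⟨x, ⟨⟨_, x', rfl⟩, hy', hxx⟩, rfl⟩
            rw [hψv x'] at hxx
            rw [show x = x' from Subtype.ext hxx.symm]
            exact hy'
          · intro hy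
            obtain ⟨x, rfl⟩ := hYX hy
            exact ⟨x, ⟨⟨φ x, x, rfl⟩, hy, hψv x⟩, rfl⟩
        have hPY₀ : F.IsConj P Y₀ := hY₀ ▸ isConj_trans hPY (isConj_restrict hψ hYX)
        have h1 := hφ.2 Y₀ hle hPY₀ v hv hvQ
        subst himg
        have := h1 u hu huQ a⁻¹ fun y hy g1 g2 g3 => ?_
        · simpa using Subgroup.inv_mem G this
        · have hmem : φ ⟨y, hle hy⟩ ∈ imgHom φ Y₀ := ⟨⟨y, hle hy⟩, hy, rfl⟩
          have hu2 : u ⟨φ ⟨y, hle hy⟩, g3⟩ ∈ Q := by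
            have h6 : u ⟨φ ⟨y, hle hy⟩, g3⟩ ∈ imgHom u (imgHom φ Y₀) :=
              apply_mem_imgHom (R := imgHom φ Y₀) u (x := ⟨φ ⟨y, hle hy⟩, g3⟩) hmem
            rwa [huQ] at h6
          have e : ψ ⟨φ ⟨y, hle hy⟩, hYX hmem⟩ = y := hψv ⟨y, hle hy⟩
          have h5 := ha (φ ⟨y, hle hy⟩) hmem g3 hu2 (e.symm ▸ g1)
          have h7 : a ⟨u ⟨φ ⟨y, hle hy⟩, g3⟩, hu2⟩ = ⟨v ⟨y, g1⟩, g2⟩ :=
            Subtype.ext (h5.trans (congrArg v (Subtype.ext e)))
          rw [← h7, MulAut.inv_apply_self] }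
  have hFD : F ≤ D := hgen D fun X hX φ hφ => ⟨hφ, fun Y hYX hPY => by
    have hlt : Y < X := lt_of_le_of_ne hYX fun h => hX (h ▸ hPY)
    exact hstep hφ Y hlt hPY⟩
  have hiso : IsIso F α := (mem_autGroup_iff hQn.1).1 hα
  have himg : imgHom (Q.subtype.comp α.toMonoidHom) Q = Q :=
    imgHom_eq_of_agree (e := α) le_rfl fun _ _ => rfl
  have hid := imgHom_subtype (le_normalizerIn (S := S) hQn.1)
  have hu : (normalizerIn S Q).subtype ∈ F.Hom (normalizerIn S Q) :=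
    subtype_mem (normalizerIn_le S Q)
  have h1 := (hFD Q hiso).2 Q le_rfl hPQ _ hu hid
  rw [himg] at h1
  exact h1 _ hu hid α fun y hy g1 g2 g3 => rfl

/-- A fully normalized member of the class is fully automized and receptive. -/
theorem satClass_step (hne : Nat.card P < Nat.card S)
    (hgen : ∀ E : FusionSystem S,
      (∀ X : Subgroup Ω, ¬ F.IsConj P X → F.Hom X ⊆ E.Hom X) → F ≤ E)
    (hPQ : F.IsConj P Q) (hQn : F.IsFullyNormalized Q) (hlt : Q < hat F p Q) :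
    F.IsFullyAutomized p Q ∧ F.IsReceptive Q := by
  have hQS := hQn.1
  have hWS : hat F p Q ≤ S := kNormalizer_le _
  haveI := finite_of_le hQS
  haveI := finite_of_le hWS
  haveI := finite_of_le (normalizerIn_le S Q)
  obtain ⟨W, hW⟩ : ∃ W, W = hat F p Q := ⟨_, rfl⟩
  rw [← hW] at hlt
  have hWS' : W ≤ S := hW ▸ hWS
  haveI := finite_of_le hWS'
  have hWN : W ≤ normalizerIn S Q := hW ▸ hat_le_normalizerIn
  have hNW : ∀ g ∈ normalizerIn S Q, g ∈ Subgroup.normalizer (W : Set Ω) := fun g hg => by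
    rw [Subgroup.mem_normalizer_iff, hW]
    refine fun y => ⟨conj_mem_hat hQS hg, fun h => ?_⟩
    have := conj_mem_hat hQS (Subgroup.inv_mem _ hg) h
    simpa [mul_assoc] using this
  have hcW : Nat.card P < Nat.card W :=
    lt_of_eq_of_lt (card_eq_of_isConj hPQ) (card_lt_of_lt hlt hWS')
  obtain ⟨Sig, hSigA, hAut, hSigp, hSig⟩ := exists_sylowIn_ge
    (autInducedBy_le_stab (F := F) hlt.le hWS' (le_refl (normalizerIn S Q)))
    (isPGroup_autInducedBy (hS.to_le (normalizerIn_le S Q)) W)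
  obtain ⟨V, θ, hθ, hVr, hθc⟩ := exists_iso_sylow (hbig W hWS' hcW)
    (fun k hk => (hSigA hk).1) hSigp
  obtain ⟨φ₁, hφ₁, hφ₁v⟩ := exists_extension (T := normalizerIn S Q) hVr hθ fun g hg =>
    mem_extender_of_congr ⟨hg.1, hNW g hg⟩ (α := W.normalizerMonoidHom ⟨g, hNW g hg⟩)
      (fun _ => rfl) (hθc _ (hAut (mem_autInducedBy_iff.2 ⟨g, hg, hNW g hg, fun _ => rfl⟩)))
  obtain ⟨R₁, hR₁⟩ : ∃ R₁, R₁ = imgHom φ₁ Q := ⟨_, rfl⟩
  have hQN := le_normalizerIn (S := S) hQS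
  haveI := finite_of_le (normalizerIn_le S R₁)
  have hr₁ : φ₁.range = normalizerIn S R₁ := by
    refine Subgroup.eq_of_le_of_card_ge (hR₁ ▸ range_le_normalizerIn hφ₁ hQN le_rfl) ?_
    rw [← Nat.card_congr (MonoidHom.ofInjective (F.injective_of_mem hφ₁)).toEquiv]
    exact hQn.2 R₁ (hR₁ ▸ isConj_restrict hφ₁ hQN)
  obtain ⟨E₁, hE₁, hE₁v⟩ := exists_iso hφ₁ hr₁
  have hθQ : ∀ w : W, (θ w : Ω) ∈ R₁ ↔ (w : Ω) ∈ Q := fun w => by
    rw [hR₁, ← hφ₁v w (hWN w.2)]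
    exact mem_imgHom_apply_iff (F.injective_of_mem hφ₁) (x := ⟨w, hWN w.2⟩)
  have hSigeq : Sig = autInducedBy (normalizerIn S Q) W := by
    refine le_antisymm (fun s hs => ?_) hAut
    obtain ⟨g, hg, -, hgs⟩ := mem_autInducedBy_iff.1 (hθc s hs)
    have hst := congr_mem_stab hWS' hθ hθQ (hSigA hs)
    have hQθ : R₁ ≤ V := by
      rw [hR₁]
      rintro _ ⟨x, hx, rfl⟩
      exact (hφ₁v ⟨x, hlt.le hx⟩ x.2).symm ▸ (θ _).2
    haveI : Finite R₁ := finite_of_le (hR₁ ▸ imgHom_le hφ₁ Q)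
    have hgR : g ∈ normalizerIn S R₁ := by
      refine ⟨hg, mem_normalizer_of_finite fun y hy => ?_⟩
      have h1 := hgs ⟨y, hQθ hy⟩
      rw [← h1]
      exact (hst.2 ⟨y, hQθ hy⟩).2 hy
    obtain ⟨n, hn⟩ := E₁.surjective ⟨g, hgR⟩
    refine Subgroup.subset_closure ⟨n, n.2, fun w => ?_⟩
    have h1 := hgs (θ w)
    rw [congr_apply] at h1
    have hng : φ₁ n = g := (hE₁v n).symm.trans (congrArg Subtype.val hn)
    rw [← hng, ← hφ₁v (s w) (hWN (s w).2), ← hφ₁v w (hWN w.2), ← map_inv, ← map_mul, ← map_mul]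
      at h1
    exact congrArg Subtype.val (F.injective_of_mem hφ₁ h1 :)
  have hsurj : ∀ α ∈ F.autGroup Q, ∃ b : stab F W Q, res F hlt.le b = α := by
    intro α hα
    obtain ⟨-, ψ, hψ, hψv⟩ := mem_extSubgroup hS hbig hne hgen hPQ hQn hα
    have hwW : ∀ x : hat F p Q, ψ x ∈ hat F p Q := fun x =>
      apply_mem_hat hQS hψ (le_hat hS hQS) hα hψv x.2
    subst hW
    have hr : ψ.range = hat F p Q := by
      refine Subgroup.eq_of_le_of_card_ge ?_ ?_
      · rintro _ ⟨x, rfl⟩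
        exact hwW x
      · rw [← Nat.card_congr (MonoidHom.ofInjective (F.injective_of_mem hψ)).toEquiv]
    obtain ⟨b, hb, hbv⟩ := exists_iso hψ hr
    refine ⟨⟨b, hb.mem_autGroup, fun x => ?_⟩, MulEquiv.ext fun q => Subtype.ext ?_⟩
    · rw [hbv]
      constructor
      · intro hx
        obtain ⟨q, hq⟩ := α.surjective ⟨ψ x, hx⟩
        have h1 := F.injective_of_mem hψ ((hψv q).trans (congrArg Subtype.val hq))
        rw [← h1]
        exact q.2
      · intro hx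
        rw [show ψ x = (α ⟨x, hx⟩ : Ω) from hψv ⟨x, hx⟩]
        exact Subtype.mem _
    · exact (hbv _).trans (hψv q)
  refine ⟨⟨hQS, ?_⟩, hQS, fun R φ hφ hr => ?_⟩
  · -- fully automized
    let f : stab F W Q →* MulAut Q := res F hlt.le
    have hrange : f.range = F.autGroup Q := by
      refine le_antisymm ?_ fun α hα => hsurj α hα
      rintro _ ⟨b, rfl⟩
      exact res_mem hlt.le hWS' b
    have hS1 := hSig.map_hom f
    rw [hrange] at hS1
    have himg : (Sig.subgroupOf (stab F W Q)).map f = autInducedBy S Q := by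
      refine le_antisymm ?_ fun α hα => ?_
      · rintro _ ⟨⟨s, hsA⟩, hs, rfl⟩
        obtain ⟨g, hg, -, hgs⟩ := mem_autInducedBy_iff.1 (hSigeq ▸ (hs : s ∈ Sig))
        exact mem_autInducedBy_iff.2 ⟨g, hg.1, hg.2, fun q => hgs ⟨q, hlt.le q.2⟩⟩
      · obtain ⟨g, hg, hgN, hga⟩ := mem_autInducedBy_iff.1 hα
        have hA : W.normalizerMonoidHom ⟨g, hNW g ⟨hg, hgN⟩⟩ ∈ Sig := hAut
          (mem_autInducedBy_iff.2 ⟨g, ⟨hg, hgN⟩, hNW g ⟨hg, hgN⟩, fun _ => rfl⟩)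
        exact ⟨⟨_, hSigA hA⟩, hA, MulEquiv.ext fun q => Subtype.ext (hga q).symm⟩
    rw [himg] at hS1
    exact hS1
  · -- receptive
    have hRS : R ≤ S := le_left hφ
    have hPR : F.IsConj P R := isConj_trans hPQ (isConj_symm ⟨φ, hφ, hr⟩)
    obtain ⟨u, hu, huQ⟩ := To.top hS hbig hne hgen hPQ hQn hPR
    obtain ⟨eu, heu, heuv⟩ := exists_iso (restrict_mem hu (le_normalizerIn hRS))
      ((range_restrictHom u _).trans huQ)
    obtain ⟨f, hf, hfφ⟩ := exists_iso hφ hr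
    let α : MulAut Q := eu.symm.trans f
    obtain ⟨b, hb⟩ := hsurj α (heu.symm.trans hf : IsIso F α).mem_autGroup
    -- the image of the extender
    obtain ⟨N, hN⟩ : ∃ N, N = imgHom u (extender S R φ) := ⟨_, rfl⟩
    have hNN : N ≤ normalizerIn S Q := by
      rw [hN]
      rintro _ ⟨x, -, rfl⟩
      exact huQ ▸ apply_mem_normalizerIn hu (le_normalizerIn hRS) le_rfl x
    -- the transported action differs from one of `N_S(Q)` by an automorphism trivial on `Q`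
    let K₀ : Subgroup (MulAut W) := ((res F hlt.le).ker).map (stab F W Q).subtype
    let X : Subgroup (MulAut W) :=
      (autInducedBy N W).map (MulAut.congr (b : MulAut W)).toMonoidHom
    have hK₀ : K₀ ≤ stab F W Q := Subgroup.map_subtype_le _
    have hXA : X ≤ stab F W Q := by
      rintro _ ⟨c, hc, rfl⟩
      exact congr_mem_stab hWS' ((mem_autGroup_iff hWS').1 b.2.1) b.2.2
        (autInducedBy_le_stab (F := F) hlt.le hWS' hNN hc)
    have hXres : ∀ c (hc : c ∈ X), res F hlt.le ⟨c, hXA hc⟩ ∈ autInducedBy S Q := by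
      intro c hc
      obtain ⟨d, hd, rfl⟩ := id hc
      obtain ⟨g, hg, -, hgd⟩ := mem_autInducedBy_iff.1 hd
      rw [hN] at hg
      obtain ⟨⟨y, hy⟩, hyE, rfl⟩ := hg
      obtain ⟨-, hyN, h, hh, hval⟩ := mem_extender_iff.1 (hyE : y ∈ extender S R φ)
      refine Subgroup.subset_closure ⟨h, hh, fun q => ?_⟩
      obtain ⟨q', rfl⟩ := α.surjective q
      obtain ⟨r, rfl⟩ := eu.surjective q'
      have hαr : (α (eu r) : Ω) = φ r := by
        show (f (eu.symm (eu r)) : Ω) = φ r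
        rw [eu.symm_apply_apply, hfφ]
      have hyr : y * (r : Ω) * y⁻¹ ∈ R := (Subgroup.mem_normalizer_iff.1 hyN r).1 r.2
      have hbα : ∀ z : Q, ((b : MulAut W) ⟨z, hlt.le z.2⟩ : Ω) = (α z : Ω) := fun z => by
        rw [← hb]
        rfl
      show ((MulAut.congr (b : MulAut W) d) ⟨(α (eu r) : Q), _⟩ : Ω) = _
      rw [show (⟨((α (eu r) : Q) : Ω), hlt.le (α (eu r)).2⟩ : W) =
        (b : MulAut W) ⟨(eu r : Q), hlt.le (eu r).2⟩ from Subtype.ext (hbα (eu r)).symm, congr_apply,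
        hαr, ← hval r hyr]
      have h2 : d ⟨(eu r : Q), hlt.le (eu r).2⟩ =
          ⟨(eu ⟨_, hyr⟩ : Q), hlt.le (eu ⟨_, hyr⟩).2⟩ := by
        refine Subtype.ext ?_
        rw [hgd]
        show u ⟨y, hy⟩ * (eu r : Ω) * (u ⟨y, hy⟩)⁻¹ = (eu ⟨_, hyr⟩ : Ω)
        rw [heuv, heuv, restrictHom_apply, restrictHom_apply, ← map_inv, ← map_mul, ← map_mul]
        rfl
      rw [h2, hbα]
      show (f (eu.symm (eu ⟨_, hyr⟩)) : Ω) = _
      rw [eu.symm_apply_apply, hfφ]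
      rfl
    -- conjugate it into `Aut_{N_S(Q)}(W)` inside `K₀ Aut_{N_S(Q)}(W)`
    obtain ⟨H, hH⟩ : ∃ H, H = K₀ ⊔ Sig := ⟨_, rfl⟩
    have hnK : stab F W Q ≤ Subgroup.normalizer (K₀ : Set (MulAut W)) := by
      intro g hg
      rw [Subgroup.mem_normalizer_iff]
      have h1 : ∀ g ∈ stab F W Q, ∀ k ∈ K₀, g * k * g⁻¹ ∈ K₀ := by
        rintro g hg _ ⟨k, hk, rfl⟩
        refine ⟨⟨g, hg⟩ * k * ⟨g, hg⟩⁻¹, ?_, rfl⟩
        have hk' : res F hlt.le k = 1 := MonoidHom.mem_ker.1 hk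
        show ⟨g, hg⟩ * k * ⟨g, hg⟩⁻¹ ∈ (res F hlt.le).ker
        rw [MonoidHom.mem_ker, map_mul, map_mul, map_inv, hk', mul_one, mul_inv_cancel]
      refine fun k => ⟨h1 g hg k, fun h => ?_⟩
      have := h1 g⁻¹ (Subgroup.inv_mem _ hg) _ h
      simpa [mul_assoc] using this
    have hHA : H ≤ stab F W Q := hH ▸ sup_le hK₀ hSigA
    have hXH : X ≤ H := by
      intro c hc
      obtain ⟨g, hg, hgN, hgc⟩ := mem_autInducedBy_iff.1 (hXres c hc)
      let s : MulAut W := W.normalizerMonoidHom ⟨g, hNW g ⟨hg, hgN⟩⟩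
      have hs : s ∈ Sig :=
        hAut (mem_autInducedBy_iff.2 ⟨g, ⟨hg, hgN⟩, hNW g ⟨hg, hgN⟩, fun _ => rfl⟩)
      have hres : res F hlt.le ⟨s, hSigA hs⟩ = res F hlt.le ⟨c, hXA hc⟩ :=
        MulEquiv.ext fun q => Subtype.ext (hgc q).symm
      rw [hH, show c = (c * s⁻¹) * s by group]
      refine mul_mem (Subgroup.mem_sup_left
        ⟨⟨c, hXA hc⟩ * ⟨s, hSigA hs⟩⁻¹, ?_, rfl⟩) (Subgroup.mem_sup_right hs)
      rw [SetLike.mem_coe, MonoidHom.mem_ker, map_mul, map_inv, hres, mul_inv_cancel]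
    haveI : Finite H := inferInstance
    have hSylH : IsSylowIn p H Sig := hSig.mono (hH ▸ le_sup_right) hHA
    obtain ⟨δ₀, hδ₀, hδ₀c⟩ := hSylH.exists_conj hXH
      ((isPGroup_autInducedBy (hS.to_le (hNN.trans (normalizerIn_le S Q))) W).map _)
    -- the conjugating element may be taken trivial on `Q`
    have hmem : δ₀ ∈ ((Sig ⊔ K₀ : Subgroup (MulAut W)) : Set (MulAut W)) := by
      rw [sup_comm, ← hH]
      exact hδ₀
    rw [Subgroup.coe_mul_of_left_le_normalizer_right _ _ (hSigA.trans hnK)] at hmem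
    obtain ⟨s, hs, δ, hδ, rfl⟩ := hmem
    have hδc : ∀ c ∈ X, δ * c * δ⁻¹ ∈ Sig := fun c hc => by
      have h1 := Sig.mul_mem (Sig.mul_mem (Sig.inv_mem hs) (hδ₀c c hc)) hs
      simpa [mul_assoc] using h1
    obtain ⟨δ', hδ', rfl⟩ := hδ
    -- extend
    have hδiso : IsIso F (δ' : MulAut W) := (mem_autGroup_iff hWS').1 δ'.2.1
    have hbiso : IsIso F (b : MulAut W) := (mem_autGroup_iff hWS').1 b.2.1
    obtain ⟨φ₂, hφ₂, hφ₂v⟩ := exists_extension (T := N) hVr ((hbiso.trans hδiso).trans hθ)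
      fun g hg => mem_extender_of_congr ⟨(hNN hg).1, hNW g (hNN hg)⟩
        (α := W.normalizerMonoidHom ⟨g, hNW g (hNN hg)⟩) (fun _ => rfl) (by
        rw [congr_trans, congr_trans, congr_self_eq]
        exact hθc _ (hδc _ ⟨_, mem_autInducedBy_iff.2 ⟨g, hg, hNW g (hNN hg), fun _ => rfl⟩, rfl⟩))
    have hQN' : Q ≤ N := by
      rw [hN, ← huQ]
      exact imgHom_mono u (le_extender hRS fun x => apply_mem hφ x)
    -- values on `Q`
    have hφ₂Q : ∀ q : Q, φ₂ ⟨q, hQN' q.2⟩ = φ₁ ⟨(α q : Q), hQN (α q).2⟩ := by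
      intro q
      rw [hφ₂v ⟨q, hlt.le q.2⟩ (hQN' q.2)]
      show (θ ((δ' : MulAut W) ((b : MulAut W) ⟨q, hlt.le q.2⟩)) : Ω) = _
      rw [← hφ₁v ((δ' : MulAut W) ((b : MulAut W) ⟨q, hlt.le q.2⟩)) (hWN (Subtype.mem _))]
      refine congrArg φ₁ (Subtype.ext ?_)
      have h1 : (b : MulAut W) ⟨q, hlt.le q.2⟩ = ⟨(α q : Q), hlt.le (α q).2⟩ :=
        Subtype.ext (by rw [← hb]; rfl)
      show ((δ' : MulAut W) ((b : MulAut W) ⟨q, hlt.le q.2⟩) : Ω) = (α q : Ω)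
      rw [h1]
      have h2 := congrArg (fun z : MulAut Q => ((z (α q) : Q) : Ω)) (MonoidHom.mem_ker.1 hδ')
      exact h2
    have him : imgHom φ₂ Q = R₁ := by
      rw [hR₁]
      ext z
      constructor
      · rintro ⟨⟨y, hyN⟩, hy, rfl⟩
        exact ⟨⟨(α ⟨y, hy⟩ : Q), hQN (α _).2⟩, (α _).2, (hφ₂Q ⟨y, hy⟩).symm⟩
      · rintro ⟨⟨y, hy1⟩, hy, rfl⟩
        obtain ⟨q, hq⟩ := α.surjective ⟨y, hy⟩
        refine ⟨⟨q, hQN' q.2⟩, q.2, (hφ₂Q q).trans ?_⟩
        exact congrArg φ₁ (Subtype.ext (congrArg Subtype.val hq :))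
    have hmem₂ : ∀ x : N, φ₂ x ∈ φ₁.range := fun x => by
      rw [hr₁, ← him]
      exact apply_mem_normalizerIn hφ₂ hQN' hNN x
    obtain ⟨g₁, hg₁, hg₁v⟩ := F.inv_mem hφ₁
    subst hN
    obtain ⟨eE, heE, heEv⟩ := exists_iso_restrict hu (extender_le_normalizerIn φ)
    refine ⟨(g₁.comp (φ₂.codRestrict _ hmem₂)).comp eE.toMonoidHom,
      heE.comp_hom (F.comp_mem hφ₂ hg₁ hmem₂), fun x hx hN' => ?_⟩
    show g₁ ⟨φ₂ (eE ⟨x, hN'⟩), _⟩ = φ ⟨x, hx⟩
    have h1 : φ₂ (eE ⟨x, hN'⟩) = φ₁ ⟨(α (eu ⟨x, hx⟩) : Q), hQN (α _).2⟩ := by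
      rw [← hφ₂Q]
      refine congrArg φ₂ (Subtype.ext ?_)
      rw [heEv]
      exact (heuv ⟨x, hx⟩).symm
    have h2 : (α (eu ⟨x, hx⟩) : Ω) = φ ⟨x, hx⟩ := by
      show (f (eu.symm (eu ⟨x, hx⟩)) : Ω) = _
      rw [eu.symm_apply_apply, hfφ]
    rw [show (⟨φ₂ (eE ⟨x, hN'⟩), hmem₂ _⟩ : φ₁.range) =
      ⟨φ₁ ⟨(α (eu ⟨x, hx⟩) : Q), hQN (α _).2⟩, _, rfl⟩ from Subtype.ext h1, hg₁v]
    exact h2

end ext

/-- The saturation criterion. -/
theorem isSaturated [Finite S] [Fact p.Prime] (hS : IsPGroup p S)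
    (ℋ : Set (Subgroup Ω))
    (hℋconj : ∀ P ∈ ℋ, ∀ Q, F.IsConj P Q → Q ∈ ℋ) (hsat : ∀ P ∈ ℋ, SatClass F p P)
    (hgen : ∀ E : FusionSystem S, (∀ P ∈ ℋ, F.Hom P ⊆ E.Hom P) → F ≤ E)
    (hstar : ∀ P : Subgroup Ω, F.IsCentric P → P ∉ ℋ → ∃ Q, F.IsConj P Q ∧
      ¬ (autInducedBy S Q ⊓ (pCore p (F.autGroup Q)).map (F.autGroup Q).subtype ≤ Inn Q)) :
    F.IsSaturated p := by
  suffices h : ∀ (d : ℕ) (P : Subgroup Ω), P ≤ S → Nat.card S ≤ Nat.card P + d → SatClass F p P from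
    fun P hP => h (Nat.card S) P hP (Nat.le_add_left _ _)
  intro d
  induction d using Nat.strong_induction_on with
  | _ d ih =>
  intro P hP hd
  by_cases hPℋ : P ∈ ℋ
  · exact hsat P hPℋ
  haveI := finite_of_le hP
  have hne : Nat.card P < Nat.card S := by
    rcases hP.eq_or_lt with rfl | hlt
    · exfalso
      obtain ⟨Q, hQ, hQn⟩ := hstar P isCentric_self hPℋ
      rw [eq_S_of_isConj hQ, ← Inn_eq] at hQn
      exact hQn inf_le_left
    · exact card_lt_of_lt hlt le_rfl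
  have hbig : ∀ W : Subgroup Ω, W ≤ S → Nat.card P < Nat.card W → SatClass F p W := fun W hW hc => by
    have hWS : Nat.card W ≤ Nat.card S :=
      Nat.card_le_card_of_injective _ (Subgroup.inclusion_injective hW)
    exact ih (Nat.card S - Nat.card W) (by omega) W hW (by omega)
  have hgen' : ∀ E : FusionSystem S,
      (∀ X : Subgroup Ω, ¬ F.IsConj P X → F.Hom X ⊆ E.Hom X) → F ≤ E := fun E h =>
    hgen E fun X hX => h X fun hc => hPℋ (hℋconj X hX P (isConj_symm hc))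
  obtain ⟨Q, hPQ, hQn⟩ := exists_fullyNormalized (F := F) hP
  haveI := finite_of_le hQn.1
  suffices hlt : Q < hat F p Q from
    ⟨Q, hPQ, satClass_step hS hbig hne hgen' hPQ hQn hlt⟩
  refine lt_of_le_of_ne (le_hat hS hQn.1) fun heq => ?_
  by_cases hc : F.IsCentric P
  · obtain ⟨R, hPR, hR⟩ := hstar P hc hPℋ
    obtain ⟨k, ⟨hk1, hk2⟩, hkI⟩ := SetLike.not_le_iff_exists.1 hR
    obtain ⟨g, hg, hgN, hgk⟩ := mem_autInducedBy_iff.1 hk1
    obtain ⟨u, hu, huQ⟩ := To.top hS hbig hne hgen' hPQ hQn hPR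
    have hRS := le_of_isConj_right hPR
    obtain ⟨eu, heu, heuv⟩ := exists_iso (restrict_mem hu (le_normalizerIn hRS))
      ((range_restrictHom u _).trans huQ)
    have hmem : u ⟨g, hg, hgN⟩ ∈ hat F p Q := by
      refine mem_kNormalizer.2 ⟨apply_mem hu _, MulAut.congr eu k, congr_mem_opAut heu hk2,
        fun q => ?_⟩
      obtain ⟨r, rfl⟩ := eu.surjective q
      rw [congr_apply, heuv, heuv, restrictHom_apply, restrictHom_apply, ← map_inv, ← map_mul,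
        ← map_mul]
      exact congrArg u (Subtype.ext (hgk r))
    rw [← heq, ← huQ, mem_imgHom_apply_iff (F.injective_of_mem hu)] at hmem
    exact hkI ⟨⟨g, hmem⟩, MulEquiv.ext fun x => Subtype.ext (hgk x).symm⟩
  · have hc' : ∃ R, F.IsConj P R ∧ ¬ centralizerIn S R ≤ R := by
      by_contra hno
      exact hc ⟨hP, fun R hR => by_contra fun h => hno ⟨R, hR, h⟩⟩
    obtain ⟨R, hPR, hR⟩ := hc'
    obtain ⟨c, hcC, hcR⟩ := SetLike.not_le_iff_exists.1 hR
    obtain ⟨u, hu, huQ⟩ := To.top hS hbig hne hgen' hPQ hQn hPR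
    have hRS := le_of_isConj_right hPR
    have hmem : u ⟨c, centralizerIn_le_normalizerIn S R hcC⟩ ∈ centralizerIn S Q := by
      refine Subgroup.mem_inf.2 ⟨apply_mem hu _, ?_⟩
      rw [← huQ]
      exact map_mem_centralizer (le_normalizerIn hRS) hcC.2
    have h1 := centralizerIn_le_hat (F := F) (p := p) hmem
    rw [← heq, ← huQ, mem_imgHom_apply_iff (F.injective_of_mem hu)] at h1
    exact hcR h1

end CfsgLib.SatCriterion
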