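import Cfsg.Agent.Fusion.PrimeToPIndex
import Cfsg.Agent.Fusion.SaturationCriterion
import Cfsg.Prelude.Def_FusionComponents

/-!
# The `p'`-residual subsystem

The maps with centric source lying in every saturated subsystem of index prime to `p` generate a
saturated subsystem of index prime to `p`.
-/

set_option autoImplicit false
set_option linter.style.haveILetI false

namespace CfsgLib.PPrimeResidual

open Cfsg Cfsg.FusionSystem CfsgLib.Fusion
open CfsgLib.PrimeToPIndex (pGen)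

variable {Ω : Type*} [Group Ω] {S : Subgroup Ω} {F : FusionSystem S} {p : ℕ}

/-- The maps of `F` lying in all members of a family of systems. -/
def infSystem (F : FusionSystem S) (𝒳 : Set (FusionSystem S)) : FusionSystem S where
  Hom P := {φ | φ ∈ F.Hom P ∧ ∀ X ∈ 𝒳, φ ∈ X.Hom P}
  le_of_mem h := F.le_of_mem h.1
  injective_of_mem h := F.injective_of_mem h.1
  conj_mem hP hg := ⟨F.conj_mem hP hg, fun X _ => X.conj_mem hP hg⟩
  comp_mem hφ hψ h :=
    ⟨F.comp_mem hφ.1 hψ.1 h, fun X hX => X.comp_mem (hφ.2 X hX) (hψ.2 X hX) h⟩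
  inv_mem := by
    rintro P φ ⟨hφ, hall⟩
    obtain ⟨ψ, hψ, hψv⟩ := F.inv_mem hφ
    refine ⟨ψ, ⟨hψ, fun X hX => ?_⟩, hψv⟩
    obtain ⟨ψ', hψ', hψ'v⟩ := X.inv_mem (hall X hX)
    refine mem_congr hψ' ?_
    rintro ⟨_, x, rfl⟩
    exact (hψv x).trans (hψ'v x).symm

/-- An automorphism of `S` carries fully normalized subgroups to fully normalized ones. -/
theorem isFullyNormalized_aut [Finite S] {Q Q' : Subgroup Ω} (hQ : F.IsFullyNormalized Q)
    {α : MulAut S} (hconj : F.IsConj Q Q')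
    (hQ' : ∀ x : S, (x : Ω) ∈ Q → (α x : Ω) ∈ Q') : F.IsFullyNormalized Q' := by
  refine ⟨le_of_isConj_right hconj, fun R hR => (hQ.2 R (isConj_trans hconj hR)).trans ?_⟩
  haveI := finite_of_le (normalizerIn_le S Q')
  haveI := finite_of_le (le_of_isConj_right hconj)
  haveI := finite_of_le hQ.1
  have hsurj : ∀ y ∈ Q', ∃ x : S, (x : Ω) ∈ Q ∧ (α x : Ω) = y := by
    intro y hy
    have hinj : Function.Injective fun x : Q => (⟨(α ⟨x, hQ.1 x.2⟩ : Ω), hQ' _ x.2⟩ : Q') :=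
      fun a b h => by
        have h1 := α.injective (Subtype.ext (congrArg Subtype.val h :) :
          α ⟨a, hQ.1 a.2⟩ = α ⟨b, hQ.1 b.2⟩)
        exact Subtype.ext (congrArg Subtype.val h1 :)
    obtain ⟨x, hx⟩ := ((Nat.bijective_iff_injective_and_card _).2
      ⟨hinj, card_eq_of_isConj hconj⟩).2 ⟨y, hy⟩
    exact ⟨⟨x, hQ.1 x.2⟩, x.2, congrArg Subtype.val hx⟩
  refine Nat.card_le_card_of_injective (fun n : normalizerIn S Q =>
    (⟨(α ⟨n, n.2.1⟩ : Ω), Subtype.mem _, ?_⟩ : normalizerIn S Q')) fun a b h => ?_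
  · refine CfsgLib.SatCriterion.mem_normalizer_of_finite fun y hy => ?_
    obtain ⟨x, hx, rfl⟩ := hsurj y hy
    have := hQ' (⟨n, n.2.1⟩ * x * ⟨n, n.2.1⟩⁻¹) ((Subgroup.mem_normalizer_iff.1 n.2.2 x).1 hx)
    simpa using this
  · have h1 := α.injective (Subtype.ext (congrArg Subtype.val h :) :
      α ⟨a, a.2.1⟩ = α ⟨b, b.2.1⟩)
    exact Subtype.ext (congrArg Subtype.val h1 :)

/-- Two homomorphisms on `N` agreeing on a normal `R` whose image contains its centralizer differ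
by an automorphism of order dividing `|R|`. -/
theorem exists_delta {T R N : Subgroup Ω} [Finite R] [Finite N] (hRN : R ≤ N)
    (hN : N ≤ Subgroup.normalizer (R : Set Ω)) {ψ ψ' : N →* Ω} (hψT : ∀ x, ψ x ∈ T)
    (hψ'T : ∀ x, ψ' x ∈ T) (hψi : Function.Injective ψ) (hψ'i : Function.Injective ψ')
    (hC : centralizerIn T (imgHom ψ' R) ≤ imgHom ψ' R)
    (h : ∀ x : R, ψ ⟨x, hRN x.2⟩ = ψ' ⟨x, hRN x.2⟩) :
    ∃ δ : MulAut N, δ ^ Nat.card R = 1 ∧ ∀ g, ψ g = ψ' (δ g) := by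
  -- `ψ` differs from `ψ'` by elements of `R`
  have hz : ∀ g : N, ∃ z : R, ψ g = ψ' (g * ⟨z, hRN z.2⟩) := by
    intro g
    have hc : (ψ' g)⁻¹ * ψ g ∈ centralizerIn T (imgHom ψ' R) := by
      refine mem_centralizerIn'.2 ⟨T.mul_mem (T.inv_mem (hψ'T g)) (hψT g), ?_⟩
      rintro _ ⟨x, hx, rfl⟩
      have hgx : (g : Ω) * (x : Ω) * (g : Ω)⁻¹ ∈ R :=
        (Subgroup.mem_normalizer_iff.1 (hN g.2) x).1 hx
      have e1 : ψ (g * x * g⁻¹) = ψ' (g * x * g⁻¹) := h ⟨_, hgx⟩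
      have e2 : ψ x = ψ' x := h ⟨x, hx⟩
      rw [map_mul, map_mul, map_mul, map_mul, map_inv, map_inv, e2] at e1
      calc (ψ' g)⁻¹ * ψ g * ψ' x * ((ψ' g)⁻¹ * ψ g)⁻¹
          = (ψ' g)⁻¹ * (ψ g * ψ' x * (ψ g)⁻¹) * ψ' g := by group
        _ = ψ' x := by rw [e1]; group
    obtain ⟨⟨z, hzN⟩, hzR, hzv⟩ := hC hc
    exact ⟨⟨z, hzR⟩, by
      rw [map_mul, show ψ' ⟨z, hzN⟩ = (ψ' g)⁻¹ * ψ g from hzv, mul_inv_cancel_left]⟩
  choose z hz using hz
  let d : N →* N :=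
    { toFun := fun g => g * ⟨z g, hRN (z g).2⟩
      map_one' := hψ'i (by rw [← hz, map_one, map_one])
      map_mul' := fun a b => hψ'i (by
        rw [← hz (a * b), map_mul ψ a b, hz a, hz b, ← map_mul ψ']) }
  have hd : ∀ g, ψ g = ψ' (d g) := hz
  have hdi : Function.Injective d := fun a b hab => hψi (by rw [hd, hd, hab])
  refine ⟨MulEquiv.ofBijective d (Finite.injective_iff_bijective.1 hdi), ?_, hd⟩
  generalize hδ : (MulEquiv.ofBijective d (Finite.injective_iff_bijective.1 hdi) : MulAut N) = δ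
  have hδv : ∀ g, δ g = g * ⟨z g, hRN (z g).2⟩ := fun g => hδ ▸ rfl
  have hδR : ∀ x : R, δ ⟨x, hRN x.2⟩ = ⟨x, hRN x.2⟩ := fun x =>
    hψ'i (by rw [← hδ]; exact (hd _).symm.trans (h x))
  refine MulEquiv.ext fun g => ?_
  have hn : ∀ n : ℕ, (δ ^ n) g = g * ⟨z g, hRN (z g).2⟩ ^ n := by
    intro n
    induction n with
    | zero => rw [pow_zero, pow_zero, mul_one]; rfl
    | succ n ih =>
      rw [pow_succ', MulAut.mul_apply, ih, map_mul, map_pow, hδv g, hδR, mul_assoc, ← pow_succ']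
  rw [hn, show (⟨z g, hRN (z g).2⟩ : N) ^ Nat.card R = 1 from
    Subtype.ext ((SubgroupClass.coe_pow _ _).trans ((SubgroupClass.coe_pow (z g) _).symm.trans
      (congrArg Subtype.val pow_card_eq_one'))), mul_one]
  rfl

variable [Finite S] [Fact p.Prime]

/-- Two extensions to `N` of a map on a centric `R` differ by an automorphism of `N` of `p`-power
order. -/
theorem mem_of_two_extensions (hS : IsPGroup p S) {E : FusionSystem S}
    (hEi : E.HasPrimeToPIndexIn F p) {R N : Subgroup Ω} (hRN : R ≤ N)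
    (hN : N ≤ normalizerIn S R) (hR : F.IsCentric R) {ψ ψ' : N →* Ω} (hψ : ψ ∈ F.Hom N)
    (hψ' : ψ' ∈ E.Hom N) (h : ∀ x : R, ψ ⟨x, hRN x.2⟩ = ψ' ⟨x, hRN x.2⟩) : ψ ∈ E.Hom N := by
  have hψ'F : ψ' ∈ F.Hom N := hEi.1 N hψ'
  have hNS : N ≤ S := le_left hψ
  haveI := finite_of_le hNS
  haveI := finite_of_le hR.1
  obtain ⟨δ, hpow, hδv⟩ := exists_delta hRN (fun g hg => (hN hg).2) (apply_mem hψ) (apply_mem hψ'F)
    (F.injective_of_mem hψ) (F.injective_of_mem hψ'F)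
    (hR.2 _ (isConj_restrict hψ'F hRN)) h
  obtain ⟨e', he', he'v⟩ := exists_iso_range hψ'F
  have hδF : IsIso F δ := mem_of_comp hψ he'.symm (fun g => ⟨δ g, (hδv g).symm⟩) fun g => by
    show (δ g : Ω) = (e'.symm ⟨ψ g, _⟩ : Ω)
    rw [show (⟨ψ g, ⟨δ g, (hδv g).symm⟩⟩ : ψ'.range) = e' (δ g) from
      Subtype.ext ((hδv g).trans (he'v _).symm), e'.symm_apply_apply]
  obtain ⟨j, hj⟩ := (hS.to_le hR.1).exists_card_eq
  obtain ⟨i, -, hi⟩ := (Nat.dvd_prime_pow (Fact.out : p.Prime)).1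
    (orderOf_dvd_of_pow_eq_one (by rw [← hj]; exact hpow) : orderOf δ ∣ p ^ j)
  have hδE : IsIso E δ := (mem_autGroup_iff hNS).1 (hEi.2 N hNS
    ⟨⟨δ, hδF.mem_autGroup⟩, Subgroup.subset_closure ⟨i, by rw [← hi, ← Subgroup.orderOf_coe]⟩, rfl⟩)
  exact mem_of_comp hδE hψ' (fun g => (δ g).2) hδv

/-- The saturated subsystems of index prime to `p`. -/
def indexPrimeSystems (F : FusionSystem S) (p : ℕ) : Set (FusionSystem S) :=
  {E | E.IsSaturated p ∧ E.HasPrimeToPIndexIn F p}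

/-- The system generated by the centric maps common to all saturated subsystems of index prime
to `p`. -/
def residual (F : FusionSystem S) (p : ℕ) : FusionSystem S :=
  infSystem (infSystem F (indexPrimeSystems F p))
    {X | ∀ P : Subgroup Ω, F.IsCentric P → (infSystem F (indexPrimeSystems F p)).Hom P ⊆ X.Hom P}

/-- Every saturated system has a `p'`-residual subsystem. -/
theorem residual_isPPrimeResidual (hS : IsPGroup p S) (hF : F.IsSaturated p) :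
    F.IsPPrimeResidual p (residual F p) := by
  set D₀ := infSystem F (indexPrimeSystems F p) with hD₀
  set F₁ := residual F p with hF₁
  have hle : ∀ (P : Subgroup Ω), F₁.Hom P ⊆ D₀.Hom P := fun P φ h => h.1
  have hge : ∀ P : Subgroup Ω, F.IsCentric P → D₀.Hom P ⊆ F₁.Hom P := fun P hP φ h =>
    ⟨h, fun X hX => hX P hP h⟩
  have hsub : F₁.IsSubsystemOf F := fun P φ h => (hle P h).1
  have hgenP : ∀ P : Subgroup Ω, F.IsCentric P →
      (pGen p F P).map (F.autGroup P).subtype ≤ F₁.autGroup P := fun P hP α hα =>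
    IsIso.mem_autGroup (hge P hP ⟨(mem_autGroup_iff hP.1).1 (Subgroup.map_subtype_le _ hα),
      fun X hX => (mem_autGroup_iff hP.1).1 (hX.2.2 P hP.1 hα)⟩)
  obtain ⟨hidx, hdec, hcen⟩ := CfsgLib.PrimeToPIndex.main hS hF hsub hgenP
  refine ⟨?_, hidx, fun E hE hEi P φ h => (hle P h).2 E ⟨hE, hEi⟩⟩
  refine CfsgLib.SatCriterion.isSaturated hS {P | F.IsCentric P} (fun P hP Q hQ => ?_) ?_ ?_ ?_
  · obtain ⟨φ, hφ, hr⟩ := hQ
    exact isCentric_of_isConj hP ⟨φ, hsub P hφ, hr⟩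
  swap
  · intro X hX P φ h
    exact h.2 X fun R hR => (hge R hR).trans (hX R hR)
  swap
  · exact fun P hP hnP => absurd ((hcen P).1 hP) hnP
  intro P hP
  obtain ⟨Q, hPQ, hQ⟩ := exists_fullyNormalized (F := F) hP.1
  obtain ⟨φ, hφ, hr⟩ := id hPQ
  obtain ⟨α, hα, φ₀, hφ₀, hv⟩ := hdec P φ hφ
  have hφ₀F := hsub P hφ₀
  refine ⟨φ₀.range, ⟨φ₀, hφ₀, rfl⟩, ?_⟩
  have hQ₀c : F.IsCentric φ₀.range := isCentric_of_isConj hP ⟨φ₀, hφ₀F, rfl⟩
  have hQ₀ : F.IsFullyNormalized φ₀.range := by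
    refine isFullyNormalized_aut hQ (α := α⁻¹)
      (isConj_trans (isConj_symm hPQ) ⟨φ₀, hφ₀F, rfl⟩) fun x hx => ?_
    obtain ⟨y, hy⟩ : (x : Ω) ∈ φ.range := hr ▸ hx
    refine ⟨y, ?_⟩
    rw [show x = α ⟨φ₀ y, apply_mem hφ₀F y⟩ from
      Subtype.ext (hy.symm.trans (hv y (apply_mem hφ₀F y))), MulAut.inv_apply_self]
  haveI := finite_of_le hQ₀.1
  obtain ⟨hQa, hQr⟩ := automized_receptive hS hF hQ₀
  refine ⟨⟨hQ₀.1, ?_⟩, hQ₀.1, fun R θ hθ hθr => ?_⟩
  · exact IsSylowIn.mono (H := F.autGroup φ₀.range) hQa.2 (autInducedBy_le_autGroup hQ₀.1)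
      fun β hβ => (mem_autGroup_iff hQ₀.1).2 (hsub _ ((mem_autGroup_iff hQ₀.1).1 hβ))
  · obtain ⟨ψ, hψ, hψv⟩ := hQr.2 R θ (hsub R hθ) hθr
    have hRc : F.IsCentric R := isCentric_of_isConj hQ₀c (isConj_symm ⟨θ, hsub R hθ, hθr⟩)
    have hRN : R ≤ extender S R θ := le_extender hRc.1 fun x => apply_mem hθ x
    have hNc : F.IsCentric (extender S R θ) := isCentric_of_le hRc hRN (le_left hψ)
    refine ⟨ψ, hge _ hNc ⟨hψ, fun E hE => ?_⟩, hψv⟩
    have hθE : θ ∈ E.Hom R := (hle R hθ).2 E hE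
    have hQE : E.IsFullyNormalized φ₀.range := ⟨hQ₀.1, fun Q' ⟨f, hf, hfr⟩ =>
      hQ₀.2 Q' ⟨f, hE.2.1 _ hf, hfr⟩⟩
    obtain ⟨ψ', hψ', hψ'v⟩ := (automized_receptive hS hE.1 hQE).2.2 R θ hθE hθr
    exact mem_of_two_extensions hS hE.2 hRN (extender_le_normalizerIn θ) hRc hψ hψ' fun x =>
      (hψv x x.2 (hRN x.2)).trans (hψ'v x x.2 (hRN x.2)).symm

end CfsgLib.PPrimeResidual
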