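import Cfsg.Agent.Fusion.Invariant
import Cfsg.Agent.Fusion.Systems
import Cfsg.Agent.Fusion.Sylow
import Cfsg.Agent.Fusion.NormalSubgroup
import Cfsg.Agent.Fusion.Induction
import Cfsg.Agent.LocalStructure.Elements

/-!
# The centralizer of a normal subsystem

For a normal subsystem `E` over `T` of a saturated system `F` over `S`, the elements of `C_S(T)`
fixed by `E` form a subgroup, strongly closed in `F`; it is the largest subgroup `C` with
`E ⊆ C_F(C)`.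
-/

set_option autoImplicit false

namespace CfsgLib.Fusion

open Cfsg Cfsg.FusionSystem

variable {Ω : Type*} [Group Ω] {S T P Q R U : Subgroup Ω} {F : FusionSystem S}
  {E : FusionSystem T} {p : ℕ}

/-! ### Maps on joins -/

/-- A homomorphism carrying two subgroups into `V` carries their join into `V`. -/
theorem forall_mem_sup {A B V : Subgroup Ω} (f : R →* Ω) (hAR : A ≤ R) (hBR : B ≤ R)
    (hA : ∀ x (hx : x ∈ A), f ⟨x, hAR hx⟩ ∈ V) (hB : ∀ x (hx : x ∈ B), f ⟨x, hBR hx⟩ ∈ V)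
    {x : Ω} (hxR : x ∈ R) (hx : x ∈ A ⊔ B) : f ⟨x, hxR⟩ ∈ V := by
  have h : A ⊔ B ≤ (V.comap f).map R.subtype :=
    sup_le (fun y hy => ⟨⟨y, hAR hy⟩, hA y hy, rfl⟩) fun y hy => ⟨⟨y, hBR hy⟩, hB y hy, rfl⟩
  obtain ⟨y, hy, rfl⟩ := h hx
  exact hy

/-- Two homomorphisms agreeing on two subgroups agree on their join. -/
theorem eq_on_sup {A B : Subgroup Ω} (f g : R →* Ω) (hAR : A ≤ R) (hBR : B ≤ R)
    (hA : ∀ x (hx : x ∈ A), f ⟨x, hAR hx⟩ = g ⟨x, hAR hx⟩)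
    (hB : ∀ x (hx : x ∈ B), f ⟨x, hBR hx⟩ = g ⟨x, hBR hx⟩)
    {x : Ω} (hxR : x ∈ R) (hx : x ∈ A ⊔ B) : f ⟨x, hxR⟩ = g ⟨x, hxR⟩ := by
  have h : A ⊔ B ≤ (f.eqLocus g).map R.subtype :=
    sup_le (fun y hy => ⟨⟨y, hAR hy⟩, hA y hy, rfl⟩) fun y hy => ⟨⟨y, hBR hy⟩, hB y hy, rfl⟩
  obtain ⟨y, hy, rfl⟩ := h hx
  exact hy

/-- A map carrying `P` into itself restricts to an automorphism of the system. -/
theorem exists_aut_restrict [Finite S] {φ : R →* Ω} (hφ : φ ∈ F.Hom R) (hPR : P ≤ R)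
    (h : ∀ x (hx : x ∈ P), φ ⟨x, hPR hx⟩ ∈ P) :
    ∃ δ ∈ F.autGroup P, ∀ x : P, (δ x : Ω) = φ ⟨x, hPR x.2⟩ := by
  have hPS : P ≤ S := hPR.trans (le_left hφ)
  have := finite_of_le hPS
  have hr : (restrictHom φ hPR).range = P := by
    refine Subgroup.eq_of_le_of_card_ge ?_ ?_
    · rintro _ ⟨x, rfl⟩
      exact h x x.2
    · rw [range_restrictHom, card_imgHom (F.injective_of_mem hφ) hPR]
  obtain ⟨e, he, hev⟩ := exists_iso (restrict_mem hφ hPR) hr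
  exact ⟨e, he.mem_autGroup, fun x => hev x⟩

/-- Isomorphisms of `F` between subgroups of `T` transport automorphisms of an invariant
subsystem. -/
theorem congr_mem_of_invariant (hsi : StronglyInvariant E F) (hP : P ≤ T) (hQ : Q ≤ T)
    {e : P ≃* Q} (he : IsIso F e) {α : MulAut P} (hα : α ∈ E.autGroup P) :
    MulAut.congr e α ∈ E.autGroup Q := by
  obtain ⟨χ, hχ, hχv⟩ := hsi P P le_rfl hP _ ((mem_autGroup_iff hP).1 hα) (fun x => (α x).2) _ he
  have hle : Q ≤ (P.subgroupOf P).map (Q.subtype.comp e.toMonoidHom) := fun y hy =>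
    ⟨e.symm ⟨y, hy⟩, (e.symm ⟨y, hy⟩).2, by simp⟩
  refine mem_autGroup_of_le_of_eq hQ (restrict_mem hχ hle) fun y => ?_
  obtain ⟨x, rfl⟩ := e.surjective y
  rw [congr_apply, restrictHom_apply]
  exact (hχv x _).symm

/-- Elements of the join of `P` with a cyclic group centralizing it. -/
theorem mem_sup_zpowers_of_comm {z : Ω} (hz : z ∈ Subgroup.normalizer (P : Set Ω)) {w : Ω}
    (hw : w ∈ P ⊔ Subgroup.zpowers z) : ∃ a ∈ P, ∃ i : ℤ, w = a * z ^ i := by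
  rw [← SetLike.mem_coe, Subgroup.coe_mul_of_right_le_normalizer_left _ _
    (Subgroup.zpowers_le.2 hz)] at hw
  obtain ⟨a, ha, b, hb, rfl⟩ := hw
  obtain ⟨i, rfl⟩ := Subgroup.mem_zpowers_iff.1 hb
  exact ⟨a, ha, i, rfl⟩

/-- The automorphisms of `U` fixing `P` pointwise and trivial modulo `P`, inside `F`. -/
def translations (F : FusionSystem S) (P U : Subgroup Ω) : Subgroup (MulAut U) where
  carrier := {κ | κ ∈ F.autGroup U ∧ (∀ u : U, (u : Ω) ∈ P → κ u = u) ∧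
    ∀ u : U, ((u⁻¹ * κ u : U) : Ω) ∈ P}
  one_mem' := ⟨one_mem _, fun u _ => rfl, fun u => by simp⟩
  mul_mem' := by
    rintro a b ⟨ha, ha', ha''⟩ ⟨hb, hb', hb''⟩
    refine ⟨mul_mem ha hb, fun u hu => ?_, fun u => ?_⟩
    · rw [MulAut.mul_apply, hb' u hu, ha' u hu]
    · rw [MulAut.mul_apply, show u⁻¹ * a (b u) = (u⁻¹ * b u) * ((b u)⁻¹ * a (b u)) by group,
        Subgroup.coe_mul]
      exact P.mul_mem (hb'' u) (ha'' _)
  inv_mem' := by
    rintro a ⟨ha, ha', ha''⟩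
    refine ⟨inv_mem ha, fun u hu => ?_, fun u => ?_⟩
    · conv_lhs => rw [← ha' u hu]
      exact MulAut.inv_apply_self ..
    · have h := P.inv_mem (ha'' (a⁻¹ u))
      rw [← Subgroup.coe_inv, MulAut.apply_inv_self, mul_inv_rev, inv_inv] at h
      exact h

/-- An automorphism preserving `P` that moves `z` within `zP` is trivial modulo `P`. -/
theorem forall_div_mem {z : Ω} (hU : U = P ⊔ Subgroup.zpowers z) (hzP : ∀ x ∈ P, z * x = x * z)
    (κ : MulAut U) (hκ : ∀ u : U, (u : Ω) ∈ P → (κ u : Ω) ∈ P)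
    (hκz : ∀ u : U, (u : Ω) = z → ((u⁻¹ * κ u : U) : Ω) ∈ P) :
    ∀ u : U, ((u⁻¹ * κ u : U) : Ω) ∈ P := by
  subst hU
  have hzN : P ⊔ Subgroup.zpowers z ≤ Subgroup.normalizer (P : Set Ω) := by
    refine sup_le Subgroup.le_normalizer (Subgroup.zpowers_le.2 ?_)
    exact Subgroup.centralizer_le_normalizer _ (Subgroup.mem_centralizer_iff.2
      fun x hx => (hzP x hx).symm)
  let H : Subgroup ↥(P ⊔ Subgroup.zpowers z) :=
    { carrier := {u | ((u⁻¹ * κ u : ↥(P ⊔ Subgroup.zpowers z)) : Ω) ∈ P}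
      one_mem' := by simp
      mul_mem' := by
        intro a b ha hb
        show (((a * b)⁻¹ * κ (a * b) : ↥(P ⊔ Subgroup.zpowers z)) : Ω) ∈ P
        rw [map_mul, show (a * b)⁻¹ * (κ a * κ b) = b⁻¹ * (a⁻¹ * κ a) * b * (b⁻¹ * κ b) by group,
          Subgroup.coe_mul]
        refine P.mul_mem ?_ hb
        exact (Subgroup.mem_normalizer_iff''.1 (hzN b.2) _).1 ha
      inv_mem' := by
        intro a ha
        show ((a⁻¹⁻¹ * κ a⁻¹ : ↥(P ⊔ Subgroup.zpowers z)) : Ω) ∈ P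
        rw [map_inv, show a⁻¹⁻¹ * (κ a)⁻¹ = a * (a⁻¹ * κ a)⁻¹ * a⁻¹ by group]
        exact (Subgroup.mem_normalizer_iff.1 (hzN a.2) _).1 (P.inv_mem ha) }
  have h : P ⊔ Subgroup.zpowers z ≤ H.map (Subgroup.subtype _) := by
    refine sup_le (fun x hx => ⟨⟨x, Subgroup.mem_sup_left hx⟩, ?_, rfl⟩) (Subgroup.zpowers_le.2
      ⟨⟨z, Subgroup.mem_sup_right (Subgroup.mem_zpowers z)⟩, hκz _ rfl, rfl⟩)
    exact P.mul_mem (P.inv_mem hx) (hκ _ hx)
  intro u
  obtain ⟨v, hv, hvu⟩ := h u.2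
  rw [Subgroup.coe_subtype] at hvu
  exact Subtype.ext hvu ▸ hv

/-! ### Fixed elements -/

/-- `y` centralizes `T` and every map of `E` extends to a map of `F` fixing `y`. -/
def IsFixed (F : FusionSystem S) (E : FusionSystem T) (y : Ω) : Prop :=
  y ∈ centralizerIn S T ∧ ∀ (P : Subgroup Ω) (φ : P →* Ω), φ ∈ E.Hom P →
    ∃ ψ ∈ F.Hom (P ⊔ Subgroup.zpowers y), (∀ x : P, ψ ⟨x, Subgroup.mem_sup_left x.2⟩ = φ x) ∧
      ψ ⟨y, Subgroup.mem_sup_right (Subgroup.mem_zpowers y)⟩ = y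

variable [Finite S] [Fact p.Prime]

/-- **Key lemma.** If `U = P⟨z⟩` with `P = U ∩ T` is fully normalized, `P` is fully automized in
`E` and `z` is fixed, then the images of `z` under `Aut_F(U)` centralize `N_T(P)`. -/
theorem commute_of_fixed (hS : IsPGroup p S) (hF : F.IsSaturated p) (hsc : F.StronglyClosed T)
    (hsi : StronglyInvariant E F) {z : Ω} (hz : IsFixed F E z)
    (hU : U = P ⊔ Subgroup.zpowers z) (hUS : U ≤ S) (hUT : U ⊓ T = P)
    (hUn : F.IsFullyNormalized U) (hPa : E.IsFullyAutomized p P)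
    {γ : MulAut U} (hγ : γ ∈ F.autGroup U) {x : Ω} (hx : x ∈ T)
    (hxP : x ∈ Subgroup.normalizer (P : Set Ω)) {u : U} (hu : (u : Ω) = z) :
    x * (γ u : Ω) = (γ u : Ω) * x := by
  classical
  obtain ⟨hUa, hUr⟩ := automized_receptive hS hF hUn
  have := finite_of_le hUS
  have hTS : T ≤ S := hsc.1
  have hPU : P ≤ U := hUT ▸ inf_le_left
  have hPT : P ≤ T := hUT ▸ inf_le_right
  have := finite_of_le (hPT.trans hTS)
  have := finite_of_le hTS
  have hzT : ∀ t ∈ T, z * t = t * z := fun t ht =>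
    ((mem_centralizerIn.1 hz.1).2 t ht).symm
  have hST : ∀ s ∈ S, ∀ t ∈ T, s * t * s⁻¹ ∈ T := fun s hs t ht =>
    stronglyClosed_apply hsc (F.conj_mem hTS hs) (x := ⟨t, ht⟩) ht
  have hpres : ∀ κ ∈ F.autGroup U, ∀ w : U, ((κ w : Ω) ∈ P ↔ (w : Ω) ∈ P) := fun κ hκ w => by
    have h1 := stronglyClosed_apply_iff hsc ((mem_autGroup_iff hUS).1 hκ) (x := w)
    simp only [MonoidHom.coe_comp, MulEquiv.coe_toMonoidHom, Subgroup.coe_subtype,
      Function.comp_apply] at h1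
    rw [← hUT, Subgroup.mem_inf, Subgroup.mem_inf]
    simp [h1]
  -- automorphisms are determined by `P` and `z`
  have hext : ∀ κ κ' : MulAut U, (∀ w : U, (w : Ω) ∈ P → κ w = κ' w) → κ u = κ' u → κ = κ' := by
    intro κ κ' h1 h2
    refine MulEquiv.ext fun w => Subtype.ext ?_
    exact eq_on_sup (U.subtype.comp κ.toMonoidHom) (U.subtype.comp κ'.toMonoidHom) hPU
      (B := Subgroup.zpowers z) (Subgroup.zpowers_le.2 (hu ▸ u.2))
      (fun y hy => congrArg Subtype.val (h1 ⟨y, hPU hy⟩ hy))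
      (fun y hy => by
        obtain ⟨i, rfl⟩ := Subgroup.mem_zpowers_iff.1 hy
        have e : (⟨z ^ i, Subgroup.zpowers_le.2 (hu ▸ u.2) hy⟩ : U) = u ^ i :=
          Subtype.ext (by simp [hu])
        simp [e, h2]) w.2 (hU ▸ w.2)
  -- the normal p-subgroup of translations
  obtain ⟨K, hK⟩ : ∃ K, K = translations F P U := ⟨_, rfl⟩
  have hmemK : ∀ κ, κ ∈ K ↔ κ ∈ F.autGroup U ∧ (∀ w : U, (w : Ω) ∈ P → κ w = w) ∧
      ∀ w : U, ((w⁻¹ * κ w : U) : Ω) ∈ P := fun κ => by rw [hK]; rfl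
  have hKΓ : K ≤ F.autGroup U := fun κ hκ => ((hmemK κ).1 hκ).1
  have hKn : ∀ δ ∈ F.autGroup U, ∀ κ ∈ K, δ * κ * δ⁻¹ ∈ K := by
    intro δ hδ κ hκ
    obtain ⟨hκΓ, hκ1, hκ2⟩ := (hmemK κ).1 hκ
    refine (hmemK _).2 ⟨mul_mem (mul_mem hδ hκΓ) (inv_mem hδ), fun w hw => ?_, fun w => ?_⟩
    · have h1 : ((δ⁻¹ w : U) : Ω) ∈ P := (hpres _ (inv_mem hδ) w).2 hw
      simp only [MulAut.mul_apply, hκ1 _ h1, MulAut.apply_inv_self]
    · obtain ⟨v, rfl⟩ := δ.surjective w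
      simp only [MulAut.mul_apply, MulAut.inv_apply_self]
      rw [← map_inv, ← map_mul]
      exact (hpres δ hδ _).2 (hκ2 v)
  have hKp : IsPGroup p K := by
    rintro ⟨κ, hκ⟩
    obtain ⟨-, h1, h2⟩ := (hmemK κ).1 hκ
    obtain ⟨k, hk⟩ := (hS.to_le hUS) (u⁻¹ * κ u)
    refine ⟨k, Subtype.ext ?_⟩
    have hn : ∀ n : ℕ, (κ ^ n) u = u * (u⁻¹ * κ u) ^ n := by
      intro n
      induction n with
      | zero => simp
      | succ n ih =>
        have h3 : κ (u⁻¹ * κ u) = u⁻¹ * κ u := h1 _ (h2 u)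
        rw [pow_succ', MulAut.mul_apply, ih, map_mul, map_pow, h3, pow_succ',
          ← mul_assoc u (u⁻¹ * κ u), mul_inv_cancel_left]
    have hfix : ∀ n : ℕ, ∀ w : U, (w : Ω) ∈ P → (κ ^ n) w = w := by
      intro n w hw
      induction n with
      | zero => simp
      | succ n ih => rw [pow_succ', MulAut.mul_apply, ih, h1 w hw]
    show κ ^ p ^ k = 1
    refine hext _ _ (fun w hw => hfix _ w hw) ?_
    rw [hn, hk, mul_one]; rfl
  have hKS : K ≤ autInducedBy S U := by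
    obtain ⟨δ, hδ, hδK⟩ := exists_conj_autInducedBy hUa hKΓ hKp
    intro κ hκ
    have h1 := hδK _ (hKn _ (inv_mem hδ) κ hκ)
    simpa [mul_assoc] using h1
  -- the translation part of an element of `K` centralizes `T`
  have hKq : ∀ κ ∈ K, ∀ t ∈ T, ((u⁻¹ * κ u : U) : Ω) * t = t * ((u⁻¹ * κ u : U) : Ω) := by
    intro κ hκ t ht
    obtain ⟨s, hs, -, hsv⟩ := mem_autInducedBy_iff.1 (hKS hκ)
    have h1 : z * (s⁻¹ * t * s) = (s⁻¹ * t * s) * z :=
      hzT _ (by simpa using hST _ (S.inv_mem hs) t ht)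
    rw [Subgroup.coe_mul, Subgroup.coe_inv, hsv, hu]
    calc z⁻¹ * (s * z * s⁻¹) * t = z⁻¹ * (s * (z * (s⁻¹ * t * s)) * s⁻¹) := by group
      _ = z⁻¹ * t * (s * z * s⁻¹) := by rw [h1]; group
      _ = t * (z⁻¹ * (s * z * s⁻¹)) := by
        rw [show z⁻¹ * t = t * z⁻¹ from (Commute.inv_left (hzT t ht : Commute z t)).eq]; group
  -- the automorphisms induced by `N_T(P)`
  have hxU : ∀ y ∈ T, y ∈ Subgroup.normalizer (P : Set Ω) →
      y ∈ Subgroup.normalizer (U : Set Ω) := by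
    intro y hy hyP
    refine Subgroup.mem_normalizer_fintype (fun w hw => ?_)
    refine forall_mem_sup (R := U) ((MulAut.conj y).toMonoidHom.comp U.subtype) hPU
      (Subgroup.zpowers_le.2 (hu ▸ u.2))
      (fun v hv => hPU ((Subgroup.mem_normalizer_iff.1 hyP v).1 hv))
      (fun v hv => ?_) hw (hU ▸ hw)
    obtain ⟨i, rfl⟩ := Subgroup.mem_zpowers_iff.1 hv
    show y * z ^ i * y⁻¹ ∈ U
    rw [← (Commute.zpow_left (hzT y hy : Commute z y) i).eq, mul_inv_cancel_right]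
    exact zpow_mem (hu ▸ u.2) i
  obtain ⟨N₀, hN₀⟩ : ∃ N, N = autInducedBy T U := ⟨_, rfl⟩
  have hN₀mem : ∀ c ∈ N₀, c ∈ F.autGroup U ∧ c u = u ∧
      (∃ y ∈ T, y ∈ Subgroup.normalizer (P : Set Ω) ∧ ∀ w : U, (c w : Ω) = y * w * y⁻¹) := by
    intro c hc
    rw [hN₀] at hc
    obtain ⟨y, hy, hyU, hyv⟩ := mem_autInducedBy_iff.1 hc
    refine ⟨autInducedBy_le_autGroup hUS (autInducedBy_mono hTS U hc), Subtype.ext ?_, y, hy,
      ?_, hyv⟩
    · rw [hyv, hu, ← hzT y hy, mul_inv_cancel_right]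
    · have := finite_of_le hTS
      refine Subgroup.mem_normalizer_fintype fun w hw => ?_
      rw [SetLike.mem_coe, ← hUT, Subgroup.mem_inf]
      exact ⟨(Subgroup.mem_normalizer_iff.1 hyU w).1 (hPU hw),
        T.mul_mem (T.mul_mem hy (hPT hw)) (T.inv_mem hy)⟩
  have hcomm : ∀ c ∈ N₀, ∀ κ ∈ K, c * κ = κ * c := by
    intro c hc κ hκ
    obtain ⟨hcΓ, hcu, y, hy, -, hyv⟩ := hN₀mem c hc
    obtain ⟨hκΓ, h1, h2⟩ := (hmemK κ).1 hκ
    refine hext _ _ (fun w hw => ?_) ?_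
    · rw [MulAut.mul_apply, MulAut.mul_apply, h1 w hw, h1 _ ((hpres c hcΓ w).2 hw)]
    · rw [MulAut.mul_apply, MulAut.mul_apply, hcu]
      have e : c (u⁻¹ * κ u) = u⁻¹ * κ u := Subtype.ext (by
        rw [hyv, ← hKq κ hκ y hy, mul_inv_cancel_right])
      rw [map_mul, map_inv, hcu] at e
      exact mul_left_cancel e
  -- generated subgroup
  obtain ⟨L, hL⟩ : ∃ L, L = Subgroup.closure
      {l | ∃ δ ∈ F.autGroup U, ∃ c ∈ N₀, l = δ * c * δ⁻¹} := ⟨_, rfl⟩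
  have hgen : ∀ δ ∈ F.autGroup U, ∀ c ∈ N₀, δ * c * δ⁻¹ ∈ L := fun δ hδ c hc =>
    hL ▸ Subgroup.subset_closure ⟨δ, hδ, c, hc, rfl⟩
  have hN₀L : N₀ ≤ L := fun c hc => by simpa using hgen 1 (one_mem _) c hc
  have hLΓ : L ≤ F.autGroup U := by
    rw [hL, Subgroup.closure_le]
    rintro _ ⟨δ, hδ, c, hc, rfl⟩
    exact mul_mem (mul_mem hδ (hN₀mem c hc).1) (inv_mem hδ)
  have hLn : F.autGroup U ≤ Subgroup.normalizer (L : Set (MulAut U)) := by
    intro δ hδ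
    have hsub : ∀ ε ∈ F.autGroup U, ∀ l ∈ L, ε * l * ε⁻¹ ∈ L := by
      intro ε hε l hl
      have hle : L ≤ L.comap (MulAut.conj ε).toMonoidHom := by
        conv_lhs => rw [hL]
        rw [Subgroup.closure_le]
        rintro _ ⟨η, hη, c, hc, rfl⟩
        show ε * (η * c * η⁻¹) * ε⁻¹ ∈ L
        rw [show ε * (η * c * η⁻¹) * ε⁻¹ = ε * η * c * (ε * η)⁻¹ by group]
        exact hgen _ (mul_mem hε hη) c hc
      exact hle hl
    exact Subgroup.mem_normalizer_fintype (hsub δ hδ)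
  have hKL : ∀ l ∈ L, ∀ κ ∈ K, l * κ = κ * l := by
    intro l hl κ hκ
    have hle : L ≤ Subgroup.centralizer (K : Set (MulAut U)) := by
      rw [hL, Subgroup.closure_le]
      rintro _ ⟨δ, hδ, c, hc, rfl⟩
      refine Subgroup.mem_centralizer_iff.2 fun κ' hκ' => ?_
      have h1 := hcomm c hc _ (hKn _ (inv_mem hδ) κ' hκ')
      rw [inv_inv] at h1
      calc κ' * (δ * c * δ⁻¹) = δ * ((δ⁻¹ * κ' * δ) * c) * δ⁻¹ := by group
        _ = δ * (c * (δ⁻¹ * κ' * δ)) * δ⁻¹ := by rw [h1]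
        _ = δ * c * δ⁻¹ * κ' := by group
    exact ((Subgroup.mem_centralizer_iff.1 (hle hl)) κ hκ).symm
  -- elements of `L` act on `P` as elements of `E`, trivially modulo `P`
  have hLP : ∀ l ∈ L, (∃ a ∈ E.autGroup P, ∀ (y : P) (w : U), (y : Ω) = w →
      (a y : Ω) = l w) ∧ ∀ w : U, ((w⁻¹ * l w : U) : Ω) ∈ P := by
    intro l hl
    rw [hL] at hl
    induction hl using Subgroup.closure_induction with
    | mem _ h =>
      obtain ⟨δ, hδ, c, hc, rfl⟩ := h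
      obtain ⟨hcΓ, hcu, y, hy, hyP, hyv⟩ := hN₀mem c hc
      obtain ⟨d, hd, hdv⟩ := exists_aut_restrict ((mem_autGroup_iff hUS).1 hδ) hPU
        (fun v hv => (hpres δ hδ ⟨v, hPU hv⟩).2 hv)
      have ha : P.normalizerMonoidHom ⟨y, hyP⟩ ∈ E.autGroup P :=
        autInducedBy_le_autGroup hPT (Subgroup.subset_closure ⟨y, hy, fun _ => rfl⟩)
      have h1 := congr_mem_of_invariant hsi hPT hPT ((mem_autGroup_iff (hPT.trans hTS)).1 hd) ha
      rw [congr_self_eq] at h1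
      refine ⟨⟨_, h1, fun v w hvw => ?_⟩, fun w => ?_⟩
      · obtain ⟨v', rfl⟩ := d.surjective v
        obtain ⟨w', rfl⟩ := δ.surjective w
        have e : (v' : Ω) = w' := by
          have h2 : δ ⟨v', hPU v'.2⟩ = δ w' := Subtype.ext ((hdv v').symm.trans hvw)
          exact congrArg Subtype.val (δ.injective h2)
        simp only [MulAut.mul_apply, MulAut.inv_apply_self]
        rw [hdv]
        show ((δ _ : U) : Ω) = _
        congr 2
        apply Subtype.ext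
        rw [hyv, ← e]
        rfl
      · obtain ⟨w', rfl⟩ := δ.surjective w
        simp only [MulAut.mul_apply, MulAut.inv_apply_self]
        rw [← map_inv, ← map_mul]
        refine (hpres δ hδ _).2 ?_
        refine forall_div_mem hU (fun v hv => hzT v (hPT hv)) c
          (fun v hv => (hpres c hcΓ v).2 hv) (fun v hv => ?_) w'
        rw [show v = u from Subtype.ext (hv.trans hu.symm), hcu, inv_mul_cancel]
        exact P.one_mem
    | one => exact ⟨⟨1, one_mem _, fun y w h => h⟩, fun w => by simp⟩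
    | mul l l' _ _ h h' =>
      obtain ⟨⟨a, ha, hav⟩, hl2⟩ := h
      obtain ⟨⟨a', ha', hav'⟩, hl2'⟩ := h'
      refine ⟨⟨a * a', mul_mem ha ha', fun y w h => hav _ _ (hav' y w h)⟩, fun w => ?_⟩
      rw [MulAut.mul_apply, show w⁻¹ * l (l' w) = (w⁻¹ * l' w) * ((l' w)⁻¹ * l (l' w)) by group,
        Subgroup.coe_mul]
      exact P.mul_mem (hl2' w) (hl2 _)
    | inv l _ h =>
      obtain ⟨⟨a, ha, hav⟩, hl2⟩ := h
      refine ⟨⟨a⁻¹, inv_mem ha, fun y w hyw => ?_⟩, fun w => ?_⟩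
      · obtain ⟨y', rfl⟩ := a.surjective y
        obtain ⟨w', rfl⟩ := l.surjective w
        rw [MulAut.inv_apply_self, MulAut.inv_apply_self]
        have e : (⟨y', hPU y'.2⟩ : U) = w' :=
          l.injective (Subtype.ext ((hav y' ⟨y', hPU y'.2⟩ rfl).symm.trans hyw))
        exact congrArg Subtype.val e
      · have h := P.inv_mem (hl2 (l⁻¹ w))
        rw [← Subgroup.coe_inv, MulAut.apply_inv_self, mul_inv_rev, inv_inv] at h
        exact h
  have hdiffK : ∀ l ∈ F.autGroup U, ∀ l' ∈ F.autGroup U,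
      (∀ w : U, (w : Ω) ∈ P → l w = l' w) → ((u⁻¹ * l u : U) : Ω) ∈ P →
      ((u⁻¹ * l' u : U) : Ω) ∈ P → l * l'⁻¹ ∈ K := by
    intro l hl l' hl' h1 h2 h3
    have hfix : ∀ w : U, (w : Ω) ∈ P → (l * l'⁻¹) w = w := fun w hw => by
      rw [MulAut.mul_apply, h1 _ ((hpres _ (inv_mem hl') w).2 hw), MulAut.apply_inv_self]
    refine (hmemK _).2 ⟨mul_mem hl (inv_mem hl'), hfix,
      forall_div_mem hU (fun v hv => hzT v (hPT hv)) _ (fun v hv => by rw [hfix v hv]; exact hv) ?_⟩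
    intro v hv
    obtain rfl : v = u := Subtype.ext (hv.trans hu.symm)
    obtain ⟨w, hw⟩ := l'.surjective v
    rw [MulAut.mul_apply, ← hw, MulAut.inv_apply_self]
    have hq : ((v⁻¹ * w : U) : Ω) ∈ P := by
      refine (hpres l' hl' _).1 ?_
      rw [map_mul, map_inv, hw, show (l' v)⁻¹ * v = (v⁻¹ * l' v)⁻¹ by group, Subgroup.coe_inv]
      exact P.inv_mem h3
    rw [hw, show v⁻¹ * l w = (v⁻¹ * l v) * l (v⁻¹ * w) by rw [map_mul, map_inv]; group,
      Subgroup.coe_mul]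
    exact P.mul_mem h2 ((hpres l hl _).2 hq)
  -- transfer on `L`: it meets `K` trivially
  obtain ⟨M, hM⟩ : ∃ M : Subgroup L, M = (autInducedBy S U).subgroupOf L := ⟨_, rfl⟩
  obtain ⟨R, hR⟩ : ∃ R : Sylow p L, (R : Subgroup L) = M := by
    obtain ⟨R, hR⟩ := IsSylowIn.inf_normal (H := F.autGroup U) (K := autInducedBy S U) hUa.2
      (autInducedBy_le_autGroup hUS) (C := L) hLΓ hLn
    exact ⟨R, by rw [hR, hM, Subgroup.inf_subgroupOf_right]⟩
  have hidx : M.index.Coprime p := by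
    rw [Nat.coprime_comm, (Fact.out : p.Prime).coprime_iff_not_dvd]
    exact hR ▸ R.not_dvd_index
  have hN₀S : N₀ ≤ autInducedBy S U := hN₀ ▸ autInducedBy_mono hTS U
  have hMdec : ∀ m ∈ L, m ∈ autInducedBy S U → ∃ c ∈ N₀, c⁻¹ * m ∈ K := by
    intro m hmL hmS
    obtain ⟨⟨a, ha, hav⟩, hm2⟩ := hLP m hmL
    obtain ⟨s, hs, -, hsv⟩ := mem_autInducedBy_iff.1 hmS
    have haS : a ∈ autInducedBy S P := Subgroup.subset_closure ⟨s, hs, fun y => by
      rw [hav y ⟨y, hPU y.2⟩ rfl, hsv]⟩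
    have hX : autInducedBy S P ⊓ E.autGroup P = autInducedBy T P :=
      eq_autInducedBy_of_le hPa inf_le_right ((isPGroup_autInducedBy hS P).to_le inf_le_left)
        (le_inf (autInducedBy_mono hTS P) (autInducedBy_le_autGroup hPT))
    obtain ⟨y, hy, hyP, hyv⟩ := mem_autInducedBy_iff.1 (hX.le (Subgroup.mem_inf.2 ⟨haS, ha⟩))
    have hc : U.normalizerMonoidHom ⟨y, hxU y hy hyP⟩ ∈ N₀ :=
      hN₀ ▸ Subgroup.subset_closure ⟨y, hy, fun _ => rfl⟩
    refine ⟨_, hc, ?_⟩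
    obtain ⟨hcΓ, hcu, -⟩ := hN₀mem _ hc
    set c := U.normalizerMonoidHom ⟨y, hxU y hy hyP⟩ with hc'
    have h1 := hKn c⁻¹ (inv_mem hcΓ) _ (hdiffK m (hLΓ hmL) c hcΓ (fun w hw => Subtype.ext ?_)
      (hm2 u) (by rw [hcu, inv_mul_cancel]; exact P.one_mem))
    · simpa [mul_assoc] using h1
    · rw [← hav ⟨w, hw⟩ w rfl, hyv]
      rfl
  obtain ⟨N, hN⟩ : ∃ N : Subgroup M, N = (N₀.subgroupOf L).subgroupOf M := ⟨_, rfl⟩
  have hmemN : ∀ m : M, m ∈ N ↔ ((m : L) : MulAut U) ∈ N₀ := fun m => by rw [hN]; rfl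
  have hMS : ∀ m : M, ((m : L) : MulAut U) ∈ autInducedBy S U := fun m =>
    Subgroup.mem_subgroupOf.1 (hM.le m.2)
  have hfus : ∀ δ ∈ F.autGroup U, ∀ c ∈ N₀, δ * c * δ⁻¹ ∈ autInducedBy S U →
      δ * c * δ⁻¹ ∈ N₀ := by
    intro δ hδ c hc h
    obtain ⟨hcΓ, -, y, hy, hyP, hyv⟩ := hN₀mem c hc
    have hI := (mem_autGroup_iff hUS).1 hδ
    rw [← congr_self_eq] at h
    have hyE := mem_extender_of_congr (e := δ) (g := y)
      (Subgroup.mem_inf.2 ⟨hTS hy, hxU y hy hyP⟩) hyv h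
    obtain ⟨ψ, hψ, hψv⟩ := exists_extension hUr hI le_rfl
    set y' := ψ ⟨y, hyE⟩ with hy'
    have hy'T : y' ∈ T := stronglyClosed_apply hsc hψ hy
    rw [hN₀, ← congr_self_eq]
    refine Subgroup.subset_closure ⟨y', hy'T, fun w => ?_⟩
    obtain ⟨w', rfl⟩ := δ.surjective w
    rw [congr_apply]
    have hle := le_extender (φ := U.subtype.comp δ.toMonoidHom) hUS
      (fun v => hUS (δ v).2)
    have e : (⟨(c w' : Ω), hle (c w').2⟩ :
        extender S U (U.subtype.comp δ.toMonoidHom)) =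
        ⟨y, hyE⟩ * ⟨w', hle w'.2⟩ * ⟨y, hyE⟩⁻¹ := Subtype.ext (hyv w')
    rw [hy', ← hψv (c w') (hle (c w').2), ← hψv w' (hle w'.2), e, map_mul, map_mul, map_inv]
  haveI hNn : N.Normal := ⟨fun a ha b => by
    rw [hmemN] at ha ⊢
    exact hfus _ (hLΓ (b : L).2) _ ha (hMS (b * a * b⁻¹))⟩
  have hKcomm : ∀ κ ∈ K, ∀ κ' ∈ K, κ * κ' = κ' * κ := by
    intro κ hκ κ' hκ'
    obtain ⟨-, h1, h2⟩ := (hmemK κ).1 hκ
    obtain ⟨-, h1', h2'⟩ := (hmemK κ').1 hκ'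
    refine hext _ _ (fun w hw => by rw [MulAut.mul_apply, MulAut.mul_apply, h1' w hw, h1 w hw,
      h1' w hw]) ?_
    have e : κ u = u * (u⁻¹ * κ u) := by group
    have e' : κ' u = u * (u⁻¹ * κ' u) := by group
    have hc2 : (u⁻¹ * κ' u) * (u⁻¹ * κ u) = (u⁻¹ * κ u) * (u⁻¹ * κ' u) :=
      Subtype.ext (hKq κ' hκ' _ (hPT (h2 u)))
    calc (κ * κ') u = κ (u * (u⁻¹ * κ' u)) := by rw [← e', MulAut.mul_apply]
      _ = u * (u⁻¹ * κ u) * (u⁻¹ * κ' u) := by rw [map_mul, h1 _ (h2' u), ← e]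
      _ = u * (u⁻¹ * κ' u) * (u⁻¹ * κ u) := by rw [mul_assoc, ← hc2, ← mul_assoc]
      _ = κ' (u * (u⁻¹ * κ u)) := by rw [map_mul, h1' _ (h2 u), ← e']
      _ = (κ' * κ) u := by rw [← e, MulAut.mul_apply]
  letI : CommGroup (M ⧸ N) :=
    { (inferInstance : Group (M ⧸ N)) with
      mul_comm := fun a b => by
        obtain ⟨m, rfl⟩ := QuotientGroup.mk'_surjective N a
        obtain ⟨m', rfl⟩ := QuotientGroup.mk'_surjective N b
        obtain ⟨c, hc, hk⟩ := hMdec _ (m : L).2 (hMS m)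
        obtain ⟨c', hc', hk'⟩ := hMdec _ (m' : L).2 (hMS m')
        set cM : M := ⟨⟨c, hN₀L hc⟩, hM.ge (Subgroup.mem_subgroupOf.2 (hN₀S hc))⟩ with hcM
        set cM' : M := ⟨⟨c', hN₀L hc'⟩, hM.ge (Subgroup.mem_subgroupOf.2 (hN₀S hc'))⟩ with hcM'
        have h1 : QuotientGroup.mk' N cM = 1 := (QuotientGroup.eq_one_iff _).2 ((hmemN _).2 hc)
        have h2 : QuotientGroup.mk' N cM' = 1 := (QuotientGroup.eq_one_iff _).2 ((hmemN _).2 hc')
        have h3 : (cM⁻¹ * m) * (cM'⁻¹ * m') = (cM'⁻¹ * m') * (cM⁻¹ * m) :=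
          Subtype.ext (Subtype.ext (hKcomm _ hk _ hk'))
        have h4 := congrArg (QuotientGroup.mk' N) h3
        simp only [map_mul, map_inv, h1, h2, inv_one, one_mul] at h4
        exact h4 }
  let φ : M →* M ⧸ N := QuotientGroup.mk' N
  have hτ : ∀ l : L, MonoidHom.transfer φ l = 1 := by
    have hgen1 : ∀ δ ∈ F.autGroup U, ∀ c ∈ N₀, ∀ (l : L), (l : MulAut U) = δ * c * δ⁻¹ →
        MonoidHom.transfer φ l = 1 := by
      intro δ hδ c hc l hl
      have := M.fintypeQuotientOfFiniteIndex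
      have : Fintype (Quotient (MulAction.orbitRel (Subgroup.zpowers l) (L ⧸ M))) :=
        Fintype.ofFinite _
      rw [MonoidHom.transfer_eq_prod_quotient_orbitRel_zpowers_quot]
      refine Finset.prod_eq_one fun q _ => ?_
      refine (QuotientGroup.eq_one_iff _).2 ((hmemN _).2 ?_)
      have hmem := Subgroup.mem_subgroupOf.1
        (hM.le (QuotientGroup.out_conj_pow_minimalPeriod_mem M l q.out))
      simp only [Subgroup.coe_mul, SubmonoidClass.coe_pow, InvMemClass.coe_inv, hl, conj_pow]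
        at hmem ⊢
      set o := (((q.out).out : L) : MulAut U)
      set n := Function.minimalPeriod (l • ·) q.out
      have e : o⁻¹ * (δ * c ^ n * δ⁻¹) * o = o⁻¹ * δ * c ^ n * (o⁻¹ * δ)⁻¹ := by group
      rw [e] at hmem ⊢
      exact hfus _ (mul_mem (inv_mem (hLΓ (q.out).out.2)) hδ) _ (pow_mem hc n) hmem
    intro l
    have hle : L ≤ ((MonoidHom.transfer φ).ker).map L.subtype := by
      conv_lhs => rw [hL]
      rw [Subgroup.closure_le]
      rintro _ ⟨δ, hδ, c, hc, rfl⟩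
      exact ⟨⟨_, hgen δ hδ c hc⟩, hgen1 δ hδ c hc _ rfl, rfl⟩
    obtain ⟨l', hl', he⟩ := hle l.2
    exact Subtype.ext he ▸ hl'
  have hLK : ∀ κ ∈ L, κ ∈ K → κ = 1 := by
    intro κ hκL hκ
    obtain ⟨-, h1, h2⟩ := (hmemK κ).1 hκ
    have hκM : (⟨κ, hκL⟩ : L) ∈ M := hM.ge (Subgroup.mem_subgroupOf.2 (hKS hκ))
    have hkey : ∀ (k : ℕ) (g₀ : L), g₀⁻¹ * (⟨κ, hκL⟩ : L) ^ k * g₀ ∈ M →
        g₀⁻¹ * (⟨κ, hκL⟩ : L) ^ k * g₀ = (⟨κ, hκL⟩ : L) ^ k := fun k g₀ _ => by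
      refine Subtype.ext ?_
      rw [Subgroup.coe_mul, Subgroup.coe_mul, Subgroup.coe_inv, Subgroup.coe_pow, mul_assoc,
        ← hKL g₀ g₀.2 _ (pow_mem hκ k), inv_mul_cancel_left]
    have h3 := hτ ⟨κ, hκL⟩
    rw [MonoidHom.transfer_eq_pow φ _ hkey, QuotientGroup.mk'_apply, QuotientGroup.eq_one_iff,
      hmemN] at h3
    have h4 : κ ^ M.index = 1 := by
      have h3' : κ ^ M.index ∈ N₀ := h3
      obtain ⟨-, hcu, -⟩ := hN₀mem _ h3'
      exact hext _ _ (fun w hw => ((hmemK _).1 (pow_mem hκ M.index)).2.1 w hw) hcu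
    obtain ⟨k, hk⟩ := hKp ⟨κ, hκ⟩
    exact orderOf_eq_one_iff.1 (Nat.eq_one_of_dvd_coprimes (hidx.pow_right k)
      (orderOf_dvd_of_pow_eq_one h4) (orderOf_dvd_of_pow_eq_one (congrArg Subtype.val hk)))
  have hMN : ∀ m ∈ L, m ∈ autInducedBy S U → m u = u := by
    intro m hmL hmS
    obtain ⟨c, hc, hk⟩ := hMdec m hmL hmS
    have h1 := hLK _ (mul_mem (inv_mem (hN₀L hc)) hmL) hk
    rw [inv_mul_eq_one] at h1
    exact h1 ▸ (hN₀mem c hc).2.1
  -- conclusion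
  have hc : U.normalizerMonoidHom ⟨x, hxU x hx hxP⟩ ∈ N₀ :=
    hN₀ ▸ Subgroup.subset_closure ⟨x, hx, fun _ => rfl⟩
  obtain ⟨hcΓ, -, -⟩ := hN₀mem _ hc
  set c := U.normalizerMonoidHom ⟨x, hxU x hx hxP⟩ with hc'
  set k := γ⁻¹ * c * γ with hk
  have hkL : k ∈ L := by
    have := hgen γ⁻¹ (inv_mem hγ) c hc
    rwa [inv_inv] at this
  suffices hku : k u = u by
    rw [hk, MulAut.mul_apply, MulAut.mul_apply] at hku
    have h1 : c (γ u) = γ u := by
      have := congrArg γ hku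
      rwa [MulAut.apply_inv_self] at this
    have h2 : x * (γ u : Ω) * x⁻¹ = γ u := congrArg Subtype.val h1
    exact mul_inv_eq_iff_eq_mul.1 h2
  -- `k` is conjugate in `L` into `Aut_S(U)`
  have hkp : IsPGroup p (Subgroup.zpowers (⟨k, hkL⟩ : L)) := by
    obtain ⟨j, hj⟩ := (isPGroup_autInducedBy hS U) ⟨c, hN₀S hc⟩
    refine isPGroup_zpowers_of_pow_eq_one (k := j) (Subtype.ext ?_)
    show (γ⁻¹ * c * γ) ^ p ^ j = 1
    rw [show γ⁻¹ * c * γ = γ⁻¹ * c * γ⁻¹⁻¹ by rw [inv_inv], conj_pow,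
      show c ^ p ^ j = 1 from congrArg Subtype.val hj, mul_one, mul_inv_cancel]
  obtain ⟨l, hl⟩ := exists_conj_mem_sylow R hkp
  have h1 := hl _ (Subgroup.mem_zpowers _)
  rw [hR] at h1
  have h2 : (l : MulAut U) * k * (l : MulAut U)⁻¹ ∈ autInducedBy S U :=
    Subgroup.mem_subgroupOf.1 (hM.le h1)
  set l' := (l : MulAut U)⁻¹ with hl'
  have hl'L : l' ∈ L := inv_mem l.2
  have h3 : k (l' u) = l' u := by
    have h4 := hMN _ (mul_mem (mul_mem l.2 hkL) (inv_mem l.2)) h2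
    rw [MulAut.mul_apply, MulAut.mul_apply, ← hl'] at h4
    have := congrArg l' h4
    rwa [hl', MulAut.inv_apply_self, ← hl'] at this
  -- lift the restriction of `l'` fixing `z`
  obtain ⟨⟨a, ha, hav⟩, hl2⟩ := hLP l' hl'L
  obtain ⟨ψ, hψ, hψa, hψz⟩ := hz.2 P _ ((mem_autGroup_iff hPT).1 ha)
  have hψU : ∀ v (hv : v ∈ P ⊔ Subgroup.zpowers z), ψ ⟨v, hv⟩ ∈ P ⊔ Subgroup.zpowers z := by
    intro v hv
    refine forall_mem_sup ψ le_sup_left le_sup_right (fun y hy => ?_) (fun y hy => ?_) hv hv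
    · rw [hψa ⟨y, hy⟩]; exact Subgroup.mem_sup_left (a ⟨y, hy⟩).2
    · obtain ⟨i, rfl⟩ := Subgroup.mem_zpowers_iff.1 hy
      rw [show (⟨z ^ i, Subgroup.mem_sup_right hy⟩ : ↥(P ⊔ Subgroup.zpowers z)) =
        ⟨z, Subgroup.mem_sup_right (Subgroup.mem_zpowers z)⟩ ^ i from Subtype.ext (by simp),
        map_zpow, hψz]
      exact Subgroup.mem_sup_right hy
  obtain ⟨h, hh, hhv⟩ := exists_aut_restrict hψ (P := U) hU.le
    (fun v hv => hU.ge (hψU v (hU.le hv)))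
  have hhu : h u = u := Subtype.ext (by
    rw [hhv]
    exact (congrArg ψ (Subtype.ext hu)).trans (hψz.trans hu.symm))
  have hhP : ∀ w : U, (w : Ω) ∈ P → h w = l' w := fun w hw => Subtype.ext (by
    rw [hhv, ← hav ⟨w, hw⟩ w rfl]
    exact hψa ⟨w, hw⟩)
  have hκ := hdiffK l' (hLΓ hl'L) h hh (fun w hw => (hhP w hw).symm) (hl2 u)
    (by rw [hhu, inv_mul_cancel]; exact P.one_mem)
  set κ := l' * h⁻¹ with hκ'
  have hκu : κ u = l' u := by
    rw [hκ', MulAut.mul_apply]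
    conv_lhs => rw [← hhu, MulAut.inv_apply_self]
  rw [← hκu] at h3
  have h5 : κ (k u) = k (κ u) := congrArg (· u) (hKL k hkL κ hκ).symm
  rw [h3] at h5
  exact κ.injective h5

end CfsgLib.Fusion
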