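import Cfsg.Agent.Fusion.Saturation
import Cfsg.Agent.FusionSub.Extension

/-!
# Maps agreeing on a centric subgroup
-/

set_option autoImplicit false

namespace CfsgLib.Fusion

open Cfsg Cfsg.FusionSystem

variable {Ω : Type*} [Group Ω] {S : Subgroup Ω} {F : FusionSystem S} {P : Subgroup Ω} {p : ℕ}

/-- Two maps with source `P` agreeing on a centric subgroup `Q ≤ P` differ by conjugation by an
element of `Z(Q)`. -/
theorem exists_center_conj_of_agree [Finite S] [Fact p.Prime] (hS : IsPGroup p S)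
    (hF : F.IsSaturated p) {Q : Subgroup Ω} (hQP : Q ≤ P) (hQ : F.IsCentric Q) {φ φ' : P →* Ω}
    (hφ : φ ∈ F.Hom P) (hφ' : φ' ∈ F.Hom P) (h : ∀ x : P, (x : Ω) ∈ Q → φ x = φ' x) :
    ∃ z : P, (z : Ω) ∈ Q ∧ (z : Ω) ∈ Subgroup.centralizer (Q : Set Ω) ∧
      ∀ y : P, φ' y = φ (z * y * z⁻¹) := by
  have hPS := CfsgLib.Fusion.le_left hφ
  haveI := CfsgLib.Fusion.finite_of_le hPS
  induction hd : Nat.card P - Nat.card Q using Nat.strong_induction_on generalizing Q φ with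
  | _ d ih =>
  rcases hQP.eq_or_lt with rfl | hlt
  · exact ⟨1, one_mem _, one_mem _, fun y => by simp [h y y.2]⟩
  have hlt' := CfsgLib.Fusion.lt_normalizerIn (hS.to_le hPS) hlt
  have hAP : Cfsg.FusionSystem.normalizerIn P Q ≤ P := inf_le_left
  obtain ⟨z₁, hz₁, hz₁v⟩ := CfsgLib.FusionSub.exists_conj_of_agree hS hF hQ
    (CfsgLib.Fusion.le_normalizerIn hQP) (inf_le_inf_right _ hPS)
    (CfsgLib.Fusion.restrict_mem hφ hAP) (CfsgLib.Fusion.restrict_mem hφ' hAP)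
    (fun x hx => h ⟨x, hAP x.2⟩ hx)
  let z : P := ⟨z₁, hQP hz₁⟩
  have hφz : φ.comp (MulAut.conj z).toMonoidHom ∈ F.Hom P :=
    CfsgLib.Fusion.mem_of_comp (F.conj_mem hPS (hPS z.2)) hφ
      (fun x => P.mul_mem (P.mul_mem z.2 x.2) (P.inv_mem z.2)) fun x => rfl
  obtain ⟨z₂, hz₂, hz₂C, hz₂v⟩ := ih (Nat.card P - Nat.card (Cfsg.FusionSystem.normalizerIn P Q))
    (by
      have h1 : Nat.card Q < Nat.card (Cfsg.FusionSystem.normalizerIn P Q) := by
        haveI := CfsgLib.Fusion.finite_of_le (hAP.trans hPS)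
        exact Set.Finite.card_lt_card (Set.toFinite _) hlt'
      have h2 : Nat.card (Cfsg.FusionSystem.normalizerIn P Q) ≤ Nat.card P :=
        Subgroup.card_le_of_le hAP
      omega)
    hAP (CfsgLib.Fusion.isCentric_of_le hQ hlt'.le (hAP.trans hPS)) hφz
    (fun x hx => (hz₁v ⟨x, hx⟩).symm) rfl
  have hz₂Q : (z₂ : Ω) ∈ Q := CfsgLib.Fusion.centralizerIn_le_of_centric hQ
    ⟨hPS z₂.2, Subgroup.centralizer_le hlt'.le hz₂C⟩
  have hv : ∀ y : P, φ' y = φ (z * z₂ * y * (z * z₂)⁻¹) := fun y => by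
    rw [hz₂v y]
    show φ (z * (z₂ * y * z₂⁻¹) * z⁻¹) = _
    simp [mul_assoc]
  refine ⟨z * z₂, Q.mul_mem hz₁ hz₂Q, Subgroup.mem_centralizer_iff.2 fun q hq => ?_, hv⟩
  have h1 := hv ⟨q, hQP hq⟩
  rw [← h ⟨q, hQP hq⟩ hq] at h1
  have h2 := congrArg (fun w : P => (w : Ω)) (F.injective_of_mem hφ h1)
  exact (eq_mul_inv_iff_mul_eq.1 h2)

end CfsgLib.Fusion
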