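import Cfsg.Agent.ZStar.Theorem
import Cfsg.Agent.Fusion.Sylow
import Cfsg.Agent.PLocal.Cores

/-!
# The Z*-theorem for elements of 2-power order
-/

set_option autoImplicit false

namespace CfsgLib.Fusion

open Cfsg

universe u

/-- An element isolated in a Sylow subgroup stays so in a quotient. -/
theorem mk_eq_of_conj_mem_sup {G : Type u} [Group G] [Finite G] {p : ℕ} [Fact p.Prime]
    (P : Sylow p G) {x : G} (hx : x ∈ P) (hiso : ∀ g : G, g * x * g⁻¹ ∈ P → g * x * g⁻¹ = x)
    (N : Subgroup G) [N.Normal] (g : G)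
    (h : g * x * g⁻¹ ∈ (P : Subgroup G) ⊔ N) :
    QuotientGroup.mk' N (g * x * g⁻¹) = QuotientGroup.mk' N x := by
  have hL : IsSylowIn p ((P : Subgroup G) ⊔ N) (P : Subgroup G) :=
    (isSylowIn_top P).mono le_sup_left le_top
  have hxy : Subgroup.zpowers (g * x * g⁻¹) =
      (Subgroup.zpowers x).map (MulAut.conj g).toMonoidHom := by
    rw [MonoidHom.map_zpowers]; rfl
  obtain ⟨a, ha, haP⟩ := hL.exists_conj (Subgroup.zpowers_le.2 h)
    (hxy ▸ (P.2.to_le (Subgroup.zpowers_le.2 hx)).map _)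
  obtain ⟨s, hs, n, hn, rfl⟩ := Subgroup.mem_sup_of_normal_right.1 ha
  have h1 := haP _ (Subgroup.mem_zpowers _)
  have h2 : n * g * x * (n * g)⁻¹ = s⁻¹ * (s * n * (g * x * g⁻¹) * (s * n)⁻¹) * s := by group
  have h3 : n * g * x * (n * g)⁻¹ ∈ P := by
    rw [h2]; exact mul_mem (mul_mem (inv_mem hs) h1) hs
  have h4 : QuotientGroup.mk' N n = 1 := (QuotientGroup.eq_one_iff n).2 hn
  have h5 := congrArg (QuotientGroup.mk' N) (hiso _ h3)
  rw [map_mul, map_mul, map_mul, map_inv, map_mul, h4, one_mul] at h5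
  rw [map_mul, map_mul, map_inv]
  exact h5

/-- A normal subgroup which is odd modulo a central subgroup of order two, in a group with
trivial odd core, is that central subgroup. -/
theorem le_zpowers_of_odd_quotient {G : Type u} [Group G] [Finite G]
    (hO : pPrimeCore 2 G = ⊥) {z : G} (hz : z ∈ Subgroup.center G) (hz2 : orderOf z = 2)
    (W : Subgroup G) [W.Normal] (hzW : z ∈ W)
    (hodd : ((Subgroup.zpowers z).subgroupOf W).index.Coprime 2) :
    W ≤ Subgroup.zpowers z := by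
  have hZn : ((Subgroup.zpowers z).subgroupOf W).Normal := ⟨fun a ha b => by
    rw [Subgroup.mem_subgroupOf] at ha ⊢
    have hc : (a : G) ∈ Subgroup.center G := (Subgroup.zpowers_le.2 hz) ha
    rw [Subgroup.coe_mul, Subgroup.coe_mul, Subgroup.coe_inv,
      Subgroup.mem_center_iff.1 hc (b : G), mul_inv_cancel_right]
    exact ha⟩
  have hcard : Nat.card ((Subgroup.zpowers z).subgroupOf W) = 2 := by
    rw [Nat.card_congr (Subgroup.subgroupOfEquivOfLe (Subgroup.zpowers_le.2 hzW)).toEquiv,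
      Nat.card_zpowers, hz2]
  obtain ⟨K, hK⟩ := Subgroup.exists_right_complement'_of_coprime
    (N := (Subgroup.zpowers z).subgroupOf W) (by rw [hcard]; exact hodd.symm)
  have hKcard : (Nat.card K).Coprime 2 := by
    have := hK.symm.index_eq_card
    rw [← this]
    exact hodd
  have hsq : ∀ w : W, w * w ∈ K := by
    intro w
    obtain ⟨⟨a, k⟩, rfl⟩ := hK.2 w
    have ha2 : (a : W) ^ 2 = 1 := by
      have : a ^ 2 = 1 := hcard ▸ pow_card_eq_one'
      simpa using congrArg Subtype.val this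
    have hc : Commute (a : W) (k : W) :=
      Subtype.ext (Subgroup.mem_center_iff.1 ((Subgroup.zpowers_le.2 hz) a.2) (k : W)).symm
    have h : ((a : W) * k) ^ 2 = (k : W) ^ 2 := by rw [hc.mul_pow, ha2, one_mul]
    rw [← sq]
    exact h.symm ▸ pow_mem k.2 2
  have hKmem : ∀ w : W, Odd (orderOf w) → w ∈ K := by
    intro w ⟨m, hm⟩
    have h := pow_orderOf_eq_one w
    rw [hm, pow_succ, pow_mul, sq, mul_eq_one_iff_eq_inv] at h
    have h' := K.inv_mem (K.pow_mem (hsq w) m)
    rwa [h, inv_inv] at h'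
  have hn : (K.map W.subtype).Normal := ⟨by
    rintro _ ⟨k, hk, rfl⟩ g
    refine ⟨⟨g * k * g⁻¹, Subgroup.Normal.conj_mem inferInstance _ k.2 g⟩, hKmem _ ?_, rfl⟩
    have : orderOf (⟨g * k * g⁻¹, Subgroup.Normal.conj_mem inferInstance _ k.2 g⟩ : W) =
        orderOf k := by
      rw [← orderOf_injective W.subtype W.subtype_injective,
        ← orderOf_injective W.subtype W.subtype_injective k]
      exact (MulEquiv.orderOf_eq (MulAut.conj g) (k : G))
    rw [this]
    exact (Nat.coprime_two_right.1 hKcard).of_dvd_nat (Subgroup.orderOf_dvd_natCard _ hk)⟩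
  have hbot : K = ⊥ := by
    have h := PLocal.le_pPrimeCore (p := 2) (N := K.map W.subtype)
      (by rwa [Subgroup.card_map_of_injective W.subtype_injective])
    rw [hO, le_bot_iff, Subgroup.map_eq_bot_iff_of_injective _ W.subtype_injective] at h
    exact h
  subst hbot
  intro w hw
  exact Subgroup.mem_subgroupOf.1
    ((Subgroup.isComplement'_bot_right.1 hK).symm ▸ Subgroup.mem_top (⟨w, hw⟩ : W))

/-- The Z*-theorem for an element of 2-power order isolated in a Sylow 2-subgroup. -/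
theorem conj_eq_mod_oddCore : ∀ (n : ℕ) {G : Type u} [Group G] [Finite G] (P : Sylow 2 G) (x : G),
    x ∈ P → orderOf x ≤ n → (∀ g : G, g * x * g⁻¹ ∈ P → g * x * g⁻¹ = x) →
      ∀ g : G, QuotientGroup.mk' (oddCore G) (g * x * g⁻¹) = QuotientGroup.mk' (oddCore G) x := by
  intro n
  induction n using Nat.strong_induction_on with
  | _ n ih =>
  intro G _ _ P x hx hn hiso g
  rcases eq_or_ne x 1 with rfl | hx1
  · simp
  obtain ⟨k, hk⟩ := IsPGroup.iff_orderOf.1 P.2 ⟨x, hx⟩
  rw [Subgroup.orderOf_mk] at hk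
  have hk0 : k ≠ 0 := by
    rintro rfl
    exact hx1 (orderOf_eq_one_iff.1 (by simpa using hk))
  obtain ⟨m, rfl⟩ := Nat.exists_eq_succ_of_ne_zero hk0
  rw [pow_succ] at hk
  set u := x ^ (2 ^ m) with hu
  have hu2 : orderOf u = 2 := by
    rw [hu, orderOf_pow_of_dvd (by positivity) (hk ▸ Dvd.intro 2 rfl), hk,
      Nat.mul_div_cancel_left _ (by positivity)]
  have huP : u ∈ P := pow_mem hx _
  -- `x` is central in the Sylow subgroup, so its powers are isolated there
  have hxc : ∀ s ∈ (P : Subgroup G), s * x * s⁻¹ = x := fun s hs =>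
    hiso s (mul_mem (mul_mem hs hx) (inv_mem hs))
  have huiso : ∀ h : G, h * u * h⁻¹ ∈ P → h * u * h⁻¹ = u := by
    intro h hmem
    set y := h * u * h⁻¹ with hy
    set C := Subgroup.centralizer ({y} : Set G) with hC
    have hxC : x ∈ C := Subgroup.mem_centralizer_singleton_iff.2
      (mul_inv_eq_iff_eq_mul.1 (hxc y hmem)).symm
    have hx'C : h * x * h⁻¹ ∈ C := by
      rw [hC, Subgroup.mem_centralizer_singleton_iff, hy, hu]
      simp only [mul_assoc, inv_mul_cancel_left]
      rw [← mul_assoc x (x ^ 2 ^ m), ← pow_succ', ← mul_assoc (x ^ 2 ^ m) x, ← pow_succ]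
    obtain ⟨Q, hQC, hQ, hmax⟩ :
        ∃ Q ≤ C, IsPGroup 2 Q ∧ IsSylowIn 2 C Q ∧ x ∈ Q := by
      have hp : IsPGroup 2 ((Subgroup.zpowers x).subgroupOf C) :=
        (P.2.to_le (Subgroup.zpowers_le.2 hx)).of_equiv
          (Subgroup.subgroupOfEquivOfLe (Subgroup.zpowers_le.2 hxC)).symm
      obtain ⟨T, hT⟩ := hp.exists_le_sylow
      refine ⟨(T : Subgroup C).map C.subtype, Subgroup.map_subtype_le _, T.2.map _,
        ⟨T, ?_⟩, ⟨⟨x, hxC⟩, hT (Subgroup.mem_subgroupOf.2 (Subgroup.mem_zpowers x)), rfl⟩⟩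
      exact (Subgroup.comap_map_eq_self_of_injective C.subtype_injective _).symm
    have hxy : Subgroup.zpowers (h * x * h⁻¹) =
        (Subgroup.zpowers x).map (MulAut.conj h).toMonoidHom := by
      rw [MonoidHom.map_zpowers]; rfl
    obtain ⟨c, hcC, hc⟩ := hmax.1.exists_conj (Subgroup.zpowers_le.2 hx'C)
      (hxy ▸ (P.2.to_le (Subgroup.zpowers_le.2 hx)).map _)
    obtain ⟨T', hT'⟩ := hQ.exists_le_sylow
    obtain ⟨d, hd⟩ := MulAction.exists_smul_eq G T' P
    have hdP : ∀ q ∈ Q, d * q * d⁻¹ ∈ P := fun q hq => by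
      rw [← hd, Sylow.smul_def]
      exact Subgroup.smul_mem_pointwise_smul q _ _ (hT' hq)
    have h1 : d * x * d⁻¹ = x := hiso d (hdP x hmax.2)
    have h2 := hdP _ (hc _ (Subgroup.mem_zpowers _))
    have e : d * (c * (h * x * h⁻¹) * c⁻¹) * d⁻¹ = (d * c * h) * x * (d * c * h)⁻¹ := by group
    rw [e] at h2
    have h3 := hiso _ h2
    rw [← e] at h3
    conv_rhs at h3 => rw [← h1]
    have h4 : c * (h * x * h⁻¹) * c⁻¹ = x := mul_left_cancel (mul_right_cancel h3)
    have h5 : c * y * c⁻¹ = u := by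
      have := congrArg (fun t => t ^ 2 ^ m) h4
      simp only [conj_pow, ← hu, ← hy] at this
      exact this
    rwa [mul_inv_eq_iff_eq_mul.2 (Subgroup.mem_centralizer_singleton_iff.1 hcC)] at h5
  obtain ⟨N, hN, hNodd, hNu⟩ := CfsgLib.ZStar.exists_oddNormal_of_sylow P hu2 huP huiso
  have hNO : N ≤ oddCore G := PLocal.le_pPrimeCore (Nat.coprime_two_right.2 hNodd)
  set π := QuotientGroup.mk' (oddCore G) with hπ
  have hπs : Function.Surjective π := QuotientGroup.mk'_surjective _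
  have hzc : π u ∈ Subgroup.center (G ⧸ oddCore G) := by
    refine Subgroup.mem_center_iff.2 fun b => ?_
    obtain ⟨b, rfl⟩ := hπs b
    have h1 : π (u * b * u⁻¹ * b⁻¹) = 1 := (QuotientGroup.eq_one_iff _).2 (hNO (hNu b))
    rw [map_mul, map_mul, map_mul, map_inv, map_inv, mul_inv_eq_one, mul_inv_eq_iff_eq_mul] at h1
    exact h1.symm
  have huO : u ∉ oddCore G := fun h => by
    have h1 := (PLocal.coprime_card_pPrimeCore 2 G).coprime_dvd_left
      (Subgroup.orderOf_dvd_natCard _ h)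
    rw [hu2] at h1
    norm_num at h1
  have hz2 : orderOf (π u) = 2 := by
    refine orderOf_eq_prime ?_ fun h => huO ((QuotientGroup.eq_one_iff u).1 h)
    exact (map_pow π u 2).symm.trans ((congrArg π (orderOf_dvd_iff_pow_eq_one.1 hu2.dvd)).trans (map_one π))
  -- the quotient by the central involution
  have hZn : (Subgroup.zpowers (π u)).Normal := ⟨fun a ha b => by
    rwa [Subgroup.mem_center_iff.1 ((Subgroup.zpowers_le.2 hzc) ha) b, mul_inv_cancel_right]⟩
  set ρ := QuotientGroup.mk' (Subgroup.zpowers (π u)) with hρ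
  have hρs : Function.Surjective ρ := QuotientGroup.mk'_surjective _
  set M := (ρ.comp π).ker with hM
  have hsurj : Function.Surjective (ρ.comp π) := hρs.comp hπs
  set P' : Sylow 2 _ := P.mapSurjective hsurj with hP'
  have hP'iso : ∀ b, b * (ρ.comp π x) * b⁻¹ ∈ P' → b * (ρ.comp π x) * b⁻¹ = ρ.comp π x := by
    intro b hb
    obtain ⟨b, rfl⟩ := hsurj b
    rw [← map_inv, ← map_mul, ← map_mul] at hb ⊢
    obtain ⟨s, hs, he⟩ := hb
    have hsup : b * x * b⁻¹ ∈ (P : Subgroup G) ⊔ M := by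
      have : b * x * b⁻¹ = s * (s⁻¹ * (b * x * b⁻¹)) := by group
      rw [this]
      exact Subgroup.mul_mem_sup hs (MonoidHom.mem_ker.2
        (by rw [map_mul, map_inv, he, inv_mul_cancel]))
    have h1 := mk_eq_of_conj_mem_sup P hx hiso M b hsup
    rw [QuotientGroup.mk'_apply, QuotientGroup.mk'_apply, QuotientGroup.eq] at h1
    have h2 := MonoidHom.mem_ker.1 h1
    rw [map_mul, map_inv, inv_mul_eq_one] at h2
    exact h2
  have hord : orderOf (ρ.comp π x) ≤ 2 ^ m := by
    refine orderOf_le_of_pow_eq_one (by positivity) ?_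
    rw [← map_pow, ← hu]
    exact (QuotientGroup.eq_one_iff _).2 (Subgroup.mem_zpowers _)
  have hlt : 2 ^ m < n := lt_of_lt_of_le (by
    have : 0 < 2 ^ m := by positivity
    omega) (hk ▸ hn)
  have hih := ih _ hlt P' (ρ.comp π x) ⟨x, hx, rfl⟩ hord hP'iso (ρ.comp π g)
  set W := (oddCore ((G ⧸ oddCore G) ⧸ Subgroup.zpowers (π u))).comap ρ with hW
  have hWn : W.Normal := by
    exact Subgroup.Normal.comap inferInstance ρ
  have hZW : Subgroup.zpowers (π u) ≤ W := fun a ha =>
    Subgroup.mem_comap.2 (by rw [show ρ a = 1 from (QuotientGroup.eq_one_iff a).2 ha]; exact one_mem _)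
  have hidx : ((Subgroup.zpowers (π u)).subgroupOf W).index.Coprime 2 := by
    have h1 := (PLocal.coprime_card_pPrimeCore 2 ((G ⧸ oddCore G) ⧸ Subgroup.zpowers (π u)))
    have h2 : ((Subgroup.zpowers (π u)).subgroupOf W).index =
        Nat.card (oddCore ((G ⧸ oddCore G) ⧸ Subgroup.zpowers (π u))) := by
      have e : (Subgroup.zpowers (π u)).subgroupOf W = (ρ.comp W.subtype).ker := by
        ext a
        rw [Subgroup.mem_subgroupOf, MonoidHom.mem_ker, MonoidHom.comp_apply]
        exact ((QuotientGroup.eq_one_iff (a : G ⧸ oddCore G)).symm)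
      rw [e, Subgroup.index_ker, MonoidHom.range_comp, Subgroup.range_subtype, hW,
        Subgroup.map_comap_eq_self_of_surjective hρs]
    rw [h2]
    exact h1
  have hWle := le_zpowers_of_odd_quotient
    (PLocal.pPrimeCore_quotient_pPrimeCore_eq_bot 2 G) hzc hz2 W (hZW (Subgroup.mem_zpowers _))
    hidx
  have hmemW : (π x)⁻¹ * π (g * x * g⁻¹) ∈ W := by
    rw [hW, Subgroup.mem_comap, map_mul, map_inv]
    have h1 := QuotientGroup.eq.1 hih.symm
    simpa [mul_assoc] using h1
  obtain ⟨i, hi⟩ := Subgroup.mem_zpowers_iff.1 (hWle hmemW)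
  refine mk_eq_of_conj_mem_sup P hx hiso (oddCore G) g ?_
  have : (x * u ^ i)⁻¹ * (g * x * g⁻¹) ∈ oddCore G := by
    refine (QuotientGroup.eq_one_iff _).1 ?_
    show π _ = 1
    rw [map_mul, map_inv, map_mul, map_zpow, hi, mul_inv_cancel_left, inv_mul_cancel]
  have e : g * x * g⁻¹ = (x * u ^ i) * ((x * u ^ i)⁻¹ * (g * x * g⁻¹)) := by group
  rw [e]
  exact Subgroup.mul_mem_sup (mul_mem hx (zpow_mem huP i)) this

end CfsgLib.Fusion
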