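import Cfsg.Agent.Fusion.CentralizerSubsystemMain

/-!
# The centralizer `C_S(E)` of a normal subsystem

`exists_centralizer_of_normal`: the subgroup generated by the fixed elements is the largest
subgroup of `C_S(T)` whose centralizer system contains `E`, and it is strongly closed.
-/

set_option autoImplicit false

namespace CfsgLib.Fusion

open Cfsg Cfsg.FusionSystem

variable {Ω : Type*} [Group Ω] {S T C : Subgroup Ω} {F : FusionSystem S} {p : ℕ}

/-- The maps of `E` with an extension fixing `C` form a system over `T`. -/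
def fixSystem (F : FusionSystem S) (E : FusionSystem T) (C : Subgroup Ω)
    (hTS : T ≤ S) (hC : C ≤ centralizerIn S T) : FusionSystem T where
  Hom P := {φ | φ ∈ E.Hom P ∧ ∃ ψ ∈ F.Hom (P ⊔ C),
    (∀ x : P, ψ (Subgroup.inclusion le_sup_left x) = φ x) ∧
      ∀ c : C, ψ (Subgroup.inclusion le_sup_right c) = c}
  le_of_mem h := E.le_of_mem h.1
  injective_of_mem h := E.injective_of_mem h.1
  conj_mem := by
    intro P t hP ht
    refine ⟨E.conj_mem hP ht, conjHom (P ⊔ C) t,
      F.conj_mem (sup_le (hP.trans hTS) (hC.trans inf_le_left)) (hTS ht), fun x => rfl, fun c => ?_⟩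
    show t * (c : Ω) * t⁻¹ = c
    rw [(mem_centralizerIn.1 (hC c.2)).2 t ht, mul_inv_cancel_right]
  comp_mem := by
    rintro P R φ χ ⟨hφ, ψ, hψ, hψ₁, hψ₂⟩ ⟨hχ, ω, hω, hω₁, hω₂⟩ h
    have hmem : ∀ x, ψ x ∈ R ⊔ C := fun x =>
      forall_mem_sup ψ le_sup_left le_sup_right
        (fun v hv => Subgroup.mem_sup_left ((hψ₁ ⟨v, hv⟩).symm ▸ h ⟨v, hv⟩))
        (fun v hv => Subgroup.mem_sup_right ((hψ₂ ⟨v, hv⟩).symm ▸ hv)) x.2 x.2
    refine ⟨E.comp_mem hφ hχ h, _, F.comp_mem hψ hω hmem, fun x => ?_, fun c => ?_⟩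
    · show ω ⟨ψ _, _⟩ = χ ⟨φ x, h x⟩
      rw [← hω₁]
      exact congrArg ω (Subtype.ext (hψ₁ x))
    · show ω ⟨ψ _, _⟩ = c
      exact (congrArg ω (Subtype.ext (hψ₂ c))).trans (hω₂ c)
  inv_mem := by
    rintro P φ ⟨hφ, ψ, hψ, hψ₁, hψ₂⟩
    obtain ⟨θ, hθ, hθv⟩ := E.inv_mem hφ
    obtain ⟨e, he, hev⟩ := exists_iso hψ (range_extension hψ₁
      (imgHom_eq_of_forall le_sup_right (α := 1) fun c => hψ₂ c))
    refine ⟨θ, ⟨hθ, _, he.symm, fun y => ?_, fun c => ?_⟩, hθv⟩
    · obtain ⟨_, x, rfl⟩ := y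
      show (e.symm _ : Ω) = θ ⟨φ x, _⟩
      rw [hθv]
      refine congrArg Subtype.val ((MulEquiv.symm_apply_eq e).2 ?_ :
        e.symm _ = Subgroup.inclusion le_sup_left x)
      exact Subtype.ext ((hψ₁ x).symm.trans (hev _).symm)
    · show (e.symm _ : Ω) = c
      refine congrArg Subtype.val ((MulEquiv.symm_apply_eq e).2 ?_ :
        e.symm _ = Subgroup.inclusion le_sup_right c)
      exact Subtype.ext ((hψ₂ c).symm.trans (hev _).symm)

variable [Finite S] [Fact p.Prime]

/-- The largest subgroup of `C_S(T)` centralized by a normal subsystem; it is strongly closed. -/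
theorem exists_centralizer_of_normal (hS : IsPGroup p S) (hF : F.IsSaturated p)
    {E : FusionSystem T} (hE : E.IsNormalIn F p) :
    ∃ C : Subgroup Ω, C ≤ centralizerIn S T ∧
      (∀ P : Subgroup Ω, E.Hom P ⊆ F.centralizerHom C P) ∧
      (∀ Y : Subgroup Ω, Y ≤ centralizerIn S T →
        (∀ P : Subgroup Ω, E.Hom P ⊆ F.centralizerHom Y P) → Y ≤ C) ∧
      F.StronglyClosed C := by
  classical
  obtain ⟨⟨hEs, -, hinv⟩, hext⟩ := hE
  have hsub := hinv.1
  have hsc := hinv.2.1
  have hsi := strongInvariant_of_invariant hinv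
  have hTS : T ≤ S := hsc.1
  have hfT := finite_of_le hTS
  have hTp : IsPGroup p T := hS.to_le hTS
  obtain ⟨C, hC⟩ : ∃ C, C = Subgroup.closure {y | IsFixed F E y} := ⟨_, rfl⟩
  have hgen : ∀ y, IsFixed F E y → y ∈ C := fun y hy => hC ▸ Subgroup.subset_closure hy
  have hCT : C ≤ centralizerIn S T := by
    rw [hC, Subgroup.closure_le]; exact fun y hy => hy.1
  have hCS : C ≤ S := hCT.trans inf_le_left
  have hfC := finite_of_le hCS
  have hTC : ∀ t ∈ T, ∀ c ∈ C, c * t = t * c := fun t ht c hc =>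
    ((mem_centralizerIn.1 (hCT hc)).2 t ht).symm
  -- maps of `F` defined on `C` preserve it
  have himg : ∀ {R : Subgroup Ω} (f : R →* Ω), f ∈ F.Hom R → ∀ hCR : C ≤ R,
      ∀ c (hc : c ∈ C), f ⟨c, hCR hc⟩ ∈ C := by
    intro R f hf hCR c hc
    have hle : C ≤ (C.comap f).map R.subtype := by
      conv_lhs => rw [hC]
      rw [Subgroup.closure_le]
      exact fun y hy => ⟨⟨y, hCR (hgen y hy)⟩,
        hgen _ (isFixed_apply hS hF hEs hinv hy hf _), rfl⟩
    obtain ⟨v, hv, hvc⟩ := hle hc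
    subst hvc
    exact hv
  obtain ⟨D, hD⟩ : ∃ D, D = fixSystem F E C hTS hCT := ⟨_, rfl⟩
  have hED : E ≤ D := by
    refine le_of_step hTp hEs fun P hP IH α hα => ?_
    have hPS : P ≤ S := hP.1.trans hTS
    have hfP := finite_of_le hPS
    rcases eq_or_lt_of_le hP.1 with rfl | hlt
    · -- the extension condition
      obtain ⟨β, hβ, hβT, hβC⟩ := hext α hα
      let M : Subgroup (MulAut ↥(P ⊔ centralizerIn S P)) :=
        { carrier := {g | g ∈ F.autGroup (P ⊔ centralizerIn S P) ∧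
            (∃ a ∈ E.autGroup P, ∀ t : P, (g ⟨t, Subgroup.mem_sup_left t.2⟩ : Ω) = a t) ∧
            ∀ w : ↥(P ⊔ centralizerIn S P), (w : Ω) ∈ centralizerIn S P →
              (w : Ω)⁻¹ * (g w : Ω) ∈ P}
          one_mem' := ⟨one_mem _, ⟨1, one_mem _, fun t => rfl⟩, fun w _ => by simp⟩
          mul_mem' := by
            rintro g g' ⟨hg, ⟨a, ha, hga⟩, hgc⟩ ⟨hg', ⟨a', ha', hga'⟩, hgc'⟩
            refine ⟨mul_mem hg hg', ⟨a * a', mul_mem ha ha', fun t => ?_⟩, fun w hw => ?_⟩
            · rw [MulAut.mul_apply, show g' ⟨t, Subgroup.mem_sup_left t.2⟩ =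
                ⟨(a' t : Ω), Subgroup.mem_sup_left (a' t).2⟩ from Subtype.ext (hga' t)]
              exact hga (a' t)
            · have h1 := hgc' w hw
              have h2 := hgc w hw
              have h3 : ((g (w⁻¹ * g' w) : ↥(P ⊔ centralizerIn S P)) : Ω) ∈ P := by
                rw [show w⁻¹ * g' w = ⟨((⟨_, h1⟩ : P) : Ω), Subgroup.mem_sup_left h1⟩ from
                  Subtype.ext rfl, hga ⟨_, h1⟩]
                exact (a _).2
              rw [map_mul, map_inv, Subgroup.coe_mul, Subgroup.coe_inv] at h3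
              have h4 := P.mul_mem h2 h3
              rw [MulAut.mul_apply]
              simpa [mul_assoc] using h4
          inv_mem' := by
            rintro g ⟨hg, ⟨a, ha, hga⟩, hgc⟩
            have hinvP : ∀ t : P, (g⁻¹ ⟨t, Subgroup.mem_sup_left t.2⟩ : Ω) = a⁻¹ t := fun t => by
              have e : g⁻¹ ⟨t, Subgroup.mem_sup_left t.2⟩ =
                  ⟨(a⁻¹ t : Ω), Subgroup.mem_sup_left (a⁻¹ t).2⟩ := by
                apply g.injective
                rw [MulAut.apply_inv_self]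
                exact Subtype.ext (by rw [hga, MulAut.apply_inv_self])
              rw [e]
            refine ⟨inv_mem hg, ⟨a⁻¹, inv_mem ha, hinvP⟩, fun w hw => ?_⟩
            obtain ⟨q, hq⟩ : ∃ q : P, (q : Ω) = (w : Ω)⁻¹ * (g w : Ω) := ⟨⟨_, hgc w hw⟩, rfl⟩
            have e : g w = w * ⟨q, Subgroup.mem_sup_left q.2⟩ := Subtype.ext (by simp [hq])
            have e2 : g⁻¹ w = w * (g⁻¹ ⟨q, Subgroup.mem_sup_left q.2⟩)⁻¹ := by
              have h1 := congrArg (g⁻¹ ·) e
              simp only [MulAut.inv_apply_self, map_mul] at h1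
              rw [eq_mul_inv_iff_mul_eq]
              exact h1.symm
            rw [e2, Subgroup.coe_mul, Subgroup.coe_inv, inv_mul_cancel_left, hinvP]
            exact P.inv_mem (a⁻¹ q).2 }
      have hβM : β ∈ M := ⟨hβ, ⟨α, hα, fun t => hβT t⟩, fun w hw => (hβC w hw).1⟩
      have hfW := finite_of_le (sup_le hPS (centralizerIn_le S P) : P ⊔ centralizerIn S P ≤ S)
      obtain ⟨A, B, hA, hB, ⟨k, hk⟩, hBp, hAB⟩ := LocalStructure.exists_pPart_mul (p := p) β
      obtain ⟨hAΓ, ⟨aA, haA, hAv⟩, -⟩ := (Subgroup.zpowers_le.2 hβM) hA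
      obtain ⟨hBΓ, ⟨aB, haB, hBv⟩, hBC⟩ := (Subgroup.zpowers_le.2 hβM) hB
      have hαeq : α = aA * aB := by
        refine MulEquiv.ext fun t => Subtype.ext ?_
        rw [← hβT t, ← hAB, MulAut.mul_apply, MulAut.mul_apply]
        rw [show B (Subgroup.inclusion le_sup_left t) =
          ⟨(aB t : Ω), Subgroup.mem_sup_left (aB t).2⟩ from Subtype.ext (hBv t)]
        exact hAv (aB t)
      rw [hαeq]
      refine mul_mem ?_ ?_
      · have hpow : ∀ (n : ℕ) (t : P),
            ((A ^ n) ⟨t, Subgroup.mem_sup_left t.2⟩ : Ω) = (aA ^ n) t := by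
          intro n
          induction n with
          | zero => intro t; rfl
          | succ n ih =>
            intro t
            rw [pow_succ, pow_succ, MulAut.mul_apply, MulAut.mul_apply,
              show A ⟨t, Subgroup.mem_sup_left t.2⟩ =
                ⟨(aA t : Ω), Subgroup.mem_sup_left (aA t).2⟩ from Subtype.ext (hAv t)]
            exact ih (aA t)
        have hpa : IsPGroup p (Subgroup.zpowers aA) :=
          isPGroup_zpowers_of_pow_eq_one (k := k) (MulEquiv.ext fun t => Subtype.ext (by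
            rw [← hpow, ← hk, pow_orderOf_eq_one]; rfl))
        obtain ⟨γ, hγ, hγa⟩ := exists_conj_autInducedBy
          (automized_receptive hTp hEs hP).1 (Subgroup.zpowers_le.2 haA) hpa
        have h3 := hγa _ (Subgroup.mem_zpowers _)
        rw [← Inn_eq] at h3
        have h4 : aA ∈ Inn P := by
          simpa [mul_assoc] using (Inn_normal P).conj_mem _ h3 γ⁻¹
        exact Inn_le_autGroup le_rfl h4
      · have hfix : ∀ c (hc : c ∈ C), (B ⟨c, Subgroup.mem_sup_right (hCT hc)⟩ : Ω) = c := by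
          have hle : C ≤ ((((P ⊔ centralizerIn S P).subtype.comp B.toMonoidHom).eqLocus
              (P ⊔ centralizerIn S P).subtype)).map (P ⊔ centralizerIn S P).subtype := by
            conv_lhs => rw [hC]
            rw [Subgroup.closure_le]
            exact fun y hy => ⟨⟨y, Subgroup.mem_sup_right hy.1⟩,
              apply_eq_of_fixed hS hF hEs hinv hBΓ hBp haB hBv hBC hy, rfl⟩
          intro c hc
          obtain ⟨v, hv, hvc⟩ := hle hc
          subst hvc
          exact hv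
        refine mem_autGroup_of_le_of_eq le_rfl (φ := P.subtype.comp aB.toMonoidHom) ?_ fun t => rfl
        rw [hD]
        exact ⟨(mem_autGroup_iff le_rfl).1 haB,
          restrictHom ((P ⊔ centralizerIn S P).subtype.comp B.toMonoidHom) (sup_le_sup_left hCT P),
          restrict_mem ((mem_autGroup_iff (sup_le hPS (centralizerIn_le S P))).1 hBΓ) _,
          fun t => hBv t, fun c => hfix c c.2⟩
    · -- transport to a fully normalized subgroup
      obtain ⟨P', hP'c, hP'n⟩ := exists_fullyNormalized (F := F) hPS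
      obtain ⟨hP'a, hP'r⟩ := automized_receptive hS hF hP'n
      obtain ⟨η, hη, -, hηP⟩ := exists_map_normalizerIn hS hP'a hP'r hP'c
      have hCN : C ≤ normalizerIn S P := fun c hc => Subgroup.mem_inf.2 ⟨hCS hc,
        mem_normalizer_of_centralize fun t ht => hTC t (hP.1 ht) c hc⟩
      have hPN : P ≤ normalizerIn S P := le_normalizerIn hPS
      have hTPN : normalizerIn T P ≤ normalizerIn S P := fun x hx =>
        Subgroup.mem_inf.2 ⟨hTS hx.1, hx.2⟩
      have hP'E : E.IsFullyNormalized P' := hηP ▸ fullyNormalized_image hsc hinv hP hη hTPN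
      have hfP' := finite_of_le hP'n.1
      have hP'T : P' ≤ T := hP'E.1
      obtain ⟨hPa, hPr⟩ := automized_receptive hTp hEs hP'E
      obtain ⟨e, he, hev⟩ := exists_iso (restrict_mem hη hPN)
        ((range_restrictHom η hPN).trans hηP)
      have hcard : Nat.card P' = Nat.card P := (he.card_eq).symm
      have hlt' : P' < T := lt_of_le_of_ne hP'T fun h => by
        rw [h] at hcard
        exact hlt.ne (Subgroup.eq_of_le_of_card_ge hP.1 hcard.le)
      obtain ⟨T0, hT0⟩ : ∃ T0, T0 = autInducedBy T P' := ⟨_, rfl⟩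
      have hT0E : T0 ≤ E.autGroup P' := hT0 ▸ autInducedBy_le_autGroup hP'T
      obtain ⟨L, hL⟩ : ∃ L, L = Subgroup.closure
          {l | ∃ γ ∈ E.autGroup P', ∃ c ∈ T0, l = γ * c * γ⁻¹} := ⟨_, rfl⟩
      have hLgen : ∀ γ ∈ E.autGroup P', ∀ c ∈ T0, γ * c * γ⁻¹ ∈ L := fun γ hγ c hc =>
        hL ▸ Subgroup.subset_closure ⟨γ, hγ, c, hc, rfl⟩
      have hLE : L ≤ E.autGroup P' := by
        rw [hL, Subgroup.closure_le]
        rintro _ ⟨γ, hγ, c, hc, rfl⟩
        exact mul_mem (mul_mem hγ (hT0E hc)) (inv_mem hγ)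
      have hLn : ∀ γ ∈ E.autGroup P', ∀ l ∈ L, γ * l * γ⁻¹ ∈ L := by
        intro γ hγ l hl
        have hle : L ≤ L.comap (MulAut.conj γ).toMonoidHom := by
          conv_lhs => rw [hL]
          rw [Subgroup.closure_le]
          rintro _ ⟨δ, hδ, c, hc, rfl⟩
          show γ * (δ * c * δ⁻¹) * γ⁻¹ ∈ L
          rw [show γ * (δ * c * δ⁻¹) * γ⁻¹ = γ * δ * c * (γ * δ)⁻¹ by group]
          exact hLgen _ (mul_mem hγ hδ) c hc
        exact hle hl
      have hCP' : C ≤ centralizerIn S P' := fun c hc =>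
        mem_centralizerIn.2 ⟨hCS hc, fun t ht => (hTC t (hP'T ht) c hc).symm⟩
      have hLD : L ≤ D.autGroup P' := by
        rw [hL, Subgroup.closure_le]
        rintro _ ⟨γ, hγ, c, hc, rfl⟩
        have hcE := hT0E hc
        rw [hT0] at hc
        obtain ⟨t, ht, htN, htv⟩ := mem_autInducedBy_iff.1 hc
        have hγI : IsIso F γ := hsub P' ((mem_autGroup_iff hP'T).1 hγ)
        obtain ⟨g0, hg0, hg0v⟩ := exists_extension (T := P' ⊔ C) hP'r hγI
          (sup_le (le_extender hP'n.1 fun x => hP'n.1 (γ x).2)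
            (hCP'.trans (centralizerIn_le_extender _)))
        have hg0mem : ∀ v (hv : v ∈ P' ⊔ C), g0 ⟨v, hv⟩ ∈ P' ⊔ C := fun v hv =>
          forall_mem_sup g0 le_sup_left le_sup_right
            (fun x hx => Subgroup.mem_sup_left ((hg0v ⟨x, hx⟩ _).symm ▸ (γ ⟨x, hx⟩).2))
            (fun x hx => Subgroup.mem_sup_right (himg g0 hg0 le_sup_right x hx)) hv hv
        have hfW := finite_of_le (sup_le hP'n.1 hCS : P' ⊔ C ≤ S)
        obtain ⟨g, hg, hgv⟩ := exists_aut_restrict hg0 le_rfl hg0mem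
        obtain ⟨ct, hct, hctv⟩ := exists_aut_restrict
          (F.conj_mem (sup_le hP'n.1 hCS) (hTS ht)) le_rfl (P := P' ⊔ C) (fun v hv => by
            refine forall_mem_sup (R := P' ⊔ C) (conjHom (P' ⊔ C) t) le_sup_left le_sup_right
              (fun x hx => Subgroup.mem_sup_left ((Subgroup.mem_normalizer_iff.1 htN x).1 hx))
              (fun x hx => Subgroup.mem_sup_right ?_) hv hv
            show t * x * t⁻¹ ∈ C
            rw [← hTC t ht x hx, mul_inv_cancel_right]
            exact hx)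
        have hgC : ∀ w : ↥(P' ⊔ C), (w : Ω) ∈ C → ((g⁻¹ w : ↥(P' ⊔ C)) : Ω) ∈ C := by
          intro w hw
          exact himg _ ((mem_autGroup_iff (sup_le hP'n.1 hCS)).1 (inv_mem hg)) le_sup_right w hw
        refine mem_autGroup_of_le_of_eq hP'T (φ := P'.subtype.comp (γ * c * γ⁻¹).toMonoidHom) ?_
          fun x => rfl
        rw [hD]
        refine ⟨(mem_autGroup_iff hP'T).1 (mul_mem (mul_mem hγ hcE) (inv_mem hγ)),
          _, (mem_autGroup_iff (sup_le hP'n.1 hCS)).1
            (mul_mem (mul_mem hg hct) (inv_mem hg)), fun x => ?_, fun w => ?_⟩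
        · obtain ⟨v, rfl⟩ := γ.surjective x
          have e1 : ∀ v : P', g ⟨v, Subgroup.mem_sup_left v.2⟩ =
              ⟨(γ v : Ω), Subgroup.mem_sup_left (γ v).2⟩ := fun v =>
            Subtype.ext ((hgv _).trans (hg0v v _))
          show (((g * ct * g⁻¹) ⟨(γ v : Ω), _⟩ : ↥(P' ⊔ C)) : Ω) = ((γ * c * γ⁻¹) (γ v) : P')
          rw [← e1, MulAut.mul_apply, MulAut.mul_apply, MulAut.inv_apply_self, MulAut.mul_apply,
            MulAut.mul_apply, MulAut.inv_apply_self,
            show ct ⟨v, Subgroup.mem_sup_left v.2⟩ = ⟨(c v : Ω), Subgroup.mem_sup_left (c v).2⟩ from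
              Subtype.ext ((hctv _).trans (htv v).symm), e1]
        · show (((g * ct * g⁻¹) ⟨(w : Ω), _⟩ : ↥(P' ⊔ C)) : Ω) = w
          rw [MulAut.mul_apply, MulAut.mul_apply]
          have h1 := hgC ⟨w, Subgroup.mem_sup_right w.2⟩ w.2
          have h2 : ct (g⁻¹ ⟨w, Subgroup.mem_sup_right w.2⟩) =
              g⁻¹ ⟨w, Subgroup.mem_sup_right w.2⟩ := Subtype.ext (by
            rw [hctv]
            show t * _ * t⁻¹ = _
            show t * ((g⁻¹ ⟨(w : Ω), _⟩ : ↥(P' ⊔ C)) : Ω) * t⁻¹ = _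
            rw [← hTC t ht _ h1, mul_inv_cancel_right])
          rw [h2, MulAut.apply_inv_self]
      -- Frattini
      have hT0L : T0 ≤ L := fun c hc => by simpa using hLgen 1 (one_mem _) c hc
      have hT0p : IsPGroup p T0 := hT0 ▸ isPGroup_autInducedBy hTp P'
      obtain ⟨U, hU⟩ := IsPGroup.exists_le_sylow (P := T0.subgroupOf L) hT0p.comap_subtype
      have hUeq : (U : Subgroup L).map L.subtype = T0 := hT0 ▸ eq_autInducedBy_of_le hPa
        ((Subgroup.map_subtype_le _).trans hLE) (U.2.map _)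
        (hT0 ▸ fun z hz => ⟨⟨z, hT0L hz⟩, hU hz, rfl⟩)
      obtain ⟨α', hα'⟩ : ∃ α', α' = MulAut.congr e α := ⟨_, rfl⟩
      have hα'E : α' ∈ E.autGroup P' := hα' ▸ congr_mem_of_invariant hsi hP.1 hP'T he hα
      have hXle : T0.map (MulAut.conj α').toMonoidHom ≤ L := by
        rintro _ ⟨z, hz, rfl⟩; exact hLn _ hα'E z (hT0L hz)
      obtain ⟨l, hl⟩ := exists_conj_mem_sylow U
        (X := (T0.map (MulAut.conj α').toMonoidHom).subgroupOf L) (hT0p.map _).comap_subtype
      have hn : ∀ β ∈ T0, ((l : MulAut P') * α') * β * ((l : MulAut P') * α')⁻¹ ∈ T0 := by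
        intro β hβ
        have h1 : α' * β * α'⁻¹ ∈ T0.map (MulAut.conj α').toMonoidHom := ⟨β, hβ, rfl⟩
        have h2 := Subgroup.mem_map_of_mem L.subtype (hl ⟨_, hXle h1⟩ h1)
        rw [hUeq] at h2
        simpa [mul_assoc] using h2
      obtain ⟨x, hx, hxP⟩ := SetLike.exists_of_lt (lt_normalizerIn hTp hlt')
      have hlE : (l : MulAut P') ∈ E.autGroup P' := hLE l.2
      have hβv : ∀ y : P', (P'.normalizerMonoidHom ⟨x, hx.2⟩ y : Ω) = x * y * x⁻¹ := fun y => rfl
      have h3 := hn (P'.normalizerMonoidHom ⟨x, hx.2⟩)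
        (hT0.ge (Subgroup.subset_closure ⟨x, hx.1, hβv⟩))
      rw [hT0] at h3
      obtain ⟨Q', hPQ, ψ, hψ, hψv⟩ :=
        mem_extendable_of_congr hPr (mul_mem hlE hα'E) hx hxP hβv h3
      have hfQ := finite_of_le ((le_left hψ).trans hTS)
      have hcardQ : Nat.card P < Nat.card Q' := by
        rw [← hcard]
        refine lt_of_le_of_ne (Subgroup.card_le_of_le hPQ.le) fun e => hPQ.ne ?_
        exact Subgroup.eq_of_le_of_card_ge hPQ.le e.ge
      have hψD := IH Q' hcardQ hψ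
      have h4 : (l : MulAut P') * α' ∈ D.autGroup P' :=
        mem_autGroup_of_le_of_eq hP'T (restrict_mem hψD hPQ.le) fun y => (hψv y).symm
      have h5 : α' ∈ D.autGroup P' := by simpa using mul_mem (inv_mem (hLD l.2)) h4
      -- back to `P`
      have hD' := (mem_autGroup_iff hP'T).1 h5
      rw [hD] at hD'
      obtain ⟨-, ψ', hψ', hψ'P, hψ'C⟩ := hD'
      obtain ⟨V, hV⟩ : ∃ V, V = P ⊔ C := ⟨_, rfl⟩
      have hVN : V ≤ normalizerIn S P := hV ▸ sup_le hPN hCN
      have hηC : imgHom η C = C := by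
        refine Subgroup.eq_of_le_of_card_ge ?_ (card_imgHom (F.injective_of_mem hη) hCN).ge
        rintro _ ⟨v, hv, rfl⟩; exact himg η hη hCN v hv
      obtain ⟨e', he', he'v⟩ := exists_iso (restrict_mem hη hVN) (Q := P' ⊔ C)
        (by rw [range_restrictHom, hV, imgHom_sup η hPN hCN, hηP, hηC])
      have hmem' : ∀ w, ψ' w ∈ P' ⊔ C := fun w =>
        forall_mem_sup ψ' le_sup_left le_sup_right
          (fun x hx => Subgroup.mem_sup_left ((hψ'P ⟨x, hx⟩).symm ▸ (α' ⟨x, hx⟩).2))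
          (fun x hx => Subgroup.mem_sup_right ((hψ'C ⟨x, hx⟩).symm ▸ hx)) w.2 w.2
      have hF1 : ψ'.comp e'.toMonoidHom ∈ F.Hom V :=
        mem_of_comp he' hψ' (fun w => (e' w).2) fun w => rfl
      have hF2 := F.comp_mem hF1 he'.symm fun w => hmem' _
      subst hV
      refine mem_autGroup_of_le_of_eq hP.1 (φ := P.subtype.comp α.toMonoidHom) ?_ fun x => rfl
      rw [hD]
      refine ⟨(mem_autGroup_iff hP.1).1 hα, _, hF2, fun x => ?_, fun c => ?_⟩
      · show ((e'.symm ⟨ψ' (e' _), _⟩ : ↥(P ⊔ C)) : Ω) = α x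
        refine congrArg Subtype.val ((MulEquiv.symm_apply_eq e').2 ?_ :
          e'.symm _ = Subgroup.inclusion le_sup_left (α x))
        refine Subtype.ext ?_
        show ψ' (e' _) = (e' _ : Ω)
        have e1 : ∀ y : P, e' (Subgroup.inclusion le_sup_left y) =
            Subgroup.inclusion le_sup_left (e y) :=
          fun y => Subtype.ext ((he'v _).trans (hev y).symm)
        rw [e1, e1, hψ'P]
        show (α' (e x) : Ω) = _
        rw [hα', congr_apply]
        rfl
      · show ((e'.symm ⟨ψ' (e' _), _⟩ : ↥(P ⊔ C)) : Ω) = c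
        refine congrArg Subtype.val ((MulEquiv.symm_apply_eq e').2 ?_ :
          e'.symm _ = Subgroup.inclusion le_sup_right c)
        refine Subtype.ext ?_
        show ψ' (e' _) = (e' _ : Ω)
        have h1 : ((e' (Subgroup.inclusion le_sup_right c) : ↥(P' ⊔ C)) : Ω) ∈ C := by
          rw [he'v]; exact himg η hη hCN c c.2
        exact (congrArg ψ' (Subtype.ext rfl)).trans (hψ'C ⟨_, h1⟩)
  have hCfix : ∀ c ∈ C, IsFixed F E c := by
    refine fun c hc => ⟨hCT hc, fun P φ hφ => ?_⟩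
    have h1 := hED P hφ
    rw [hD] at h1
    obtain ⟨-, ψ, hψ, hψP, hψC⟩ := h1
    exact ⟨restrictHom ψ (sup_le_sup_left (Subgroup.zpowers_le.2 hc) P), restrict_mem hψ _,
      fun x => hψP x, hψC ⟨c, hc⟩⟩
  refine ⟨C, hCT, fun P φ hφ => ?_, fun Y hY hYE y hy => hgen y ⟨hY hy, fun P φ hφ => ?_⟩, ?_⟩
  · have h1 := hED P hφ
    rw [hD] at h1
    obtain ⟨-, ψ, hψ, hψP, hψC⟩ := h1
    refine ⟨hsub P hφ, fun x hx => ?_, fun x => ?_, ψ, hψ, hψP, hψC⟩
    · exact mem_centralizerIn.2 ⟨hTS (le_left hφ hx), fun c hc => hTC x (le_left hφ hx) c hc⟩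
    · exact mem_centralizerIn.2 ⟨hTS (apply_mem hφ x), fun c hc => hTC _ (apply_mem hφ x) c hc⟩
  · obtain ⟨-, -, -, ψ, hψ, hψP, hψY⟩ := hYE P hφ
    exact ⟨restrictHom ψ (sup_le_sup_left (Subgroup.zpowers_le.2 hy) P), restrict_mem hψ _,
      fun x => hψP x, hψY ⟨y, hy⟩⟩
  · exact ⟨hCS, fun R hR φ hφ x => hgen _ (isFixed_apply hS hF hEs hinv (hCfix x (hR x.2)) hφ x.2)⟩

end CfsgLib.Fusion
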