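import Cfsg.Agent.Fusion.CentralizerSubsystem

/-!
# Fixed elements of a normal subsystem: strong closure and the centralizer
-/

set_option autoImplicit false

namespace CfsgLib.Fusion

open Cfsg Cfsg.FusionSystem

variable {Ω : Type*} [Group Ω] {S T P Q R U : Subgroup Ω} {F : FusionSystem S}
  {E : FusionSystem T} {p : ℕ}

theorem imgHom_zpowers (f : R →* Ω) {w : Ω} (hw : w ∈ R) :
    imgHom f (Subgroup.zpowers w) = Subgroup.zpowers (f ⟨w, hw⟩) := by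
  ext y
  rw [mem_imgHom, Subgroup.mem_zpowers_iff]
  constructor
  · rintro ⟨v, hv, rfl⟩
    obtain ⟨i, hi⟩ := Subgroup.mem_zpowers_iff.1 hv
    exact ⟨i, by rw [← map_zpow]; exact congrArg f (Subtype.ext (by simp [hi]))⟩
  · rintro ⟨i, rfl⟩
    exact ⟨⟨w, hw⟩ ^ i, by simp [Subgroup.zpow_mem, Subgroup.mem_zpowers], map_zpow f _ i⟩

theorem mem_normalizer_of_centralize {A : Subgroup Ω} {x : Ω} (h : ∀ t ∈ A, x * t = t * x) :
    x ∈ Subgroup.normalizer (A : Set Ω) :=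
  Subgroup.centralizer_le_normalizer _ (Subgroup.mem_centralizer_iff.2 fun t ht => (h t ht).symm)

theorem mem_centralizerIn_zpowers {x w : Ω} :
    x ∈ centralizerIn S (Subgroup.zpowers w) ↔ x ∈ S ∧ w * x = x * w := by
  rw [mem_centralizerIn]
  refine and_congr_right fun _ => ⟨fun h => ?_, fun h v hv => ?_⟩
  · exact h w (Subgroup.mem_zpowers w)
  · obtain ⟨i, rfl⟩ := Subgroup.mem_zpowers_iff.1 hv
    exact (Commute.zpow_left (h : Commute w x) i).eq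

variable [Finite S] [Fact p.Prime]

/-- Maps defined on `T` carry fixed elements to fixed elements. -/
theorem isFixed_map (hsc : F.StronglyClosed T) (hsi : StronglyInvariant E F) {ψ : R →* Ω}
    (hψ : ψ ∈ F.Hom R) (hTR : T ≤ R) {w : Ω} (hwR : w ∈ R) (hw : IsFixed F E w) :
    IsFixed F E (ψ ⟨w, hwR⟩) := by
  have hTS : T ≤ S := hsc.1
  obtain ⟨δ, hδ, hδv⟩ := exists_aut_restrict hψ hTR
    (fun t ht => stronglyClosed_apply hsc hψ (x := ⟨t, hTR ht⟩) ht)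
  refine ⟨mem_centralizerIn.2 ⟨apply_mem hψ _, fun t ht => ?_⟩, fun P φ hφ => ?_⟩
  · obtain ⟨t', ht'⟩ := δ.surjective ⟨t, ht⟩
    have h1 : t = ψ ⟨t', hTR t'.2⟩ := by rw [← hδv t', ht']
    rw [h1, ← map_mul, ← map_mul]
    exact congrArg ψ (Subtype.ext ((mem_centralizerIn.1 hw.1).2 t' t'.2))
  have hPT : P ≤ T := le_left hφ
  have hδ' := (mem_autGroup_iff hTS).1 (inv_mem hδ)
  obtain ⟨χ, hχ, hχv⟩ := hsi P T hPT le_rfl φ hφ (apply_mem hφ) _ hδ'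
  obtain ⟨χ', hχ', hχ'P, hχ'w⟩ := hw.2 ((P.subgroupOf T).map (T.subtype.comp δ⁻¹.toMonoidHom)) χ hχ
  set y := ψ ⟨w, hwR⟩ with hy
  obtain ⟨e, he, hev⟩ := exists_iso_range hψ
  set W := P ⊔ Subgroup.zpowers y with hW
  have hTran : ∀ t : T, (t : Ω) = ψ ⟨(δ⁻¹ t : T), hTR (δ⁻¹ t).2⟩ := fun t => by
    rw [← hδv, MulAut.apply_inv_self]
  have hPran : P ≤ ψ.range := fun x hx => ⟨_, (hTran ⟨x, hPT hx⟩).symm⟩
  have hWran : W ≤ ψ.range := sup_le hPran (Subgroup.zpowers_le.2 ⟨_, rfl⟩)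
  let f₁ := restrictHom (R.subtype.comp e.symm.toMonoidHom) hWran
  have hf₁ : f₁ ∈ F.Hom W := restrict_mem he.symm hWran
  have hf₁P : ∀ x (hx : x ∈ P), f₁ ⟨x, Subgroup.mem_sup_left hx⟩ = (δ⁻¹ ⟨x, hPT hx⟩ : T) := by
    intro x hx
    show ((e.symm ⟨x, _⟩ : R) : Ω) = _
    refine congrArg Subtype.val (?_ : e.symm _ = ⟨(δ⁻¹ ⟨x, hPT hx⟩ : T), hTR (Subtype.mem _)⟩)
    exact (MulEquiv.symm_apply_eq e).2 (Subtype.ext ((hTran ⟨x, hPT hx⟩).trans (hev _).symm))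
  have hf₁y : f₁ ⟨y, Subgroup.mem_sup_right (Subgroup.mem_zpowers y)⟩ = w := by
    show ((e.symm ⟨y, _⟩ : R) : Ω) = _
    refine congrArg Subtype.val (?_ : e.symm _ = ⟨w, hwR⟩)
    exact (MulEquiv.symm_apply_eq e).2 (Subtype.ext (hev _).symm)
  have hmemP' : ∀ x (hx : x ∈ P), ((δ⁻¹ ⟨x, hPT hx⟩ : T) : Ω) ∈ ((P.subgroupOf T).map (T.subtype.comp δ⁻¹.toMonoidHom)) := fun x hx =>
    ⟨⟨x, hPT hx⟩, hx, rfl⟩
  have hwW : w ∈ ((P.subgroupOf T).map (T.subtype.comp δ⁻¹.toMonoidHom)) ⊔ Subgroup.zpowers w := Subgroup.mem_sup_right (Subgroup.mem_zpowers w)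
  have hf₁mem : ∀ x, f₁ x ∈ ((P.subgroupOf T).map (T.subtype.comp δ⁻¹.toMonoidHom)) ⊔ Subgroup.zpowers w := fun x => by
    refine forall_mem_sup f₁ le_sup_left le_sup_right (fun v hv => ?_) (fun v hv => ?_) x.2 x.2
    · rw [hf₁P v hv]; exact Subgroup.mem_sup_left (hmemP' v hv)
    · obtain ⟨i, rfl⟩ := Subgroup.mem_zpowers_iff.1 hv
      rw [show (⟨y ^ i, Subgroup.mem_sup_right hv⟩ : W) =
        ⟨y, Subgroup.mem_sup_right (Subgroup.mem_zpowers y)⟩ ^ i from Subtype.ext (by simp),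
        map_zpow, hf₁y]
      exact zpow_mem hwW i
  let f₂ := χ'.comp (f₁.codRestrict (((P.subgroupOf T).map (T.subtype.comp δ⁻¹.toMonoidHom)) ⊔ Subgroup.zpowers w) hf₁mem)
  have hf₂ : f₂ ∈ F.Hom W := F.comp_mem hf₁ hχ' hf₁mem
  have hf₂mem : ∀ x, f₂ x ∈ R := fun x => by
    refine forall_mem_sup χ' le_sup_left le_sup_right (fun v hv => ?_) (fun v hv => ?_)
      (hf₁mem x) (hf₁mem x)
    · rw [hχ'P ⟨v, hv⟩]; exact hTR (apply_mem hχ _)
    · obtain ⟨i, rfl⟩ := Subgroup.mem_zpowers_iff.1 hv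
      rw [show (⟨w ^ i, Subgroup.mem_sup_right hv⟩ : ↥(((P.subgroupOf T).map (T.subtype.comp δ⁻¹.toMonoidHom)) ⊔ Subgroup.zpowers w)) =
        ⟨w, hwW⟩ ^ i from Subtype.ext (by rw [Subgroup.coe_zpow]), map_zpow, hχ'w]
      exact zpow_mem hwR i
  refine ⟨ψ.comp (f₂.codRestrict R hf₂mem), F.comp_mem hf₂ hψ hf₂mem, fun x => ?_, ?_⟩
  · show ψ ⟨f₂ _, _⟩ = φ x
    have h1 : f₂ ⟨x, Subgroup.mem_sup_left x.2⟩ =
        ((δ⁻¹ ⟨φ x, apply_mem hφ x⟩ : T) : Ω) := by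
      show χ' ⟨f₁ _, _⟩ = _
      calc χ' ⟨f₁ ⟨x, _⟩, _⟩ = χ' ⟨((δ⁻¹ ⟨x, hPT x.2⟩ : T) : Ω),
            Subgroup.mem_sup_left (hmemP' x x.2)⟩ := congrArg χ' (Subtype.ext (hf₁P x x.2))
        _ = χ ⟨((δ⁻¹ ⟨x, hPT x.2⟩ : T) : Ω), hmemP' x x.2⟩ := hχ'P ⟨_, hmemP' x x.2⟩
        _ = _ := hχv x (hmemP' x x.2)
    exact (congrArg ψ (Subtype.ext h1)).trans (hTran ⟨φ x, apply_mem hφ x⟩).symm
  · show ψ ⟨f₂ _, _⟩ = y
    have h1 : f₂ ⟨y, Subgroup.mem_sup_right (Subgroup.mem_zpowers y)⟩ = w := by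
      show χ' ⟨f₁ _, _⟩ = w
      exact (congrArg χ' (Subtype.ext hf₁y)).trans hχ'w
    exact congrArg ψ (Subtype.ext h1)

/-- A map onto a generator of a fully centralized cyclic group extends to the centralizer. -/
theorem exists_map_fc (hS : IsPGroup p S) (hF : F.IsSaturated p) {v w : Ω}
    (hv : F.IsFullyCentralized (Subgroup.zpowers v)) {φ : R →* Ω} (hφ : φ ∈ F.Hom R)
    (hw : w ∈ R) (hval : φ ⟨w, hw⟩ = v) :
    ∃ ψ ∈ F.Hom (centralizerIn S (Subgroup.zpowers w)),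
      ∀ h : w ∈ centralizerIn S (Subgroup.zpowers w), ψ ⟨w, h⟩ = v := by
  have hle : Subgroup.zpowers w ≤ R := Subgroup.zpowers_le.2 hw
  obtain ⟨e, he, hev⟩ := exists_iso (restrict_mem hφ hle) (Q := Subgroup.zpowers v)
    (by rw [range_restrictHom, imgHom_zpowers φ hw, hval])
  obtain ⟨ψ, hψ, hψv⟩ := exists_extension (receptive_of_fullyCentralized hS hF hv) he
    (centralizerIn_le_extender _)
  refine ⟨ψ, hψ, fun h => ?_⟩
  rw [hψv ⟨w, Subgroup.mem_zpowers w⟩ h, hev]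
  exact hval

/-- Images of fully normalized subgroups of an invariant subsystem. -/
theorem fullyNormalized_image (hsc : F.StronglyClosed T) (hinv : E.IsInvariantIn F)
    (hP : E.IsFullyNormalized P) {η : R →* Ω} (hη : η ∈ F.Hom R)
    (hR : normalizerIn T P ≤ R) : E.IsFullyNormalized (imgHom η P) := by
  have hTS : T ≤ S := hsc.1
  have hfT := finite_of_le hTS
  have hPR : P ≤ R := (le_normalizerIn hP.1).trans hR
  have hηT : ∀ x (hx : x ∈ T) (hxR : x ∈ R), η ⟨x, hxR⟩ ∈ T := fun x hx hxR =>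
    stronglyClosed_apply hsc hη hx
  have hP0 : imgHom η P ≤ T := by
    rintro _ ⟨x, hx, rfl⟩; exact hηT x (hP.1 hx) x.2
  refine ⟨hP0, fun P' hP' => ?_⟩
  obtain ⟨φ₁, hφ₁, rfl⟩ := hP'
  have hsi := strongInvariant_of_invariant hinv
  obtain ⟨-, -, -, hfr⟩ := hinv
  obtain ⟨α, hα, φ₀, hφ₀, hφ₀v⟩ := hfr P hP.1 _ (restrict_mem hη hPR)
  have hα' := (mem_autGroup_iff hTS).1 (inv_mem hα)
  obtain ⟨χ, hχ, hχv⟩ := hsi _ T hP0 le_rfl φ₁ hφ₁ (apply_mem hφ₁) _ hα'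
  have hin : ∀ x : P, φ₀ x ∈
      ((imgHom η P).subgroupOf T).map (T.subtype.comp α⁻¹.toMonoidHom) := by
    intro x
    have h1 := hφ₀v x (apply_mem hφ₀ x)
    refine ⟨α ⟨φ₀ x, apply_mem hφ₀ x⟩, ?_, ?_⟩
    · show ((α _ : T) : Ω) ∈ imgHom η P
      rw [← h1]
      exact ⟨⟨x, hPR x.2⟩, x.2, rfl⟩
    · show ((α⁻¹ (α _) : T) : Ω) = φ₀ x
      rw [MulAut.inv_apply_self]
  have hcomp := E.comp_mem hφ₀ hχ hin
  obtain ⟨P1, hP1⟩ : ∃ P1, P1 = (χ.comp (φ₀.codRestrict _ hin)).range := ⟨_, rfl⟩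
  have hP1N := hP.2 P1 ⟨_, hcomp, hP1.symm⟩
  have hT1 : ∀ y (hy : y ∈ φ₁.range) (hyT : y ∈ T), ((α⁻¹ ⟨y, hyT⟩ : T) : Ω) ∈ P1 := by
    rintro _ ⟨v, rfl⟩ hyT
    obtain ⟨x, hx, hxv⟩ := v.2
    have h1 := hφ₀v ⟨x, hx⟩ (apply_mem hφ₀ _)
    rw [restrictHom_apply] at h1
    refine hP1 ▸ ⟨⟨x, hx⟩, ?_⟩
    show χ ⟨φ₀ ⟨x, hx⟩, _⟩ = _
    have h2 : ((α⁻¹ ⟨(v : Ω), hP0 v.2⟩ : T) : Ω) = φ₀ ⟨x, hx⟩ := by
      have : (⟨(v : Ω), hP0 v.2⟩ : T) = α ⟨φ₀ ⟨x, hx⟩, apply_mem hφ₀ _⟩ :=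
        Subtype.ext (hxv.symm.trans h1)
      rw [this, MulAut.inv_apply_self]
    refine (congrArg χ (Subtype.ext h2.symm)).trans (hχv v ?_)
    show ((α⁻¹ ⟨(v : Ω), hP0 v.2⟩ : T) : Ω) ∈ _
    rw [h2]; exact hin _
  have hP1le : P1 ≤ imgHom (T.subtype.comp α⁻¹.toMonoidHom) φ₁.range := by
    rw [hP1]
    rintro _ ⟨x, rfl⟩
    obtain ⟨v, hv, hvx⟩ := hin x
    refine ⟨⟨φ₁ ⟨v, hv⟩, apply_mem hφ₁ _⟩, ⟨_, rfl⟩, ?_⟩
    show _ = χ ⟨φ₀ x, _⟩
    refine ((congrArg χ (Subtype.ext hvx.symm)).trans (hχv ⟨v, hv⟩ ?_)).symm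
    exact hvx ▸ hin x
  have hP1eq : imgHom (T.subtype.comp α⁻¹.toMonoidHom) φ₁.range = P1 := by
    refine le_antisymm ?_ hP1le
    rintro _ ⟨y, hy, rfl⟩
    exact hT1 y hy y.2
  have hfin : Finite (normalizerIn T P1) := finite_of_le (normalizerIn_le T P1 |>.trans hTS)
  refine le_trans (Nat.card_le_card_of_injective
    (fun x : normalizerIn T φ₁.range => (⟨(α⁻¹ ⟨x, x.2.1⟩ : T), (α⁻¹ ⟨x, x.2.1⟩ : T).2, ?_⟩ :
      normalizerIn T P1)) ?_) (hP1N.trans ?_)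
  · have := map_mem_normalizer (ψ := T.subtype.comp α⁻¹.toMonoidHom) (range_le hφ₁)
      (g := ⟨x, x.2.1⟩) x.2.2
    rwa [hP1eq] at this
  · intro a b hab
    exact Subtype.ext (congrArg (Subtype.val : T → Ω) (α⁻¹.injective (Subtype.ext (congrArg Subtype.val hab :))))
  · have hfin' : Finite (normalizerIn T (imgHom η P)) :=
      finite_of_le (normalizerIn_le T _ |>.trans hTS)
    refine Nat.card_le_card_of_injective
      (fun x : normalizerIn T P => (⟨η ⟨x, hR x.2⟩, hηT _ x.2.1 _,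
        map_mem_normalizer hPR (g := ⟨x, hR x.2⟩) x.2.2⟩ : normalizerIn T (imgHom η P))) ?_
    intro a b hab
    exact Subtype.ext (congrArg Subtype.val
      (F.injective_of_mem hη (congrArg Subtype.val hab : η _ = η _)) :)

/-- **The conjugates of fixed elements are fixed.** -/
theorem isFixed_apply (hS : IsPGroup p S) (hF : F.IsSaturated p) (hEs : E.IsSaturated p)
    (hinv : E.IsInvariantIn F) {y : Ω} (hy : IsFixed F E y) {φ : R →* Ω} (hφ : φ ∈ F.Hom R)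
    (hyR : y ∈ R) : IsFixed F E (φ ⟨y, hyR⟩) := by
  classical
  have hsc := hinv.2.1
  have hTS : T ≤ S := hsc.1
  have hfT := finite_of_le hTS
  have hTp : IsPGroup p T := hS.to_le hTS
  have hsi := strongInvariant_of_invariant hinv
  have hyS : y ∈ S := hy.1.1
  have hzy : Subgroup.zpowers y ≤ S := Subgroup.zpowers_le.2 hyS
  obtain ⟨Q, ⟨φv, hφv, hQ⟩, hQc⟩ := exists_fullyCentralized (F := F) hzy
  obtain ⟨v, hv⟩ : ∃ v, v = φv ⟨y, Subgroup.mem_zpowers y⟩ := ⟨_, rfl⟩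
  have hQv : Q = Subgroup.zpowers v := by
    rw [← hQ, ← imgHom_self, imgHom_zpowers φv (Subgroup.mem_zpowers y), ← hv]
  rw [hQv] at hQc
  have hvS : v ∈ S := hv ▸ apply_mem hφv _
  have hself : ∀ w ∈ S, w ∈ centralizerIn S (Subgroup.zpowers w) := fun w hw =>
    mem_centralizerIn_zpowers.2 ⟨hw, rfl⟩
  have hTcent : ∀ w, w ∈ centralizerIn S T → T ≤ centralizerIn S (Subgroup.zpowers w) :=
    fun w hw t ht => mem_centralizerIn_zpowers.2
      ⟨hTS ht, ((mem_centralizerIn.1 hw).2 t ht).symm⟩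
  -- `v` is fixed
  have hvF : IsFixed F E v := by
    obtain ⟨ψ, hψ, hψv⟩ := exists_map_fc hS hF hQc hφv (Subgroup.mem_zpowers y) hv.symm
    rw [← hψv (hself y hyS)]
    exact isFixed_map hsc hsi hψ (hTcent y hy.1) _ hy
  -- every conjugate has a map onto `v`
  have htoV : ∀ (χ : Subgroup.zpowers y →* Ω) (hχ : χ ∈ F.Hom (Subgroup.zpowers y)),
      ∃ ψ ∈ F.Hom (centralizerIn S (Subgroup.zpowers (χ ⟨y, Subgroup.mem_zpowers y⟩))),
        ψ ⟨_, hself _ (apply_mem hχ _)⟩ = v := by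
    intro χ hχ
    obtain ⟨e, he, hev⟩ := exists_iso_range hχ
    have h1 : (φv.comp e.symm.toMonoidHom) ∈ F.Hom χ.range :=
      mem_of_comp he.symm hφv (fun x => (e.symm x).2) fun x => rfl
    obtain ⟨ψ, hψ, hψv⟩ := exists_map_fc hS hF hQc h1 (w := χ ⟨y, Subgroup.mem_zpowers y⟩)
      ⟨_, rfl⟩ (by
        rw [hv]
        exact congrArg φv ((MulEquiv.symm_apply_eq e).2 (Subtype.ext (hev _).symm)))
    exact ⟨ψ, hψ, hψv _⟩
  -- conjugates centralizing `T` are fixed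
  have hfix : ∀ (χ : Subgroup.zpowers y →* Ω), χ ∈ F.Hom (Subgroup.zpowers y) →
      χ ⟨y, Subgroup.mem_zpowers y⟩ ∈ centralizerIn S T →
      IsFixed F E (χ ⟨y, Subgroup.mem_zpowers y⟩) := by
    intro χ hχ hc
    obtain ⟨ψ, hψ, hψv⟩ := htoV χ hχ
    have hTR := hTcent _ hc
    obtain ⟨e, he, hev⟩ := exists_iso_range hψ
    obtain ⟨δ, -, hδv⟩ := exists_aut_restrict hψ hTR
      (fun t ht => stronglyClosed_apply hsc hψ (x := ⟨t, hTR ht⟩) ht)
    have hTr : T ≤ ψ.range := fun t ht => ⟨⟨(δ⁻¹ ⟨t, ht⟩ : T), hTR (Subtype.mem _)⟩,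
      by rw [← hδv, MulAut.apply_inv_self]⟩
    have h1 := isFixed_map hsc hsi he.symm hTr (w := v) ⟨_, hψv⟩ hvF
    have e1 : (e.symm ⟨v, ⟨_, hψv⟩⟩ : Ω) = χ ⟨y, Subgroup.mem_zpowers y⟩ :=
      congrArg Subtype.val ((MulEquiv.symm_apply_eq e).2 (Subtype.ext (hψv.symm.trans (hev _).symm)) :
        e.symm _ = ⟨_, hself _ (apply_mem hχ _)⟩)
    exact e1 ▸ h1
  suffices key : ∀ d (χ : Subgroup.zpowers y →* Ω), χ ∈ F.Hom (Subgroup.zpowers y) →
      Nat.card T - Nat.card (T ⊓ centralizerIn S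
        (Subgroup.zpowers (χ ⟨y, Subgroup.mem_zpowers y⟩)) : Subgroup Ω) ≤ d →
      χ ⟨y, Subgroup.mem_zpowers y⟩ ∈ centralizerIn S T by
    have hχ := restrict_mem hφ (Subgroup.zpowers_le.2 hyR)
    exact hfix _ hχ (key _ _ hχ le_rfl)
  intro d
  induction d using Nat.strong_induction_on with
  | _ d ih =>
  intro χ hχ hd
  obtain ⟨y', hy'⟩ : ∃ y', y' = χ ⟨y, Subgroup.mem_zpowers y⟩ := ⟨_, rfl⟩
  obtain ⟨ψ, hψ, hψv⟩ := htoV χ hχ
  rw [← hy'] at hd ⊢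
  have hy'S : y' ∈ S := hy' ▸ apply_mem hχ _
  obtain ⟨R', hR'⟩ : ∃ R', R' = centralizerIn S (Subgroup.zpowers (χ ⟨y, Subgroup.mem_zpowers y⟩)) :=
    ⟨_, rfl⟩
  have hy'R : y' ∈ R' := by rw [hR', hy']; exact hself _ (apply_mem hχ _)
  obtain ⟨ψ', hψ', hψ'v⟩ : ∃ ψ' : R' →* Ω, ψ' ∈ F.Hom R' ∧ ψ' ⟨y', hy'R⟩ = v := by
    subst hR'; subst hy'; exact ⟨ψ, hψ, hψv⟩
  rw [← hy'] at hR'
  clear hψv hψ ψ
  have hcentR : ∀ x ∈ R', y' * x = x * y' := fun x hx => by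
    rw [hR'] at hx; exact (mem_centralizerIn_zpowers.1 hx).2
  by_cases hTR : T ≤ R'
  · exact mem_centralizerIn.2 ⟨hy'S, fun t ht => (hcentR t (hTR ht)).symm⟩
  obtain ⟨P, hP⟩ : ∃ P, P = T ⊓ R' := ⟨_, rfl⟩
  rw [← hR', ← hP] at hd
  have hPT : P ≤ T := hP ▸ inf_le_left
  have hPR : P ≤ R' := hP ▸ inf_le_right
  have hfP := finite_of_le (hPT.trans hTS)
  have hPlt : Nat.card P < Nat.card T := by
    refine lt_of_le_of_ne (Subgroup.card_le_of_le hPT) fun e => hTR ?_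
    exact (Subgroup.eq_of_le_of_card_ge hPT e.ge).ge.trans hPR
  obtain ⟨P₂, hP₂⟩ : ∃ P₂, P₂ = imgHom ψ' P := ⟨_, rfl⟩
  have hP₂T : P₂ ≤ T := by
    rw [hP₂]; rintro _ ⟨x, hx, rfl⟩; exact stronglyClosed_apply hsc hψ' (hPT hx)
  obtain ⟨Ps, ⟨φs, hφs, hφsr⟩, hPsn⟩ := exists_fullyNormalized (F := E) hP₂T
  have hPscard : Nat.card Ps = Nat.card P := by
    rw [← hφsr, ← Nat.card_congr (MonoidHom.ofInjective (E.injective_of_mem hφs)).toEquiv, hP₂,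
      card_imgHom (F.injective_of_mem hψ') hPR]
  have hPsT : Ps ≤ T := hPsn.1
  obtain ⟨φ', hφ', hφ'P, hφ'v⟩ := hvF.2 P₂ φs hφs
  have hvT : ∀ t ∈ T, v * t = t * v := fun t ht => ((mem_centralizerIn.1 hvF.1).2 t ht).symm
  obtain ⟨Us, hUs⟩ : ∃ Us, Us = Ps ⊔ Subgroup.zpowers v := ⟨_, rfl⟩
  have hvUs : v ∈ Us := hUs ▸ Subgroup.mem_sup_right (Subgroup.mem_zpowers v)
  have hPsUs : Ps ≤ Us := hUs ▸ le_sup_left
  have hUsS : Us ≤ S := hUs ▸ sup_le (hPsT.trans hTS) (Subgroup.zpowers_le.2 hvS)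
  have hfUs := finite_of_le hUsS
  obtain ⟨U0, hU0c, hU0n⟩ := exists_fullyNormalized (F := F) hUsS
  obtain ⟨hU0a, hU0r⟩ := automized_receptive hS hF hU0n
  obtain ⟨η, hη, -, hηU⟩ := exists_map_normalizerIn hS hU0a hU0r hU0c
  have hNle : normalizerIn T Ps ≤ normalizerIn S Us := fun x hx => by
    refine Subgroup.mem_inf.2 ⟨hTS hx.1, Subgroup.mem_normalizer_fintype fun w hw => ?_⟩
    refine forall_mem_sup (R := Us) ((MulAut.conj x).toMonoidHom.comp Us.subtype) hPsUs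
      (Subgroup.zpowers_le.2 hvUs)
      (fun u hu => hPsUs ((Subgroup.mem_normalizer_iff.1 hx.2 u).1 hu)) (fun u hu => ?_) hw
      (hUs ▸ hw)
    obtain ⟨i, rfl⟩ := Subgroup.mem_zpowers_iff.1 hu
    show x * v ^ i * x⁻¹ ∈ Us
    rw [← (Commute.zpow_left (hvT x hx.1 : Commute v x) i).eq, mul_inv_cancel_right]
    exact zpow_mem hvUs i
  have hUsN : Us ≤ normalizerIn S Us := le_normalizerIn hUsS
  obtain ⟨z, hz⟩ : ∃ z, z = η ⟨v, hUsN hvUs⟩ := ⟨_, rfl⟩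
  obtain ⟨P0, hP0⟩ : ∃ P0, P0 = imgHom η Ps := ⟨_, rfl⟩
  have hP0n : E.IsFullyNormalized P0 := hP0 ▸ fullyNormalized_image hsc hinv hPsn hη hNle
  have hP0T : P0 ≤ T := hP0n.1
  have hU0eq : U0 = P0 ⊔ Subgroup.zpowers z := by
    rw [← hηU, hP0, (congrArg (imgHom η) hUs : imgHom η Us = _), imgHom_sup η (hPsUs.trans hUsN) (Subgroup.zpowers_le.2 (hUsN hvUs)),
      imgHom_zpowers η (hUsN hvUs), hz]
  have hPP : ∀ w ∈ Us, w ∈ T → w ∈ Ps := by
    intro w hw hwT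
    rw [hUs] at hw
    obtain ⟨a, ha, i, rfl⟩ := mem_sup_zpowers_of_comm
      (mem_normalizer_of_centralize fun t ht => hvT t (hPsT ht)) hw
    refine Ps.mul_mem ha ?_
    have hviT : v ^ i ∈ T := by simpa using T.mul_mem (T.inv_mem (hPsT ha)) hwT
    have hy'i : y' ^ i ∈ P := by
      refine hP ▸ Subgroup.mem_inf.2 ⟨?_, zpow_mem hy'R i⟩
      refine (stronglyClosed_apply_iff hsc hψ' (x := (⟨y', hy'R⟩ : R') ^ i)).1 ?_
      rwa [map_zpow, hψ'v]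
    have hviP : v ^ i ∈ P₂ := hP₂ ▸ ⟨(⟨y', hy'R⟩ : R') ^ i, by simpa [Subgroup.mem_subgroupOf] using hy'i,
      by rw [map_zpow, hψ'v]⟩
    have h1 := hφ'P ⟨v ^ i, hviP⟩
    have h2 : φ' ⟨v ^ i, Subgroup.mem_sup_left hviP⟩ = v ^ i := by
      rw [show (⟨v ^ i, Subgroup.mem_sup_left hviP⟩ : ↥(P₂ ⊔ Subgroup.zpowers v)) =
        ⟨v, Subgroup.mem_sup_right (Subgroup.mem_zpowers v)⟩ ^ i from Subtype.ext (by simp),
        map_zpow, hφ'v]
    rw [← h2, h1, ← hφsr]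
    exact ⟨_, rfl⟩
  have hU0T : U0 ⊓ T = P0 := by
    refine le_antisymm (fun w hw => ?_) (le_inf (hU0eq ▸ le_sup_left) hP0T)
    obtain ⟨hwU, hwT⟩ := Subgroup.mem_inf.1 hw
    rw [← hηU] at hwU
    obtain ⟨x, hx, rfl⟩ := hwU
    rw [hP0]
    exact ⟨x, hPP x hx ((stronglyClosed_apply_iff hsc hη).1 hwT), rfl⟩
  have hχz : ∃ χz : Subgroup.zpowers y →* Ω, χz ∈ F.Hom (Subgroup.zpowers y) ∧
      χz ⟨y, Subgroup.mem_zpowers y⟩ = z := by
    have hmem : ∀ x, φv x ∈ normalizerIn S Us := fun x => by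
      have : φv x ∈ Subgroup.zpowers v := hQv ▸ hQ ▸ ⟨x, rfl⟩
      exact hUsN (Subgroup.zpowers_le.2 hvUs this)
    refine ⟨_, F.comp_mem hφv hη hmem, ?_⟩
    rw [hz]
    exact congrArg η (Subtype.ext hv.symm)
  have hzS : z ∈ S := hz ▸ apply_mem hη _
  have hzT : z ∈ centralizerIn S T := by
    obtain ⟨χz, hχz, hχzv⟩ := hχz
    rw [← hχzv]
    refine ih _ ?_ χz hχz le_rfl
    rw [hχzv]
    have hfN := finite_of_le ((inf_le_left : T ⊓ centralizerIn S (Subgroup.zpowers z) ≤ T).trans hTS)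
    have h1 : Nat.card (normalizerIn T Ps) ≤
        Nat.card (T ⊓ centralizerIn S (Subgroup.zpowers z) : Subgroup Ω) := by
      refine Nat.card_le_card_of_injective (fun x => ⟨η ⟨x, hNle x.2⟩,
        Subgroup.mem_inf.2 ⟨stronglyClosed_apply hsc hη x.2.1,
          mem_centralizerIn_zpowers.2 ⟨apply_mem hη _, ?_⟩⟩⟩) ?_
      · rw [hz, ← map_mul, ← map_mul]
        exact congrArg η (Subtype.ext (hvT x x.2.1))
      · intro a b hab
        exact Subtype.ext (congrArg Subtype.val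
          (F.injective_of_mem hη (congrArg Subtype.val hab : η _ = η _)) :)
    have h2 : Nat.card Ps < Nat.card (normalizerIn T Ps) := by
      have hfPs : Finite (normalizerIn T Ps) := finite_of_le ((normalizerIn_le T Ps).trans hTS)
      have hlt : Ps < T := lt_of_le_of_ne hPsT fun e => by
        rw [e] at hPscard; omega
      refine lt_of_le_of_ne (Subgroup.card_le_of_le (lt_normalizerIn hTp hlt).le) fun e =>
        (lt_normalizerIn hTp hlt).ne ?_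
      exact Subgroup.eq_of_le_of_card_ge (lt_normalizerIn hTp hlt).le e.ge
    have h3 : Nat.card (T ⊓ centralizerIn S (Subgroup.zpowers z) : Subgroup Ω) ≤ Nat.card T :=
      Subgroup.card_le_of_le inf_le_left
    omega
  have hzF : IsFixed F E z := by
    obtain ⟨χz, hχz, hχzv⟩ := hχz
    exact hχzv ▸ hfix χz hχz (hχzv.symm ▸ hzT)
  -- pull back to `y'`
  obtain ⟨U', hU'⟩ : ∃ U', U' = P ⊔ Subgroup.zpowers y' := ⟨_, rfl⟩
  have hPU' : P ≤ U' := hU' ▸ le_sup_left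
  have hy'U' : y' ∈ U' := hU' ▸ Subgroup.mem_sup_right (Subgroup.mem_zpowers y')
  have hU'R : U' ≤ R' := hU' ▸ sup_le hPR (Subgroup.zpowers_le.2 hy'R)
  have hU'S : U' ≤ S := hU'R.trans (le_left hψ')
  have hfU' := finite_of_le hU'S
  have hg1mem : ∀ x, restrictHom ψ' hU'R x ∈ P₂ ⊔ Subgroup.zpowers v := fun x => by
    refine forall_mem_sup (restrictHom ψ' hU'R) hPU' (Subgroup.zpowers_le.2 hy'U')
      (fun u hu => Subgroup.mem_sup_left (hP₂ ▸ ⟨⟨u, hPR hu⟩, hu, rfl⟩)) (fun u hu => ?_) x.2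
      (hU' ▸ x.2)
    obtain ⟨i, rfl⟩ := Subgroup.mem_zpowers_iff.1 hu
    rw [show (⟨y' ^ i, Subgroup.zpowers_le.2 hy'U' hu⟩ : U') = ⟨y', hy'U'⟩ ^ i from
      Subtype.ext (by simp), map_zpow, restrictHom_apply, hψ'v]
    exact Subgroup.mem_sup_right (zpow_mem (Subgroup.mem_zpowers v) i)
  have hg2mem : ∀ x, φ' x ∈ normalizerIn S Us := fun x => by
    refine hUsN (forall_mem_sup φ' le_sup_left le_sup_right (fun u hu => ?_) (fun u hu => ?_)
      x.2 x.2)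
    · rw [hφ'P ⟨u, hu⟩]; exact hPsUs (hφsr ▸ ⟨_, rfl⟩)
    · obtain ⟨i, rfl⟩ := Subgroup.mem_zpowers_iff.1 hu
      rw [show (⟨v ^ i, Subgroup.mem_sup_right hu⟩ : ↥(P₂ ⊔ Subgroup.zpowers v)) =
        ⟨v, Subgroup.mem_sup_right (Subgroup.mem_zpowers v)⟩ ^ i from Subtype.ext (by simp),
        map_zpow, hφ'v]
      exact zpow_mem hvUs i
  let g2 := φ'.comp ((restrictHom ψ' hU'R).codRestrict _ hg1mem)
  have hg2 : g2 ∈ F.Hom U' := F.comp_mem (restrict_mem hψ' hU'R) hφ' hg1mem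
  let g3 := η.comp (g2.codRestrict _ fun x => hg2mem _)
  have hg3 : g3 ∈ F.Hom U' := F.comp_mem hg2 hη fun x => hg2mem _
  have hg3y : g3 ⟨y', hy'U'⟩ = z := by
    rw [hz]
    refine congrArg η (Subtype.ext ?_)
    show φ' ⟨ψ' ⟨y', _⟩, _⟩ = v
    exact (congrArg φ' (Subtype.ext hψ'v)).trans hφ'v
  have hg3le : ∀ x, g3 x ∈ U0 := fun x => by
    rw [← hηU]
    refine ⟨⟨_, hg2mem _⟩, ?_, rfl⟩
    show φ' _ ∈ Us
    refine forall_mem_sup φ' le_sup_left le_sup_right (fun u hu => ?_) (fun u hu => ?_)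
      (hg1mem x) (hg1mem x)
    · rw [hφ'P ⟨u, hu⟩]; exact hPsUs (hφsr ▸ ⟨_, rfl⟩)
    · obtain ⟨i, rfl⟩ := Subgroup.mem_zpowers_iff.1 hu
      rw [show (⟨v ^ i, Subgroup.mem_sup_right hu⟩ : ↥(P₂ ⊔ Subgroup.zpowers v)) =
        ⟨v, Subgroup.mem_sup_right (Subgroup.mem_zpowers v)⟩ ^ i from Subtype.ext (by simp),
        map_zpow, hφ'v]
      exact zpow_mem hvUs i
  have hrange : g3.range = U0 := by
    refine le_antisymm (fun _ ⟨x, hx⟩ => hx ▸ hg3le x) ?_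
    rw [hU0eq]
    refine sup_le ?_ (Subgroup.zpowers_le.2 ⟨_, hg3y⟩)
    intro w hw
    rw [hP0] at hw
    obtain ⟨x, hx, rfl⟩ := hw
    rw [← hφsr] at hx
    obtain ⟨⟨u, hu⟩, hux⟩ := hx
    have hu' : u ∈ P₂ := hu
    rw [hP₂] at hu
    obtain ⟨a, ha, hau⟩ := hu
    refine ⟨⟨a, hPU' (Subgroup.mem_subgroupOf.1 ha)⟩, congrArg η (Subtype.ext ?_)⟩
    show φ' ⟨ψ' ⟨a, _⟩, _⟩ = (x : Ω)
    exact (congrArg φ' (Subtype.ext hau)).trans ((hφ'P ⟨u, hu'⟩).trans hux)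
  obtain ⟨e, he, hev⟩ := exists_iso hg3 hrange
  obtain ⟨δ, hδ, h⟩ := exists_iso_congr_le hS hU0a he
  have he' : IsIso F (e.trans δ) := he.trans ((mem_autGroup_iff hU0a.1).1 hδ)
  obtain ⟨ψ0, hψ0, hψ0v⟩ := exists_extension (T := normalizerIn S U') hU0r he' fun g hg =>
    mem_extender_of_congr hg (α := U'.normalizerMonoidHom ⟨g, hg.2⟩) (fun _ => rfl)
      (h _ (mem_autInducedBy_iff.2 ⟨g, hg.1, hg.2, fun _ => rfl⟩))
  -- an element of `T` normalizing `U'` outside `P`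
  obtain ⟨V, hV⟩ : ∃ V, V = T ⊔ Subgroup.zpowers y' := ⟨_, rfl⟩
  have hy'N : y' ∈ Subgroup.normalizer (T : Set Ω) := by
    refine Subgroup.mem_normalizer_fintype fun t ht => ?_
    exact stronglyClosed_apply hsc (F.conj_mem hTS hy'S) (x := ⟨t, ht⟩) ht
  have hU'V : U' ≤ V := hU' ▸ hV ▸ sup_le_sup_right hPT _
  have hVS : V ≤ S := hV ▸ sup_le hTS (Subgroup.zpowers_le.2 hy'S)
  have hfV := finite_of_le hVS
  have hU'lt : U' < V := lt_of_le_of_ne hU'V fun e => hTR ((hV ▸ le_sup_left).trans (e ▸ hU'R))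
  obtain ⟨g, hg, hgU⟩ := SetLike.exists_of_lt (lt_normalizerIn (hS.to_le hVS) hU'lt)
  obtain ⟨hgV, hgN⟩ := Subgroup.mem_inf.1 hg
  obtain ⟨x, hxT, i, rfl⟩ := mem_sup_zpowers_of_comm hy'N (hV ▸ hgV)
  have hxN : x ∈ Subgroup.normalizer (U' : Set Ω) := by
    have := mul_mem hgN (inv_mem (Subgroup.le_normalizer (zpow_mem hy'U' i)))
    simpa using this
  have hxU : x ∉ U' := fun h => hgU (U'.mul_mem h (zpow_mem hy'U' i))
  have hxS : x ∈ normalizerIn S U' := Subgroup.mem_inf.2 ⟨hTS hxT, hxN⟩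
  obtain ⟨x', hx'⟩ : ∃ x', x' = ψ0 ⟨x, hxS⟩ := ⟨_, rfl⟩
  have hx'T : x' ∈ T := hx' ▸ stronglyClosed_apply hsc hψ0 hxT
  have himg0 : imgHom ψ0 U' = U0 := imgHom_eq_of_agree (le_normalizerIn hU'S) hψ0v
  have hx'U : x' ∈ Subgroup.normalizer (U0 : Set Ω) := by
    have := map_mem_normalizer (ψ := ψ0) (le_normalizerIn hU'S) (g := ⟨x, hxS⟩) hxN
    rw [himg0] at this; exact hx' ▸ this
  have hfP0 := finite_of_le (hP0T.trans hTS)
  have hx'P : x' ∈ Subgroup.normalizer (P0 : Set Ω) := by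
    refine Subgroup.mem_normalizer_fintype fun w hw => ?_
    rw [SetLike.mem_coe, ← hU0T, Subgroup.mem_inf]
    exact ⟨(Subgroup.mem_normalizer_iff.1 hx'U w).1 (hU0eq ▸ Subgroup.mem_sup_left hw),
      T.mul_mem (T.mul_mem hx'T (hP0T hw)) (T.inv_mem hx'T)⟩
  have hzU0 : z ∈ U0 := hU0eq ▸ Subgroup.mem_sup_right (Subgroup.mem_zpowers z)
  have hcomm := commute_of_fixed hS hF hsc hsi hzF hU0eq hU0n.1 hU0T hU0n
    (automized_receptive hTp hEs hP0n).1 hδ hx'T hx'P (u := ⟨z, hzU0⟩) rfl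
  have h1 : ψ0 ⟨y', le_normalizerIn hU'S hy'U'⟩ = (δ ⟨z, hzU0⟩ : Ω) := by
    rw [hψ0v ⟨y', hy'U'⟩ (le_normalizerIn hU'S hy'U'), MulEquiv.trans_apply]
    congr 2
    exact Subtype.ext ((hev _).trans hg3y)
  rw [← h1, hx', ← map_mul, ← map_mul] at hcomm
  have h2 : x * y' = y' * x := congrArg Subtype.val (F.injective_of_mem hψ0 hcomm)
  have hxP : x ∈ P := hP ▸ Subgroup.mem_inf.2 ⟨hxT, hR' ▸ mem_centralizerIn_zpowers.2
    ⟨hTS hxT, h2.symm⟩⟩
  exact absurd (hPU' hxP) hxU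

/-- Automorphisms of `U = T⟨z⟩` centralizing `T` and trivial modulo `T` are induced by `C_S(T)`,
when `U` is fully normalized. -/
theorem exists_centralizer_of_translation (hS : IsPGroup p S) (hF : F.IsSaturated p)
    (hsc : F.StronglyClosed T) {z : Ω} (hz : z ∈ centralizerIn S T)
    (hU : U = T ⊔ Subgroup.zpowers z) (hUn : F.IsFullyNormalized U) {κ : MulAut U}
    (hκ : κ ∈ translations F T U) :
    (∃ k : ℕ, κ ^ p ^ k = 1) ∧
      ∃ s ∈ centralizerIn S T, ∀ w : U, (κ w : Ω) = s * w * s⁻¹ := by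
  have hTU : T ≤ U := hU ▸ le_sup_left
  have hTS : T ≤ S := hsc.1
  have hfU := finite_of_le hUn.1
  have hzU : z ∈ U := hU ▸ Subgroup.mem_sup_right (Subgroup.mem_zpowers z)
  have hzT : ∀ t ∈ T, z * t = t * z := fun t ht => ((mem_centralizerIn.1 hz).2 t ht).symm
  have hKn : ∀ δ ∈ F.autGroup U, ∀ κ ∈ translations F T U, δ * κ * δ⁻¹ ∈ translations F T U := by
    intro δ hδ κ hκ
    obtain ⟨hκΓ, hκ1, hκ2⟩ := hκ
    have hp : ∀ ε ∈ F.autGroup U, ∀ w : U, (ε w : Ω) ∈ T ↔ (w : Ω) ∈ T := fun ε hε w =>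
      stronglyClosed_apply_iff hsc ((mem_autGroup_iff hUn.1).1 hε) (x := w)
    refine ⟨mul_mem (mul_mem hδ hκΓ) (inv_mem hδ), fun w hw => ?_, fun w => ?_⟩
    · simp only [MulAut.mul_apply, hκ1 _ ((hp _ (inv_mem hδ) w).2 hw), MulAut.apply_inv_self]
    · obtain ⟨v, rfl⟩ := δ.surjective w
      simp only [MulAut.mul_apply, MulAut.inv_apply_self]
      rw [← map_inv, ← map_mul]
      exact (hp δ hδ _).2 (hκ2 v)
  have hKp : IsPGroup p (translations F T U) := by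
    rintro ⟨κ, hκ⟩
    obtain ⟨-, h1, h2⟩ := hκ
    obtain ⟨k, hk⟩ := (hS.to_le hUn.1) ((⟨z, hzU⟩ : U)⁻¹ * κ ⟨z, hzU⟩)
    refine ⟨k, Subtype.ext (MulEquiv.ext fun w => Subtype.ext ?_)⟩
    show ((κ ^ p ^ k) w : Ω) = w
    have hfix : ∀ n : ℕ, ∀ w : U, (w : Ω) ∈ T → (κ ^ n) w = w := by
      intro n w hw
      induction n with
      | zero => simp
      | succ n ih => rw [pow_succ', MulAut.mul_apply, ih, h1 w hw]
    have hn : ∀ n : ℕ, (κ ^ n) ⟨z, hzU⟩ = ⟨z, hzU⟩ * ((⟨z, hzU⟩ : U)⁻¹ * κ ⟨z, hzU⟩) ^ n := by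
      intro n
      induction n with
      | zero => simp
      | succ n ih =>
        rw [pow_succ', MulAut.mul_apply, ih, map_mul, map_pow, h1 _ (h2 _), pow_succ',
          ← mul_assoc (⟨z, hzU⟩ : U) ((⟨z, hzU⟩ : U)⁻¹ * κ ⟨z, hzU⟩), mul_inv_cancel_left]
    refine eq_on_sup (U.subtype.comp (κ ^ p ^ k).toMonoidHom) U.subtype hTU
      (Subgroup.zpowers_le.2 hzU) (fun v hv => congrArg Subtype.val (hfix _ ⟨v, hTU hv⟩ hv))
      (fun v hv => ?_) w.2 (hU ▸ w.2)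
    obtain ⟨i, rfl⟩ := Subgroup.mem_zpowers_iff.1 hv
    rw [show (⟨z ^ i, Subgroup.zpowers_le.2 hzU hv⟩ : U) = (⟨z, hzU⟩ : U) ^ i from
      Subtype.ext (by simp), map_zpow, map_zpow]
    congr 1
    show ((κ ^ p ^ k) ⟨z, hzU⟩ : Ω) = z
    rw [hn, hk, mul_one]
  obtain ⟨δ, hδ, hδK⟩ := exists_conj_autInducedBy (automized_receptive hS hF hUn).1
    (X := translations F T U) (fun a ha => ha.1) hKp
  have hκS : κ ∈ autInducedBy S U := by
    simpa [mul_assoc] using hδK _ (hKn _ (inv_mem hδ) κ hκ)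
  obtain ⟨k, hk⟩ := hKp ⟨κ, hκ⟩
  obtain ⟨s, hs, -, hsv⟩ := mem_autInducedBy_iff.1 hκS
  refine ⟨⟨k, congrArg Subtype.val hk⟩, s, mem_centralizerIn'.2 ⟨hs, fun t ht => ?_⟩, hsv⟩
  have := hsv ⟨t, hTU ht⟩
  rw [hκ.2.1 ⟨t, hTU ht⟩ ht] at this
  exact this.symm

/-- The automorphisms of `T C_S(T)` of the extension condition, of order prime to `p`, fix every
fixed element. -/
theorem apply_eq_of_fixed (hS : IsPGroup p S) (hF : F.IsSaturated p) (hEs : E.IsSaturated p)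
    (hinv : E.IsInvariantIn F) {b : MulAut ↥(T ⊔ centralizerIn S T)}
    (hb : b ∈ F.autGroup (T ⊔ centralizerIn S T)) (hbp : (orderOf b).Coprime p)
    {a : MulAut T} (ha : a ∈ E.autGroup T)
    (hba : ∀ t : T, (b ⟨t, Subgroup.mem_sup_left t.2⟩ : Ω) = a t)
    (hbC : ∀ w : ↥(T ⊔ centralizerIn S T), (w : Ω) ∈ centralizerIn S T →
      (w : Ω)⁻¹ * (b w : Ω) ∈ T)
    {y : Ω} (hy : IsFixed F E y) :
    (b ⟨y, Subgroup.mem_sup_right hy.1⟩ : Ω) = y := by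
  classical
  have hsc := hinv.2.1
  have hTS : T ≤ S := hsc.1
  have hfT := finite_of_le hTS
  have hsi := strongInvariant_of_invariant hinv
  have hCS : centralizerIn S T ≤ S := centralizerIn_le S T
  have hWS : (T ⊔ centralizerIn S T) ≤ S := sup_le hTS hCS
  have hfW := finite_of_le hWS
  have hyT : ∀ t ∈ T, y * t = t * y := fun t ht => ((mem_centralizerIn.1 hy.1).2 t ht).symm
  obtain ⟨U, hU⟩ : ∃ U, U = T ⊔ Subgroup.zpowers y := ⟨_, rfl⟩
  have hTU : T ≤ U := hU ▸ le_sup_left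
  have hyU : y ∈ U := hU ▸ Subgroup.mem_sup_right (Subgroup.mem_zpowers y)
  have hUW : U ≤ (T ⊔ centralizerIn S T) := hU ▸ sup_le le_sup_left (Subgroup.zpowers_le.2 (Subgroup.mem_sup_right hy.1))
  have hUS : U ≤ S := hUW.trans hWS
  have hfU := finite_of_le hUS
  -- a lift of `a` of order prime to `p` fixing `y`
  obtain ⟨ψ, hψ, hψa, hψy⟩ := hy.2 T _ ((mem_autGroup_iff le_rfl).1 ha)
  have hψU : ∀ v (hv : v ∈ T ⊔ Subgroup.zpowers y), ψ ⟨v, hv⟩ ∈ T ⊔ Subgroup.zpowers y := by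
    intro v hv
    refine forall_mem_sup ψ le_sup_left le_sup_right (fun x hx => ?_) (fun x hx => ?_) hv hv
    · rw [hψa ⟨x, hx⟩]; exact Subgroup.mem_sup_left (a ⟨x, hx⟩).2
    · obtain ⟨i, rfl⟩ := Subgroup.mem_zpowers_iff.1 hx
      rw [show (⟨y ^ i, Subgroup.mem_sup_right hx⟩ : ↥(T ⊔ Subgroup.zpowers y)) =
        ⟨y, Subgroup.mem_sup_right (Subgroup.mem_zpowers y)⟩ ^ i from Subtype.ext (by simp),
        map_zpow, hψy]
      exact Subgroup.mem_sup_right hx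
  obtain ⟨h0, hh0, hh0v⟩ := exists_aut_restrict hψ (P := U) hU.le
    (fun v hv => hU.ge (hψU v (hU.le hv)))
  have hh0y : h0 ⟨y, hyU⟩ = ⟨y, hyU⟩ := Subtype.ext ((hh0v _).trans hψy)
  have hh0T : ∀ t : T, (h0 ⟨t, hTU t.2⟩ : Ω) = a t := fun t => (hh0v _).trans (hψa t)
  have hpowT : ∀ (n : ℕ) (t : T), ((b ^ n) ⟨t, Subgroup.mem_sup_left t.2⟩ : Ω) = (a ^ n) t ∧
      ((h0 ^ n) ⟨t, hTU t.2⟩ : Ω) = (a ^ n) t := by
    intro n
    induction n with
    | zero => intro t; simp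
    | succ n ih =>
      intro t
      rw [pow_succ, pow_succ, pow_succ, MulAut.mul_apply, MulAut.mul_apply, MulAut.mul_apply]
      refine ⟨?_, ?_⟩
      · rw [show b ⟨t, Subgroup.mem_sup_left t.2⟩ = (⟨(a t : Ω), Subgroup.mem_sup_left (a t).2⟩ : ↥(T ⊔ centralizerIn S T))
          from Subtype.ext (hba t)]
        exact (ih (a t)).1
      · rw [show h0 ⟨t, hTU t.2⟩ = (⟨(a t : Ω), hTU (a t).2⟩ : U) from Subtype.ext (hh0T t)]
        exact (ih (a t)).2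
  have hap : (orderOf a).Coprime p := by
    refine hbp.coprime_dvd_left (orderOf_dvd_of_pow_eq_one (MulEquiv.ext fun t => Subtype.ext ?_))
    rw [← (hpowT _ t).1, pow_orderOf_eq_one]
    rfl
  obtain ⟨k, m, hm, hn⟩ := Nat.exists_eq_pow_mul_and_not_dvd (orderOf_pos h0).ne' p
    (Fact.out : p.Prime).ne_one
  obtain ⟨j, hj⟩ := exists_pow_eq_self_of_coprime (n := p ^ k) (x := a)
    (hap.pow_right k).symm
  set h := h0 ^ (p ^ k * j) with hhdef
  have hhT : ∀ t : T, (h ⟨t, hTU t.2⟩ : Ω) = a t := fun t => by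
    rw [hhdef, (hpowT _ t).2, pow_mul, hj]
  have hhy : h ⟨y, hyU⟩ = ⟨y, hyU⟩ := by
    rw [hhdef]
    generalize p ^ k * j = n
    induction n with
    | zero => simp
    | succ n ih => rw [pow_succ', MulAut.mul_apply, ih, hh0y]
  have hhΓ : h ∈ F.autGroup U := pow_mem hh0 _
  have hhp : (orderOf h).Coprime p := by
    refine Nat.Coprime.coprime_dvd_left (orderOf_dvd_of_pow_eq_one (n := m) ?_)
      ((Fact.out : p.Prime).coprime_iff_not_dvd.2 hm).symm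
    rw [hhdef, ← pow_mul, show p ^ k * j * m = orderOf h0 * j by rw [hn]; ring, pow_mul,
      pow_orderOf_eq_one, one_pow]
  -- transport to a fully normalized conjugate
  obtain ⟨U1, hU1c, hU1n⟩ := exists_fullyNormalized (F := F) hUS
  obtain ⟨hU1a, hU1r⟩ := automized_receptive hS hF hU1n
  obtain ⟨η, hη, -, hηU⟩ := exists_map_normalizerIn hS hU1a hU1r hU1c
  have hUN : U ≤ normalizerIn S U := le_normalizerIn hUS
  obtain ⟨δ, hδ, hδv⟩ := exists_aut_restrict hη (hTU.trans hUN)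
    (fun t ht => stronglyClosed_apply hsc hη ht)
  have hTn : F.IsFullyNormalized T := by
    refine ⟨hTS, fun Q hQ => ?_⟩
    have hle : S ≤ Subgroup.normalizer (T : Set Ω) := fun s hs =>
      Subgroup.mem_normalizer_fintype fun t ht =>
        stronglyClosed_apply hsc (F.conj_mem hTS hs) (x := ⟨t, ht⟩) ht
    rw [normalizerIn, normalizerIn, inf_eq_left.2 hle]
    exact Subgroup.card_le_of_le inf_le_left
  obtain ⟨ε0, hε0, hε0v⟩ := exists_extension (T := (T ⊔ centralizerIn S T)) (automized_receptive hS hF hTn).2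
    ((mem_autGroup_iff hTS).1 hδ)
    (sup_le (le_extender hTS fun t => hTS (δ t).2) (centralizerIn_le_extender _))
  obtain ⟨ε, hε, hεv⟩ := exists_aut_restrict hε0 (P := (T ⊔ centralizerIn S T)) le_rfl fun v hv => by
    refine forall_mem_sup ε0 le_sup_left le_sup_right (fun t ht => ?_) (fun c hc => ?_) hv hv
    · rw [hε0v ⟨t, ht⟩]; exact Subgroup.mem_sup_left (δ ⟨t, ht⟩).2
    · refine Subgroup.mem_sup_right (mem_centralizerIn.2 ⟨apply_mem hε0 _, fun t ht => ?_⟩)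
      obtain ⟨t', ht'⟩ := δ.surjective ⟨t, ht⟩
      have e1 : t = ε0 ⟨t', Subgroup.mem_sup_left t'.2⟩ := by rw [hε0v t', ht']
      rw [e1, ← map_mul, ← map_mul]
      exact congrArg ε0 (Subtype.ext ((mem_centralizerIn.1 hc).2 t' t'.2))
  have hεT : ∀ t : T, (ε ⟨t, Subgroup.mem_sup_left t.2⟩ : Ω) = δ t := fun t =>
    (hεv _).trans (hε0v t _)
  obtain ⟨z, hz⟩ : ∃ z, z = η ⟨y, hUN hyU⟩ := ⟨_, rfl⟩
  have hU1eq : U1 = T ⊔ Subgroup.zpowers z := by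
    have hηT : imgHom η T = T := by
      refine Subgroup.eq_of_le_of_card_ge ?_ ?_
      · rintro _ ⟨x, hx, rfl⟩; exact stronglyClosed_apply hsc hη hx
      · rw [card_imgHom (F.injective_of_mem hη) (hTU.trans hUN)]
    rw [← hηU, (congrArg (imgHom η) hU : imgHom η U = _), imgHom_sup η (hTU.trans hUN) (Subgroup.zpowers_le.2 (hUN hyU)), hηT,
      imgHom_zpowers η (hUN hyU), hz]
  have hzC : z ∈ centralizerIn S T := by
    refine mem_centralizerIn.2 ⟨hz ▸ apply_mem hη _, fun t ht => ?_⟩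
    obtain ⟨t', ht'⟩ := δ.surjective ⟨t, ht⟩
    have e1 : t = η ⟨t', hUN (hTU t'.2)⟩ := by rw [← hδv t', ht']
    rw [e1, hz, ← map_mul, ← map_mul]
    exact congrArg η (Subtype.ext (hyT t' t'.2).symm)
  have hTU1 : T ≤ U1 := hU1eq ▸ le_sup_left
  have hU1W : U1 ≤ (T ⊔ centralizerIn S T) :=
    hU1eq ▸ sup_le le_sup_left (Subgroup.zpowers_le.2 (Subgroup.mem_sup_right hzC))
  have hzU1 : z ∈ U1 := hU1eq ▸ Subgroup.mem_sup_right (Subgroup.mem_zpowers z)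
  have hfU1 := finite_of_le hU1n.1
  -- `b₁ = ε b ε⁻¹` satisfies the same conditions
  set b1 := ε * b * ε⁻¹ with hb1
  have hb1Γ : b1 ∈ F.autGroup (T ⊔ centralizerIn S T) := mul_mem (mul_mem hε hb) (inv_mem hε)
  have hεC : ∀ w : ↥(T ⊔ centralizerIn S T), ((w : Ω) ∈ centralizerIn S T ↔ (ε w : Ω) ∈ centralizerIn S T) := by
    intro w
    rw [mem_centralizerIn, mem_centralizerIn]
    constructor
    · intro h1
      refine ⟨hWS (ε w).2, fun t ht => ?_⟩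
      obtain ⟨t', ht'⟩ := δ.surjective ⟨t, ht⟩
      have e1 : t = (ε ⟨t', Subgroup.mem_sup_left t'.2⟩ : ↥(T ⊔ centralizerIn S T)) := by rw [hεT t', ht']
      rw [e1, ← Subgroup.coe_mul, ← Subgroup.coe_mul, ← map_mul, ← map_mul]
      exact congrArg (fun v => ((ε v : ↥(T ⊔ centralizerIn S T)) : Ω)) (Subtype.ext (h1.2 t' t'.2))
    · intro h1
      refine ⟨hWS w.2, fun t ht => ?_⟩
      have h2 := h1.2 _ (hεT ⟨t, ht⟩ ▸ (δ ⟨t, ht⟩).2)
      rw [← Subgroup.coe_mul, ← Subgroup.coe_mul, ← map_mul, ← map_mul] at h2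
      exact congrArg Subtype.val (ε.injective (Subtype.ext h2))
  have hb1C : ∀ w : ↥(T ⊔ centralizerIn S T), (w : Ω) ∈ centralizerIn S T → (w : Ω)⁻¹ * (b1 w : Ω) ∈ T := by
    intro w hw
    obtain ⟨v, rfl⟩ := ε.surjective w
    have h1 := hbC v ((hεC v).2 hw)
    rw [hb1, MulAut.mul_apply, MulAut.mul_apply, MulAut.inv_apply_self]
    rw [show ((ε v : ↥(T ⊔ centralizerIn S T)) : Ω)⁻¹ * (ε (b v) : Ω) = ((ε (v⁻¹ * b v) : ↥(T ⊔ centralizerIn S T)) : Ω) by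
      rw [map_mul, map_inv]; rfl]
    rw [show v⁻¹ * b v = ⟨_, Subgroup.mem_sup_left h1⟩ from Subtype.ext rfl, hεT ⟨_, h1⟩]
    exact (δ _).2
  have hb1T : ∀ w : ↥(T ⊔ centralizerIn S T), (w : Ω) ∈ T → (b1 w : Ω) ∈ T := fun w hw =>
    stronglyClosed_apply hsc ((mem_autGroup_iff hWS).1 hb1Γ) (x := w) hw
  have hb1U1 : ∀ v (hv : v ∈ U1), (b1 ⟨v, hU1W hv⟩ : Ω) ∈ U1 := by
    intro v hv
    refine forall_mem_sup (R := (T ⊔ centralizerIn S T)) ((T ⊔ centralizerIn S T).subtype.comp b1.toMonoidHom) le_sup_left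
      (Subgroup.zpowers_le.2 (hU1W hzU1)) (fun t ht => hTU1 (hb1T _ ht)) (fun c hc => ?_)
      (hU1W hv) (hU1eq ▸ hv)
    have hcC : c ∈ centralizerIn S T := Subgroup.zpowers_le.2 hzC hc
    have hmul := U1.mul_mem (Subgroup.zpowers_le.2 hzU1 hc) (hTU1 (hb1C ⟨c, Subgroup.mem_sup_right hcC⟩ hcC))
    rwa [mul_inv_cancel_left] at hmul
  obtain ⟨B, hB, hBv⟩ := exists_aut_restrict ((mem_autGroup_iff hWS).1 hb1Γ) hU1W hb1U1
  -- the transport of `h`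
  obtain ⟨e, he, hev⟩ := exists_iso (restrict_mem hη hUN) ((range_restrictHom η hUN).trans hηU)
  set g := MulAut.congr e h with hg
  have hgΓ : g ∈ F.autGroup U1 := congr_mem_autGroup he hhΓ
  have hgp : (orderOf g).Coprime p := by rwa [hg, MulEquiv.orderOf_eq]
  have hez : e ⟨y, hyU⟩ = ⟨z, hzU1⟩ := Subtype.ext ((hev _).trans hz.symm)
  have hgz : g ⟨z, hzU1⟩ = ⟨z, hzU1⟩ := by rw [← hez, hg, congr_apply, hhy]
  have hgB : ∀ t : U1, (t : Ω) ∈ T → g t = B t := by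
    intro t ht
    obtain ⟨t', ht'⟩ := δ.surjective ⟨t, ht⟩
    have e1 : t = e ⟨t', hTU t'.2⟩ := Subtype.ext (by
      rw [hev, restrictHom_apply, ← hδv t', ht'])
    subst e1
    rw [hg, congr_apply]
    refine Subtype.ext ?_
    have e2 : (⟨(t' : Ω), Subgroup.mem_sup_left t'.2⟩ : ↥(T ⊔ centralizerIn S T)) =
        ε⁻¹ ⟨(e ⟨t', hTU t'.2⟩ : Ω), Subgroup.mem_sup_left ht⟩ := by
      apply ε.injective
      rw [MulAut.apply_inv_self]
      refine Subtype.ext ?_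
      rw [hεT t', hev]
      exact hδv t'
    rw [hBv, hev]
    show η _ = (b1 ⟨(e ⟨t', hTU t'.2⟩ : Ω), _⟩ : Ω)
    rw [hb1, MulAut.mul_apply, MulAut.mul_apply, ← e2]
    rw [show b ⟨t', Subgroup.mem_sup_left t'.2⟩ = (⟨(a t' : Ω), Subgroup.mem_sup_left (a t').2⟩ : ↥(T ⊔ centralizerIn S T))
      from Subtype.ext (hba t'), hεT, hδv]
    exact congrArg η (Subtype.ext (hhT t'))
  have huniq : ∀ g ∈ F.autGroup U1, (orderOf g).Coprime p → (∀ t : U1, (t : Ω) ∈ T → g t = B t) →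
      (((⟨z, hzU1⟩ : U1)⁻¹ * g ⟨z, hzU1⟩ : U1) : Ω) ∈ T → g = B := by
    intro g hgΓ hgp hgB hgz
    have hκ : B⁻¹ * g ∈ translations F T U1 := by
      have hfix : ∀ t : U1, (t : Ω) ∈ T → (B⁻¹ * g) t = t := fun t ht => by
        rw [MulAut.mul_apply, hgB t ht, MulAut.inv_apply_self]
      refine ⟨mul_mem (inv_mem hB) hgΓ, hfix, forall_div_mem hU1eq
        (fun x hx => ((mem_centralizerIn.1 hzC).2 x hx).symm) _
        (fun v hv => by rw [hfix v hv]; exact hv) fun v hv => ?_⟩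
      obtain rfl : v = ⟨z, hzU1⟩ := Subtype.ext hv
      refine (stronglyClosed_apply_iff hsc ((mem_autGroup_iff hU1n.1).1 hB) (x := _)).1 ?_
      show ((B (_ * (B⁻¹ * g) _) : U1) : Ω) ∈ T
      rw [MulAut.mul_apply, map_mul, map_inv, MulAut.apply_inv_self]
      have e : (B ⟨z, hzU1⟩)⁻¹ * g ⟨z, hzU1⟩ =
          ((⟨z, hzU1⟩ : U1)⁻¹ * B ⟨z, hzU1⟩)⁻¹ * ((⟨z, hzU1⟩ : U1)⁻¹ * g ⟨z, hzU1⟩) := by group
      rw [e, Subgroup.coe_mul, Subgroup.coe_inv]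
      refine T.mul_mem (T.inv_mem ?_) hgz
      rw [Subgroup.coe_mul, Subgroup.coe_inv, hBv]
      exact hb1C ⟨z, Subgroup.mem_sup_right hzC⟩ hzC
    obtain ⟨⟨j', hj'⟩, s, hs, hsv⟩ :=
      exists_centralizer_of_translation hS hF hsc hzC hU1eq hU1n hκ
    have hcomm : Commute B (B⁻¹ * g) := by
      refine MulEquiv.ext fun w => Subtype.ext ?_
      have hsW : s ∈ (T ⊔ centralizerIn S T) := Subgroup.mem_sup_right hs
      have h1 := hb1C ⟨s, hsW⟩ hs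
      have h2 : (b1 ⟨s, hsW⟩ : Ω) ∈ centralizerIn S T := by
        obtain ⟨v, hv⟩ := ε.surjective ⟨s, hsW⟩
        have hvC : (v : Ω) ∈ centralizerIn S T := (hεC v).2 (by rw [hv]; exact hs)
        rw [← hv, hb1, MulAut.mul_apply, MulAut.mul_apply, MulAut.inv_apply_self]
        refine (hεC _).1 (mem_centralizerIn.2 ⟨hWS (b v).2, fun t ht => ?_⟩)
        obtain ⟨t', ht'⟩ := a.surjective ⟨t, ht⟩
        have e1 : t = (b ⟨t', Subgroup.mem_sup_left t'.2⟩ : ↥(T ⊔ centralizerIn S T)) := by rw [hba t', ht']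
        rw [e1, ← Subgroup.coe_mul, ← Subgroup.coe_mul, ← map_mul, ← map_mul]
        exact congrArg (fun v => ((b v : ↥(T ⊔ centralizerIn S T)) : Ω))
          (Subtype.ext ((mem_centralizerIn.1 hvC).2 t' t'.2))
      set q := s⁻¹ * (b1 ⟨s, hsW⟩ : Ω) with hq
      have hqC : q ∈ centralizerIn S T := mul_mem (inv_mem hs) h2
      have hqU : ∀ x ∈ U1, q * x = x * q := by
        intro x hx
        obtain ⟨t, ht, i, rfl⟩ := mem_sup_zpowers_of_comm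
          (mem_normalizer_of_centralize fun t ht => ((mem_centralizerIn.1 hzC).2 t ht).symm)
          (hU1eq ▸ hx)
        refine (Commute.mul_right (((mem_centralizerIn.1 hqC).2 t ht).symm : Commute q t)
          (Commute.zpow_right ?_ i)).eq
        exact (mem_centralizerIn.1 hzC).2 q h1
      show ((B ((B⁻¹ * g) w) : U1) : Ω) = ((B⁻¹ * g) (B w) : U1)
      rw [hsv, hBv, show (⟨((B⁻¹ * g) w : U1), hU1W (Subtype.mem _)⟩ : ↥(T ⊔ centralizerIn S T)) =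
        ⟨s, hsW⟩ * ⟨w, hU1W w.2⟩ * ⟨s, hsW⟩⁻¹ from Subtype.ext (hsv w)]
      show (b1 _ : Ω) = s * (B w : Ω) * s⁻¹
      have e3 : (b1 ⟨s, hsW⟩ : Ω) = s * q := by rw [hq, mul_inv_cancel_left]
      have e4 : (b1 ⟨(w : Ω), hU1W w.2⟩ : Ω) = B w := (hBv w).symm
      rw [map_mul, map_mul, map_inv, Subgroup.coe_mul, Subgroup.coe_mul, Subgroup.coe_inv, e3, e4]
      calc s * q * (B w : Ω) * (s * q)⁻¹ = s * (q * (B w : Ω) * q⁻¹) * s⁻¹ := by group
        _ = s * (B w : Ω) * s⁻¹ := by rw [hqU _ (B w).2, mul_inv_cancel_right]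
    have h1 : g = B * (B⁻¹ * g) := by rw [mul_inv_cancel_left]
    have h2 : (B⁻¹ * g) ^ p ^ j' = 1 := hj'
    have hBp : (orderOf B).Coprime p := by
      refine hbp.coprime_dvd_left (orderOf_dvd_of_pow_eq_one ?_)
      have hpw : ∀ (n : ℕ) (w : U1), ((B ^ n) w : Ω) = (b1 ^ n) ⟨w, hU1W w.2⟩ := by
        intro n
        induction n with
        | zero => intro w; rfl
        | succ n ih =>
          intro w
          rw [pow_succ, pow_succ, MulAut.mul_apply, MulAut.mul_apply, ih]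
          exact congrArg (fun v => ((b1 ^ n) v : Ω)) (Subtype.ext (hBv w))
      refine MulEquiv.ext fun w => Subtype.ext ?_
      rw [hpw, hb1, conj_pow, pow_orderOf_eq_one, mul_one, mul_inv_cancel]
      rfl
    have hcop : (orderOf (B⁻¹ * g)).Coprime p := by
      have hcg : Commute B⁻¹ g := by
        have := (hcomm.inv_left).mul_right ((Commute.refl B).inv_left)
        have h1' : (B⁻¹ * g) * B = g := by
          rw [← hcomm.eq, mul_inv_cancel_left]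
        rwa [h1'] at this
      refine Nat.Coprime.coprime_dvd_left hcg.orderOf_mul_dvd_lcm ?_
      rw [orderOf_inv]
      exact (Nat.Coprime.mul_left hBp hgp).coprime_dvd_left (Nat.lcm_dvd_mul _ _)
    have h3 : B⁻¹ * g = 1 := LocalStructure.eq_one_of_coprime_of_pow hcop h2
    rw [inv_mul_eq_one] at h3
    exact h3.symm
  -- `b` fixes `y`
  have hbU : ∀ v (hv : v ∈ U), (b ⟨v, hUW hv⟩ : Ω) ∈ U := by
    intro v hv
    refine forall_mem_sup (R := (T ⊔ centralizerIn S T)) ((T ⊔ centralizerIn S T).subtype.comp b.toMonoidHom) le_sup_left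
      (Subgroup.zpowers_le.2 (hUW hyU))
      (fun t ht => hTU (stronglyClosed_apply hsc ((mem_autGroup_iff hWS).1 hb)
        (x := ⟨t, Subgroup.mem_sup_left ht⟩) ht))
      (fun c hc => ?_) (hUW hv) (hU ▸ hv)
    have hcC : c ∈ centralizerIn S T := Subgroup.zpowers_le.2 hy.1 hc
    have hmul := U.mul_mem (Subgroup.zpowers_le.2 hyU hc) (hTU (hbC ⟨c, Subgroup.mem_sup_right hcC⟩ hcC))
    rwa [mul_inv_cancel_left] at hmul
  obtain ⟨b', hb', hb'v⟩ := exists_aut_restrict ((mem_autGroup_iff hWS).1 hb) hUW hbU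
  -- the same argument for the transport of `b`
  have hgeq : g = B := huniq g hgΓ hgp hgB (by
    rw [hgz, inv_mul_cancel]; exact T.one_mem)
  have hb'p : (orderOf (MulAut.congr e b')).Coprime p := by
    rw [MulEquiv.orderOf_eq]
    refine hbp.coprime_dvd_left (orderOf_dvd_of_pow_eq_one ?_)
    have hpw : ∀ (n : ℕ) (w : U), ((b' ^ n) w : Ω) = (b ^ n) ⟨w, hUW w.2⟩ := by
      intro n
      induction n with
      | zero => intro w; rfl
      | succ n ih =>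
        intro w
        rw [pow_succ, pow_succ, MulAut.mul_apply, MulAut.mul_apply, ih]
        exact congrArg (fun v => ((b ^ n) v : Ω)) (Subtype.ext (hb'v w))
    refine MulEquiv.ext fun w => Subtype.ext ?_
    rw [hpw, pow_orderOf_eq_one]
    rfl
  have hb'eq : ∀ w : U, (w : Ω) ∈ T → b' w = h w := fun w hw => Subtype.ext (by
    rw [hb'v, show w = ⟨(w : Ω), hTU hw⟩ from rfl, hhT ⟨w, hw⟩]
    exact hba ⟨w, hw⟩)
  have hgeq' : MulAut.congr e b' = B := huniq _ (congr_mem_autGroup he hb') hb'p (fun t ht => by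
      rw [← hgB t ht]
      obtain ⟨t', rfl⟩ := e.surjective t
      rw [hg, congr_apply, congr_apply, hb'eq t' ((stronglyClosed_apply_iff hsc he).1 ht)]) (by
      rw [← hez, congr_apply, ← map_inv, ← map_mul]
      refine stronglyClosed_apply hsc he ?_
      rw [Subgroup.coe_mul, Subgroup.coe_inv, hb'v]
      exact hbC ⟨y, Subgroup.mem_sup_right hy.1⟩ hy.1)
  have heq : b' = h := (MulAut.congr e).injective (hgeq'.trans hgeq.symm)
  exact (hb'v ⟨y, hyU⟩).symm.trans (by rw [heq, hhy])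

end CfsgLib.Fusion
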