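import Cfsg.Agent.WeakClosed.FunctorTransferMain
import Cfsg.Agent.WeakClosed.Normalizer
import Cfsg.Agent.ConjFunctor.Corollaries

/-!
# The focal subgroup is proper when `Aut_F(S)` is a `p`-group, `p ≥ 5`

The lower K-infinity subgroup controls transfer, so one may pass to the normalizer of it and then
to the quotient by it.
-/

set_option autoImplicit false
set_option linter.style.haveILetI false

universe u

namespace CfsgLib.FocalProper

open Cfsg Cfsg.FusionSystem CfsgLib.Fusion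
open CfsgLib.WeakClosed (Controls GoodMap mem_focal focal_le focal_le_of_controls)
open CfsgLib.FusionQd (wOf wOf_le wOf_ne_bot IsoInvariant normalizer_le_normalizer_wOf)

variable {p : ℕ}

/-- A `p`-group of automorphisms fixes a surjection onto the group of order `p`. -/
theorem exists_fixed_hom {X : Type*} [Group X] [Finite X] [Nontrivial X] [Fact p.Prime]
    (hX : IsPGroup p X) (A : Subgroup (MulAut X)) (hA : IsPGroup p A) :
    ∃ χ : X →* Multiplicative (ZMod p), χ ≠ 1 ∧ ∀ a ∈ A, ∀ x, χ (a x) = χ x := by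
  have hp := (Fact.out : p.Prime)
  haveI : Finite (X →* Multiplicative (ZMod p)) :=
    Finite.of_injective (fun f => (f : X → Multiplicative (ZMod p))) DFunLike.coe_injective
  let act : MulAction A (X →* Multiplicative (ZMod p)) :=
    { smul := fun a f => f.comp ((a⁻¹ : A) : MulAut X).toMonoidHom
      one_smul := fun f => MonoidHom.ext fun x => by
        show f (((1 : A)⁻¹ : A).1 x) = f x
        simp
      mul_smul := fun a b f => MonoidHom.ext fun x => by
        show f (((a * b)⁻¹ : A).1 x) = f ((b⁻¹ : A).1 ((a⁻¹ : A).1 x))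
        rw [mul_inv_rev]
        rfl }
  -- some nontrivial homomorphism
  obtain ⟨χ₀, hχ₀⟩ : ∃ χ : X →* Multiplicative (ZMod p), χ ≠ 1 := by
    haveI := hX.isNilpotent
    obtain ⟨M, hM, -⟩ := (eq_top_or_exists_le_coatom (⊥ : Subgroup X)).resolve_left bot_ne_top
    haveI : M.Normal := Subgroup.NormalizerCondition.normal_of_coatom M
      normalizerCondition_of_isNilpotent hM
    have hne : Nontrivial (X ⧸ M) := QuotientGroup.nontrivial_iff.2 hM.1
    have hcard : Nat.card (X ⧸ M) = p := by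
      obtain ⟨k, hk⟩ := (hX.to_quotient M).exists_card_eq
      obtain ⟨y, hy⟩ := exists_prime_orderOf_dvd_card' (G := X ⧸ M) p (by
        rw [hk]
        refine dvd_pow_self p fun h0 => ?_
        rw [h0, pow_zero] at hk
        exact (Finite.one_lt_card (α := X ⧸ M)).ne' hk)
      have htop : Subgroup.zpowers y = ⊤ := by
        have h1 := Subgroup.comap_injective (f := QuotientGroup.mk' M)
          (QuotientGroup.mk'_surjective M)
        refine h1 ((hM.2 _ ?_).trans (Subgroup.comap_top _).symm)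
        refine lt_of_le_of_ne (fun m hm => ?_) fun h => ?_
        · rw [Subgroup.mem_comap, QuotientGroup.mk'_apply, (QuotientGroup.eq_one_iff m).2 hm]
          exact one_mem _
        · obtain ⟨z, rfl⟩ := QuotientGroup.mk'_surjective M y
          have hz : z ∈ M := h ▸ Subgroup.mem_zpowers (QuotientGroup.mk' M z)
          rw [QuotientGroup.mk'_apply, (QuotientGroup.eq_one_iff z).2 hz, orderOf_one] at hy
          exact hp.one_lt.ne hy
      rw [← Subgroup.card_top, ← htop, Nat.card_zpowers, hy]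
    haveI : IsCyclic (X ⧸ M) := isCyclic_of_prime_card hcard
    let e : (X ⧸ M) ≃* Multiplicative (ZMod p) :=
      mulEquivOfCyclicCardEq (by rw [hcard, Nat.card_congr Multiplicative.toAdd, Nat.card_zmod])
    refine ⟨e.toMonoidHom.comp (QuotientGroup.mk' M), fun h => hM.1 ?_⟩
    refine (Subgroup.eq_top_iff' M).2 fun x => (QuotientGroup.eq_one_iff x).1 (e.injective ?_)
    rw [map_one]
    exact DFunLike.congr_fun h x
  have hdvd : p ∣ Nat.card (X →* Multiplicative (ZMod p)) := by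
    have hord : orderOf χ₀ = p := orderOf_eq_prime (MonoidHom.ext fun x => by
      rw [MonoidHom.pow_apply, MonoidHom.one_apply]
      refine Multiplicative.toAdd.injective ?_
      rw [toAdd_pow, toAdd_one, ← Nat.cast_smul_eq_nsmul (ZMod p), ZMod.natCast_self, zero_smul])
      hχ₀
    exact (dvd_of_eq hord.symm).trans (orderOf_dvd_natCard χ₀)
  obtain ⟨χ, hχ, hne⟩ := hA.exists_fixed_point_of_prime_dvd_card_of_fixed_point
    (X →* Multiplicative (ZMod p)) hdvd
    (a := (1 : X →* Multiplicative (ZMod p))) (fun a => MonoidHom.ext fun x => rfl)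
  refine ⟨χ, hne.symm, fun a ha x => ?_⟩
  have h1 := DFunLike.congr_fun (hχ ⟨a, ha⟩⁻¹) x
  have h2 : ((⟨a, ha⟩⁻¹ : A) • χ : X →* Multiplicative (ZMod p)) x = χ (a x) := by
    show χ (((⟨a, ha⟩⁻¹⁻¹ : A) : MulAut X) x) = χ (a x)
    rw [inv_inv]
  rw [← h2, h1]

variable [Fact p.Prime]

/-- If all maps extend to automorphisms of `S` and these form a `p`-group, focal is proper. -/
theorem focal_lt_of_extend {Ω : Type u} [Group Ω] {S : Subgroup Ω} [Finite S] (hS : IsPGroup p S)
    (hS1 : S ≠ ⊥) {E : FusionSystem S} (hA : IsPGroup p (E.autGroup S))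
    (hext : ∀ P φ, φ ∈ E.Hom P →
      ∃ α ∈ E.autGroup S, ∀ (x : P) (hx : (x : Ω) ∈ S), φ x = α ⟨x, hx⟩) :
    E.focalSubgroup < S := by
  haveI : Nontrivial S := (Subgroup.nontrivial_iff_ne_bot S).2 hS1
  obtain ⟨χ, hχ, hfix⟩ := exists_fixed_hom hS _ hA
  refine lt_of_le_of_ne (focal_le E) fun h => hχ (MonoidHom.ext fun s => ?_)
  have hle : E.focalSubgroup ≤ χ.ker.map S.subtype := focal_le_of_controls fun P φ hφ y => by
    obtain ⟨α, hα, hv⟩ := hext P φ hφ
    have hyS : (y : Ω) ∈ S := le_left hφ y.2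
    refine ⟨(⟨y, hyS⟩ : S)⁻¹ * α ⟨y, hyS⟩, ?_, ?_⟩
    · rw [SetLike.mem_coe, MonoidHom.mem_ker, map_mul, map_inv, hfix α hα, inv_mul_cancel]
    · rw [hv y hyS]
      rfl
  obtain ⟨t, ht, hts⟩ := hle (h.ge s.2)
  rw [MonoidHom.one_apply, ← Subtype.ext hts]
  exact ht

/-- The focal condition for the lower K-infinity subgroup. -/
theorem focalCondition_kInf (hp : 5 ≤ p) :
    CfsgLib.WeakClosed.FocalCondition.{u} p fun Q [Group Q] => kInfLower Q := by
  intro G _ _ P hc z hz hzc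
  have h := CfsgLib.ConjFunctor.inf_commutator_eq_kInf (p := p) hp
    (W := fun Q [Group Q] => kInfLower Q) (Or.inl rfl) (X := G) (S := (P : Subgroup G))
    (CfsgLib.WeakClosed.isSylowIn_top P)
  rw [commutator_def, Subgroup.map_commutator, ← MonoidHom.range_eq_map, Subgroup.range_subtype]
  exact (h.le ⟨CfsgLib.PLocal.pCore_le_sylow P hz, hzc⟩).2

/-- The theorem. -/
theorem focal_lt (hp : 5 ≤ p) :
    ∀ (n : ℕ) {Ω : Type u} [Group Ω] {S : Subgroup Ω} [Finite S], Nat.card S ≤ n →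
      IsPGroup p S → S ≠ ⊥ → ∀ (F : FusionSystem S), F.IsSaturated p →
      IsPGroup p (F.autGroup S) → F.focalSubgroup < S := by
  intro n
  induction n using Nat.strong_induction_on with
  | _ n ih =>
  intro Ω _ S _ hn hS hS1 F hF hA
  obtain ⟨hne, hiso⟩ := CfsgLib.ConjFunctor.isCharPFunctor_kInfLower.{u} (p := p)
  set V := wOf (fun Q [Group Q] => kInfLower Q) S with hV
  have hVS : V ≤ S := wOf_le S
  have hSV : S ≤ Subgroup.normalizer (V : Set Ω) :=
    Subgroup.le_normalizer.trans (normalizer_le_normalizer_wOf hiso hS)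
  obtain ⟨E, hEs, hE⟩ := CfsgLib.WeakClosed.exists_normSystem_top hS hF hVS hSV
  have hsub : ∀ P, E.Hom P ⊆ F.Hom P := fun P φ h => ((hE P) ▸ h).1
  have hfle : F.focalSubgroup ≤ E.focalSubgroup :=
    focal_le_of_controls (CfsgLib.WeakClosed.controls_of_functor hiso hne
      (focalCondition_kInf hp) _ le_rfl hS F hF _
      (CfsgLib.WeakClosed.commutator_le_focal E) fun P φ hφ y => mem_focal ((hE P).symm ▸ hφ) y)
  refine lt_of_le_of_lt hfle ?_
  have hVn : E.IsNormal V := by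
    obtain ⟨N, hN⟩ := exists_isNormalizerSystem F hVS
    have hn := (CfsgLib.WeakClosed.normSystem_isNormal hVS hN).2
    have hEN : ∀ P, E.Hom P = N.Hom P := fun P => (hE P).trans (hN P).symm
    refine ⟨hVS, fun P φ hφ => ?_⟩
    obtain ⟨ψ, hψ, h1, h2⟩ := hn P φ ((hEN P) ▸ hφ)
    exact ⟨ψ, (hEN _).symm ▸ hψ, h1, h2⟩
  have hAE : IsPGroup p (E.autGroup S) := hA.to_le (CfsgLib.WeakClosed.autGroup_mono hsub S)
  by_cases hVeq : V = S
  · refine focal_lt_of_extend hS hS1 hAE fun P φ hφ => ?_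
    rw [hVeq] at hVn
    exact CfsgLib.WeakClosed.exists_aut_normal hVn hφ
  have hsc := stronglyClosed_of_normal hVn
  haveI : (V.subgroupOf S).Normal :=
    (Subgroup.normal_subgroupOf_iff_le_normalizer hVS).2 hSV
  obtain ⟨E', hE'⟩ := FusionFactor.exists_factorSystem_quotient E V hsc
  have hE's := FusionFactor.isSaturated_factor hS hEs hsc hE'
  obtain ⟨hmor, -, hlift⟩ := FusionFactor.isSurjectiveMorphism_of_isFactorSystem hS hEs hsc hE'
  set θ := QuotientGroup.mk' (V.subgroupOf S) with hθ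
  have hV1 : V.subgroupOf S ≠ ⊥ := fun h => wOf_ne_bot hne hS hS1 (by
    show V = ⊥
    rw [← Subgroup.map_subgroupOf_eq_of_le hVS, h, Subgroup.map_bot])
  have hcard : Nat.card (⊤ : Subgroup (↥S ⧸ V.subgroupOf S)) < n := by
    rw [Subgroup.card_top]
    refine lt_of_lt_of_le ?_ hn
    conv_rhs => rw [Subgroup.card_eq_card_quotient_mul_card_subgroup (V.subgroupOf S)]
    exact lt_mul_of_one_lt_right Nat.card_pos ((Subgroup.one_lt_card_iff_ne_bot _).2 hV1)
  have hTp : IsPGroup p (⊤ : Subgroup (↥S ⧸ V.subgroupOf S)) := (hS.to_quotient _).to_subgroup ⊤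
  have hTne : (⊤ : Subgroup (↥S ⧸ V.subgroupOf S)) ≠ ⊥ := fun h =>
    hVeq (le_antisymm hVS fun x hx => by
      have h1 : θ ⟨x, hx⟩ ∈ (⊥ : Subgroup (↥S ⧸ V.subgroupOf S)) := h ▸ Subgroup.mem_top _
      rw [Subgroup.mem_bot] at h1
      exact (QuotientGroup.eq_one_iff (N := V.subgroupOf S) ⟨x, hx⟩).1 h1)
  have hA' : IsPGroup p (E'.autGroup (⊤ : Subgroup (↥S ⧸ V.subgroupOf S))) := by
    rintro ⟨a, ha⟩
    obtain ⟨φ, hφ, hDS, hφS, hD', hv⟩ := hlift ⊤ le_top _ ((mem_autGroup_iff le_rfl).1 ha)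
    have hSD : S ≤ preimageAlong θ ⊤ := fun s hs =>
      FusionFactor.mem_preimageAlong.2 ⟨hs, Subgroup.mem_top _⟩
    obtain ⟨b, hb, hbv⟩ := exists_iso (restrict_mem hφ hSD)
      (eq_S_of_isConj ⟨_, restrict_mem hφ hSD, rfl⟩)
    obtain ⟨k, hk⟩ := hAE ⟨b, hb.mem_autGroup⟩
    refine ⟨k, Subtype.ext (MulEquiv.ext fun y => ?_)⟩
    have hb' : ∀ (i : ℕ) (s : S), (((a ^ i) ⟨θ s, Subgroup.mem_top _⟩ :
        (⊤ : Subgroup (↥S ⧸ V.subgroupOf S))) : ↥S ⧸ V.subgroupOf S) = θ (((b : MulAut S) ^ i) s) := by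
      intro i
      induction i with
      | zero => intro s; rfl
      | succ i ihi =>
        intro s
        rw [pow_succ' a, pow_succ' (b : MulAut S), MulAut.mul_apply, MulAut.mul_apply]
        rw [show ((a ^ i) ⟨θ s, Subgroup.mem_top _⟩ : (⊤ : Subgroup (↥S ⧸ V.subgroupOf S))) =
          ⟨θ (((b : MulAut S) ^ i) s), Subgroup.mem_top _⟩ from Subtype.ext (ihi s)]
        refine (hv ⟨(((b : MulAut S) ^ i) s : Ω), hSD (((b : MulAut S) ^ i) s).2⟩).trans ?_
        exact congrArg θ (Subtype.ext (hbv _).symm)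
    obtain ⟨⟨y, hy⟩, rfl⟩ : ∃ z : (⊤ : Subgroup (↥S ⧸ V.subgroupOf S)), z = y := ⟨y, rfl⟩
    obtain ⟨s, rfl⟩ := QuotientGroup.mk'_surjective (V.subgroupOf S) y
    refine Subtype.ext ((hb' (p ^ k) s).trans ?_)
    rw [show (b : MulAut S) ^ p ^ k = 1 from congrArg Subtype.val hk]
    rfl
  have hlt := ih _ hcard le_rfl hTp hTne E' hE's hA'
  refine lt_of_le_of_lt (b := preimageAlong θ E'.focalSubgroup)
    (focal_le_of_controls fun P φ hφ y => ?_) ?_
  · obtain ⟨φ', hφ', hPS, hφS, hP', hv⟩ := hmor.2 P φ hφ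
    refine FusionFactor.mem_preimageAlong.2
      ⟨S.mul_mem (S.inv_mem (hPS y.2)) (hφS y), ?_⟩
    have h1 := mem_focal hφ' ⟨θ ⟨y, hPS y.2⟩, hP' y⟩
    rw [hv y] at h1
    exact h1
  · refine lt_of_le_of_ne (FusionFactor.preimageAlong_le θ _) fun h => hlt.ne ?_
    refine le_antisymm (focal_le E') fun z _ => ?_
    obtain ⟨s, rfl⟩ := QuotientGroup.mk'_surjective (V.subgroupOf S) z
    exact (FusionFactor.mem_preimageAlong.1 (h.ge s.2)).2

end CfsgLib.FocalProper
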