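import Cfsg.Agent.Fusion.NormalLeast

/-!
# The normal subsystem cut out by a character of `Aut_F(T)` of order prime to `p`

`E` is a normal subsystem on `T` and `χ` a surjective homomorphism of `Aut_F(T)` to a `p'`-group
which kills `Aut_E(T)`. The maps which restrict on the preimage of `T` to an element of `ker χ`
composed with a map of `E` generate, from their sources in the family `Fam`, a saturated normal
subsystem of index prime to `p`.
-/

set_option autoImplicit false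
set_option linter.style.haveILetI false

namespace CfsgLib.KernelSubsystem

open Cfsg Cfsg.FusionSystem CfsgLib.Fusion CfsgLib.FusionClosed CfsgLib.FusionAgemo
open CfsgLib.PrimeToPIndex (pGen Moves)
open CfsgLib.NormalLeast (Frattini)
open CfsgLib.PPowerIndexNormal (img transport)

variable {Ω : Type*} [Group Ω] {S T : Subgroup Ω} {F : FusionSystem S} {E : FusionSystem T}
  {p : ℕ} {P Q : Subgroup Ω}

/-- On the preimage of `T`, `φ` is `β` composed with a map of `E`. -/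
def Dec (F : FusionSystem S) (E : FusionSystem T) (φ : P →* Ω) (β : MulAut T) : Prop :=
  β ∈ F.autGroup T ∧ ∃ φ₀ ∈ E.Hom (P ⊓ T), ∀ (x : ↥(P ⊓ T)) (hx : φ₀ x ∈ T),
    φ ⟨x, x.2.1⟩ = ((β ⟨φ₀ x, hx⟩ : T) : Ω)

theorem Dec.congr {φ φ' : P →* Ω} {β : MulAut T} (h : Dec F E φ β) (e : ∀ x, φ' x = φ x) :
    Dec F E φ' β := by
  obtain ⟨hβ, φ₀, hφ₀, hv⟩ := h
  exact ⟨hβ, φ₀, hφ₀, fun x hx => (e _).trans (hv x hx)⟩

theorem dec_exists (hfr : Frattini E F) {φ : P →* Ω} (hφ : φ ∈ F.Hom P) :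
    ∃ β, Dec F E φ β := by
  obtain ⟨β, hβ, φ₀, hφ₀, hv⟩ :=
    hfr (P ⊓ T) inf_le_right _ (restrict_mem hφ (inf_le_left : P ⊓ T ≤ P))
  exact ⟨β, hβ, φ₀, hφ₀, hv⟩

theorem dec_conj (hT : F.StronglyClosed T) {g : Ω} (hg : g ∈ S) {φ : P →* Ω}
    (h : ∀ x : P, φ x = g * (x : Ω) * g⁻¹) :
    Dec F E φ (T.normalizerMonoidHom ⟨g, mem_normalizer_stronglyClosed hT hg⟩) :=
  ⟨(mem_autGroup_iff hT.1).2 (conj_mem' hT.1 hg fun _ => rfl), (P ⊓ T).subtype,
    subtype_mem inf_le_right, fun x _ => h ⟨x, x.2.1⟩⟩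

theorem dec_of_agree {φ : P →* Ω} {β : MulAut T} (hβ : β ∈ F.autGroup T) (hTP : T ≤ P)
    (h : ∀ x : T, φ ⟨x, hTP x.2⟩ = (β x : Ω)) : Dec F E φ β :=
  ⟨hβ, (P ⊓ T).subtype, subtype_mem inf_le_right, fun x hx => h ⟨x, hx⟩⟩

theorem Dec.restrict {φ : P →* Ω} {β : MulAut T} (h : Dec F E φ β) (hQP : Q ≤ P) {ψ : Q →* Ω}
    (e : ∀ x : Q, ψ x = φ ⟨x, hQP x.2⟩) : Dec F E ψ β := by
  obtain ⟨hβ, φ₀, hφ₀, hv⟩ := h
  have hle : Q ⊓ T ≤ P ⊓ T := inf_le_inf_right T hQP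
  exact ⟨hβ, restrictHom φ₀ hle, restrict_mem hφ₀ hle,
    fun x hx => (e _).trans (hv ⟨x, hle x.2⟩ hx)⟩

theorem Dec.comp (hT : F.StronglyClosed T) (hinv : AutInvariant E F) {φ : P →* Ω} {ψ : Q →* Ω}
    {α β : MulAut T} (hφ : φ ∈ F.Hom P) (hd : Dec F E φ α) (hd' : Dec F E ψ β) (h : ∀ x, φ x ∈ Q)
    {χ : P →* Ω} (e : ∀ x, χ x = ψ ⟨φ x, h x⟩) : Dec F E χ (β * α) := by
  obtain ⟨hα, φ₀, hφ₀, hφv⟩ := hd
  obtain ⟨hβ, ψ₀, hψ₀, hψv⟩ := hd'
  have hmem : ∀ x : ↥(P ⊓ T), φ ⟨x, x.2.1⟩ ∈ Q ⊓ T := fun x =>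
    ⟨h _, apply_mem_stronglyClosed hT hφ (x := ⟨x, x.2.1⟩) x.2.2⟩
  obtain ⟨ω, hω, hωv⟩ := exists_conj_hom hinv hψ₀ (inv_mem hα)
    (R := φ₀.range) fun _ ⟨x, hx⟩ => ⟨⟨_, hmem x⟩, by
      rw [← hx]
      have e : (⟨φ ⟨x, x.2.1⟩, (hmem x).2⟩ : T) = α ⟨φ₀ x, apply_mem hφ₀ x⟩ :=
        Subtype.ext (hφv x _)
      show ((α⁻¹ ⟨φ ⟨x, x.2.1⟩, _⟩ : T) : Ω) = φ₀ x
      rw [e, MulAut.inv_apply_self]⟩
  refine ⟨mul_mem hβ hα, _, E.comp_mem hφ₀ hω fun x => ⟨x, rfl⟩, fun x hx => ?_⟩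
  have e1 : (⟨φ ⟨x, x.2.1⟩, (hmem x).2⟩ : T) = α ⟨φ₀ x, apply_mem hφ₀ x⟩ :=
    Subtype.ext (hφv x _)
  have e' : ((α⁻¹ ⟨φ ⟨x, x.2.1⟩, (hmem x).2⟩ : T) : Ω) = φ₀ x := by
    rw [e1, MulAut.inv_apply_self]
  have h1 := hωv ⟨_, hmem x⟩ (e' ▸ ⟨x, rfl⟩)
  have h2 : (⟨(ω.comp (φ₀.codRestrict _ fun x => ⟨x, rfl⟩)) x, hx⟩ : T) =
      α⁻¹ ⟨ψ₀ ⟨_, hmem x⟩, apply_mem hψ₀ _⟩ := by
    refine Subtype.ext (Eq.trans ?_ h1)
    exact congrArg ω (Subtype.ext e'.symm)
  rw [h2, MulAut.mul_apply, MulAut.apply_inv_self, e]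
  exact hψv ⟨_, hmem x⟩ _

theorem Dec.inv (hT : F.StronglyClosed T) (hinv : AutInvariant E F) {φ : P →* Ω} {α : MulAut T}
    (hφ : φ ∈ F.Hom P) (hd : Dec F E φ α) {ψ : φ.range →* Ω}
    (hψv : ∀ x : P, ψ ⟨φ x, x, rfl⟩ = x) : Dec F E ψ α⁻¹ := by
  obtain ⟨hα, φ₀, hφ₀, hφv⟩ := hd
  obtain ⟨θ, hθ, hθv⟩ := E.inv_mem hφ₀
  have hpre : ∀ y ∈ φ.range ⊓ T, ∃ x : ↥(P ⊓ T), φ ⟨x, x.2.1⟩ = y := by
    rintro _ ⟨⟨x, rfl⟩, hy⟩
    exact ⟨⟨x, x.2, (mem_stronglyClosed_iff hT hφ).1 hy⟩, rfl⟩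
  obtain ⟨χ, hχ, hχv⟩ := exists_conj_hom hinv hθ hα (R := φ.range ⊓ T) fun y hy => by
    obtain ⟨x, rfl⟩ := hpre y hy
    exact ⟨⟨φ₀ x, x, rfl⟩, (hφv x (apply_mem hφ₀ x)).symm⟩
  refine ⟨inv_mem hα, χ, hχ, fun y hy => ?_⟩
  obtain ⟨x, hx⟩ := hpre y y.2
  have hα' : ((α ⟨φ₀ x, apply_mem hφ₀ x⟩ : T) : Ω) = y := (hφv x _).symm.trans hx
  have h1 := hχv ⟨φ₀ x, x, rfl⟩ (hα'.symm ▸ y.2)
  have h2 : (⟨χ y, hy⟩ : T) = α ⟨θ ⟨φ₀ x, x, rfl⟩, apply_mem hθ _⟩ := by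
    refine Subtype.ext (Eq.trans ?_ h1)
    exact congrArg χ (Subtype.ext hα'.symm)
  rw [h2, MulAut.inv_apply_self]
  show ψ ⟨y, y.2.1⟩ = θ ⟨φ₀ x, x, rfl⟩
  rw [hθv x, show (⟨(y : Ω), y.2.1⟩ : φ.range) = ⟨φ ⟨x, x.2.1⟩, _, rfl⟩ from Subtype.ext hx.symm]
  exact hψv ⟨x, x.2.1⟩

/-- The maps decomposing with an element of `K`. -/
def decSystem (hT : F.StronglyClosed T) (hinv : AutInvariant E F) (K : Subgroup (MulAut T))
    (hK : ∀ g : Ω, ∀ hg : g ∈ S,
      T.normalizerMonoidHom ⟨g, mem_normalizer_stronglyClosed hT hg⟩ ∈ K) : FusionSystem S where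
  Hom P := {φ | φ ∈ F.Hom P ∧ ∃ β ∈ K, Dec F E φ β}
  le_of_mem h := F.le_of_mem h.1
  injective_of_mem h := F.injective_of_mem h.1
  conj_mem hP hg := ⟨F.conj_mem hP hg, _, hK _ hg, dec_conj hT hg fun _ => rfl⟩
  comp_mem := by
    rintro P Q φ ψ ⟨hφ, α, hα, hd⟩ ⟨hψ, β, hβ, hd'⟩ h
    exact ⟨F.comp_mem hφ hψ h, β * α, K.mul_mem hβ hα, hd.comp hT hinv hφ hd' h fun _ => rfl⟩
  inv_mem := by
    rintro P φ ⟨hφ, α, hα, hd⟩
    obtain ⟨ψ, hψ, hψv⟩ := F.inv_mem hφ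
    exact ⟨ψ, ⟨hψ, α⁻¹, K.inv_mem hα, hd.inv hT hinv hφ hψv⟩, hψv⟩

/-- The centric subgroups all of whose conjugates meet `T` in `E`-centric subgroups. -/
def Fam (F : FusionSystem S) (E : FusionSystem T) : Set (Subgroup Ω) :=
  {P | F.IsCentric P ∧ ∀ Q, F.IsConj P Q → E.IsCentric (Q ⊓ T)}

theorem Fam.conj (hP : P ∈ Fam F E) (h : F.IsConj P Q) : Q ∈ Fam F E :=
  ⟨isCentric_of_isConj hP.1 h, fun R hR => hP.2 R (isConj_trans h hR)⟩

theorem Fam.mono (hP : P ∈ Fam F E) (hPQ : P ≤ Q) (hQ : Q ≤ S) : Q ∈ Fam F E := by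
  refine ⟨isCentric_of_le hP.1 hPQ hQ, fun R ⟨φ, hφ, hr⟩ => ?_⟩
  exact isCentric_of_le (hP.2 _ (isConj_restrict hφ hPQ))
    (inf_le_inf_right T (hr ▸ imgHom_le_range φ P)) inf_le_right

theorem self_mem_Fam [Finite S] (hTS : T ≤ S) : S ∈ Fam F E := by
  haveI := finite_of_le hTS
  exact ⟨isCentric_self, fun Q hQ => by
    rw [eq_S_of_isConj hQ, inf_eq_right.2 hTS]
    exact isCentric_self⟩

/-- A subgroup containing `T C_S(T)` is fixed by all maps. -/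
theorem range_eq_of_top [Finite S] (hT : F.StronglyClosed T)
    {φ : ↥(T ⊔ centralizerIn S T) →* Ω} (hφ : φ ∈ F.Hom (T ⊔ centralizerIn S T)) :
    φ.range = T ⊔ centralizerIn S T := by
  haveI := finite_of_le hT.1
  haveI := finite_of_le (le_left hφ)
  refine Subgroup.eq_of_le_of_card_ge ?_ ?_
  · rw [← imgHom_self, imgHom_sup φ le_sup_left le_sup_right]
    have himgT : imgHom φ T = T := by
      refine Subgroup.eq_of_le_of_card_ge ?_ ?_
      · rintro _ ⟨x, hx, rfl⟩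
        exact apply_mem_stronglyClosed hT hφ hx
      · rw [card_imgHom (F.injective_of_mem hφ) le_sup_left]
    refine sup_le_sup himgT.le ?_
    rintro _ ⟨c, hc, rfl⟩
    have h1 := map_mem_centralizer (ψ := φ) le_sup_left (g := c)
      (Subgroup.mem_inf.1 (hc : (c : Ω) ∈ centralizerIn S T)).2
    rw [himgT] at h1
    exact ⟨apply_mem hφ c, h1⟩
  · rw [← Nat.card_congr (MonoidHom.ofInjective (F.injective_of_mem hφ)).toEquiv]

theorem top_mem_Fam [Finite S] (hT : F.StronglyClosed T) :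
    T ⊔ centralizerIn S T ∈ Fam F E := by
  haveI := finite_of_le hT.1
  have hW : T ⊔ centralizerIn S T ≤ S := sup_le hT.1 (centralizerIn_le S T)
  refine ⟨⟨hW, ?_⟩, ?_⟩
  · rintro Q ⟨φ, hφ, rfl⟩
    rw [range_eq_of_top hT hφ]
    exact (centralizerIn_anti le_sup_left).trans le_sup_right
  · rintro Q ⟨φ, hφ, rfl⟩
    rw [range_eq_of_top hT hφ, inf_eq_right.2 le_sup_left]
    exact isCentric_self

section main

variable [Finite S] [Fact p.Prime]

/-- A fully normalized centric subgroup outside `Fam` is moved. -/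
theorem moves_of_not_mem (hS : IsPGroup p S) (hF : F.IsSaturated p) (hT : F.StronglyClosed T)
    (hEF : E.IsSubsystemOf F) (hPc : F.IsCentric P) (hPn : F.IsFullyNormalized P)
    (hnot : P ∉ Fam F E) : Moves F p P := by
  obtain ⟨Q, hPQ, hQnot⟩ : ∃ Q, F.IsConj P Q ∧ ¬ E.IsCentric (Q ⊓ T) := by
    by_contra h
    exact hnot ⟨hPc, fun Q hQ => by_contra fun hn => h ⟨Q, hQ, hn⟩⟩
  obtain ⟨U', hUU', hU'⟩ : ∃ U', E.IsConj (Q ⊓ T) U' ∧ ¬ centralizerIn T U' ≤ U' := by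
    by_contra h
    exact hQnot ⟨inf_le_right, fun U' hU' => by_contra fun hn => h ⟨U', hU', hn⟩⟩
  have hQS := le_of_isConj_right hPQ
  have hUS : Q ⊓ T ≤ S := inf_le_left.trans hQS
  haveI := finite_of_le hQS
  haveI := finite_of_le hUS
  have hQN : Q ≤ normalizerIn S (Q ⊓ T) := fun g hg => by
    refine ⟨hQS hg, CfsgLib.SatCriterion.mem_normalizer_of_finite fun y hy =>
      ⟨Q.mul_mem (Q.mul_mem hg hy.1) (Q.inv_mem hg),
        conj_mem_stronglyClosed hT (hQS hg) hy.2⟩⟩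
  -- make the intersection receptive
  obtain ⟨V, θ, hθ, hVr, hθc⟩ := CfsgLib.SatCriterion.exists_iso_sylow (hF (Q ⊓ T) hUS)
    (X := autInducedBy Q (Q ⊓ T))
    ((autInducedBy_mono hQS _).trans (autInducedBy_le_autGroup hUS))
    (isPGroup_autInducedBy (hS.to_le hQS) _)
  obtain ⟨ψ, hψ, hψv⟩ := exists_extension (T := Q) hVr hθ fun g hg =>
    mem_extender_of_congr (hQN hg) (α := (Q ⊓ T).normalizerMonoidHom ⟨g, (hQN hg).2⟩)
      (fun _ => rfl) (hθc _ (mem_autInducedBy_iff.2 ⟨g, hg, (hQN hg).2, fun _ => rfl⟩))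
  have hVQ' : ψ.range ⊓ T = V := by
    rw [imgHom_inf_stronglyClosed hT hψ]
    exact imgHom_eq_of_agree inf_le_left hψv
  have hV_le : V ≤ T := hVQ' ▸ inf_le_right
  -- its centralizer in `T` is not inside it
  obtain ⟨φU, hφU, hrU⟩ := hUU'
  obtain ⟨e0, he0⟩ := isConj_iff.1
    (⟨φU, hEF _ hφU, hrU⟩ : F.IsConj (Q ⊓ T) U')
  obtain ⟨c, hc, hcU'⟩ := SetLike.not_le_iff_exists.1 hU'
  have hU'S := he0.le_right
  have hfe := he0.symm.trans hθ
  obtain ⟨η, hη, hηv⟩ := exists_extension (T := U' ⊔ centralizerIn S U') hVr hfe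
    (sup_le (le_extender hU'S (F.le_of_mem hfe).2) (centralizerIn_le_extender _))
  have hcS : c ∈ centralizerIn S U' := ⟨hT.1 hc.1, hc.2⟩
  have himgη := imgHom_eq_of_agree le_sup_left hηv
  have hlC : η ⟨c, Subgroup.mem_sup_right hcS⟩ ∈ centralizerIn T V := by
    refine ⟨apply_mem_stronglyClosed hT hη (x := ⟨c, Subgroup.mem_sup_right hcS⟩) hc.1, ?_⟩
    have h1 := map_mem_centralizer (ψ := η) le_sup_left
      (g := ⟨c, Subgroup.mem_sup_right hcS⟩) hcS.2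
    rwa [himgη] at h1
  have hlV : η ⟨c, Subgroup.mem_sup_right hcS⟩ ∉ V := fun h => by
    rw [← himgη, mem_imgHom_apply_iff (F.injective_of_mem hη)] at h
    exact hcU' h
  -- an element of `C_T(V)` normalizing `Q'`
  obtain ⟨Q', hQ'⟩ : ∃ Q', Q' = ψ.range := ⟨_, rfl⟩
  have hQ'S : Q' ≤ S := hQ' ▸ range_le hψ
  rw [← hQ'] at hVQ'
  have hPQ' : F.IsConj P Q' := isConj_trans hPQ ⟨ψ, hψ, hQ'.symm⟩
  have hnorm : Q' ≤ Subgroup.normalizer (centralizerIn T V : Set Ω) := by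
    intro g hg
    rw [Subgroup.mem_normalizer_iff]
    have h1 : ∀ g ∈ Q', ∀ y ∈ centralizerIn T V, g * y * g⁻¹ ∈ centralizerIn T V := by
      intro g hg y hy
      refine mem_centralizerIn'.2 ⟨conj_mem_stronglyClosed hT (hQ'S hg) hy.1, fun x hx => ?_⟩
      have hx' : g⁻¹ * x * g ∈ V := by
        rw [← hVQ'] at hx ⊢
        refine ⟨Q'.mul_mem (Q'.mul_mem (Q'.inv_mem hg) hx.1) hg, ?_⟩
        have := conj_mem_stronglyClosed hT (S.inv_mem (hQ'S hg)) hx.2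
        simpa using this
      have h2 := (mem_centralizerIn'.1 hy).2 _ hx'
      calc g * y * g⁻¹ * x * (g * y * g⁻¹)⁻¹ = g * (y * (g⁻¹ * x * g) * y⁻¹) * g⁻¹ := by group
        _ = x := by rw [h2]; group
    refine fun y => ⟨h1 g hg y, fun h => ?_⟩
    have := h1 g⁻¹ (Q'.inv_mem hg) _ h
    simpa [mul_assoc] using this
  have hMS : centralizerIn T V ⊔ Q' ≤ S := sup_le ((centralizerIn_le T V).trans hT.1) hQ'S
  have hlt : Q' < centralizerIn T V ⊔ Q' := lt_of_le_of_ne le_sup_right fun h => hlV <| by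
    rw [← hVQ']
    exact ⟨h ▸ Subgroup.mem_sup_left hlC, hlC.1⟩
  haveI := finite_of_le hMS
  obtain ⟨m, hm, hmQ⟩ := SetLike.exists_of_lt
    (lt_normalizerIn (p := p) (hS.to_le hMS) hlt)
  obtain ⟨l, hl, x, hx, rfl⟩ : ∃ l ∈ centralizerIn T V, ∃ x ∈ Q', l * x = m := by
    have hmem : m ∈ ((centralizerIn T V ⊔ Q' : Subgroup Ω) : Set Ω) := hm.1
    rw [Subgroup.coe_mul_of_right_le_normalizer_left _ _ hnorm] at hmem
    exact hmem
  have hlN : l ∈ normalizerIn S Q' := by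
    refine ⟨hT.1 hl.1, ?_⟩
    have := Subgroup.mul_mem _ hm.2 (Subgroup.inv_mem _ (Subgroup.le_normalizer hx))
    simpa using this
  have hlQ : l ∉ Q' := fun h => hmQ (Q'.mul_mem h hx)
  -- the automorphisms trivial on `Q' ∩ T` and on `Q' / (Q' ∩ T)`
  haveI := finite_of_le hQ'S
  let K₁ : Subgroup (F.autGroup Q') :=
    { carrier := {a | (∀ y : Q', (y : Ω) ∈ T → (a : MulAut Q') y = y) ∧
        ∀ y : Q', ((y⁻¹ * (a : MulAut Q') y : Q') : Ω) ∈ T}
      one_mem' := ⟨fun _ _ => rfl, fun y => by simp⟩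
      mul_mem' := fun {a b} ha hb => ⟨fun y hy => by
          rw [Subgroup.coe_mul, MulAut.mul_apply, hb.1 y hy, ha.1 y hy],
        fun y => by
          have e : y⁻¹ * ((a * b : F.autGroup Q') : MulAut Q') y =
              (y⁻¹ * (a : MulAut Q') y) * (a : MulAut Q') (y⁻¹ * (b : MulAut Q') y) := by
            simp [mul_assoc]
          rw [e, ha.1 _ (hb.2 y)]
          exact T.mul_mem (ha.2 y) (hb.2 y)⟩
      inv_mem' := fun {a} ha => ⟨fun y hy => by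
          rw [Subgroup.coe_inv]
          conv_lhs => rw [← ha.1 y hy]
          exact MulAut.inv_apply_self _ _ _,
        fun y => by
          have h := T.inv_mem (ha.2 ((a : MulAut Q').symm y))
          simp only [MulEquiv.apply_symm_apply] at h
          simpa using h⟩ }
  have hK₁n : K₁.Normal := ⟨fun k hk a => ⟨fun y hy => by
      have h1 : (((a : MulAut Q').symm y : Q') : Ω) ∈ T := by
        rw [← aut_mem_stronglyClosed_iff hT hQ'S a.2, MulEquiv.apply_symm_apply]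
        exact hy
      show (a : MulAut Q') ((k : MulAut Q') ((a : MulAut Q').symm y)) = y
      rw [hk.1 _ h1, MulEquiv.apply_symm_apply],
    fun y => by
      have h := (aut_mem_stronglyClosed_iff hT hQ'S a.2).2 (hk.2 ((a : MulAut Q').symm y))
      simpa [MulAut.mul_apply, MulAut.inv_def] using h⟩⟩
  have hK₁p : IsPGroup p K₁ := by
    obtain ⟨j, hj⟩ := (hS.to_le hQ'S).exists_card_eq
    rintro ⟨a, ha⟩
    refine ⟨j, Subtype.ext (Subtype.ext (MulEquiv.ext fun y => ?_))⟩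
    have hn : ∀ n : ℕ, ((a : MulAut Q') ^ n) y = y * (y⁻¹ * (a : MulAut Q') y) ^ n := by
      intro n
      induction n with
      | zero => simp
      | succ n ih =>
        rw [pow_succ' (a : MulAut Q'), MulAut.mul_apply, ih, map_mul, map_pow, ha.1 _ (ha.2 y),
          pow_succ' (y⁻¹ * (a : MulAut Q') y), ← mul_assoc, mul_inv_cancel_left]
    show ((a : MulAut Q') ^ p ^ j) y = y
    rw [hn, ← hj, pow_card_eq_one', mul_one]
  let cl : F.autGroup Q' := ⟨Q'.normalizerMonoidHom ⟨l, hlN.2⟩,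
    autInducedBy_le_autGroup hQ'S (mem_autInducedBy_iff.2 ⟨l, hlN.1, hlN.2, fun _ => rfl⟩)⟩
  have hcl : cl ∈ K₁ := by
    refine ⟨fun y hy => Subtype.ext ?_, fun y => ?_⟩
    · exact (mem_centralizerIn'.1 hl).2 y (hVQ' ▸ ⟨y.2, hy⟩)
    · show (y : Ω)⁻¹ * (l * y * l⁻¹) ∈ T
      rw [show (y : Ω)⁻¹ * (l * y * l⁻¹) = ((y : Ω)⁻¹ * l * y) * l⁻¹ by group]
      refine T.mul_mem ?_ (T.inv_mem hl.1)
      have := conj_mem_stronglyClosed hT (S.inv_mem (hQ'S y.2)) hl.1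
      simpa using this
  haveI := hK₁n
  have hclO : cl ∈ pCore p (F.autGroup Q') := CfsgLib.PLocal.le_pCore hK₁p hcl
  -- move it to `P`
  obtain ⟨hPa, hPr⟩ := automized_receptive hS hF hPn
  obtain ⟨ν, hν, hνN, hνP⟩ := exists_map_normalizerIn hS hPa hPr (isConj_symm hPQ')
  obtain ⟨eν, heν, heνv⟩ := exists_iso (restrict_mem hν (le_normalizerIn hQ'S))
    ((range_restrictHom ν _).trans hνP)
  obtain ⟨k', hk', hk'v⟩ := CfsgLib.SatCriterion.congr_mem_opAut heν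
    (⟨cl, hclO, rfl⟩ : (cl : MulAut Q') ∈ CfsgLib.SatCriterion.opAut F p Q')
  refine ⟨ν ⟨l, hlN⟩, hνN _, fun h => ?_, k', hk', fun z => ?_⟩
  · rw [← hνP, mem_imgHom_apply_iff (F.injective_of_mem hν)] at h
    exact hlQ h
  · obtain ⟨y, rfl⟩ := eν.surjective z
    rw [show (k' : MulAut P) = MulAut.congr eν (cl : MulAut Q') from hk'v, congr_apply, heνv, heνv,
      restrictHom_apply, restrictHom_apply, ← map_inv, ← map_mul, ← map_mul]
    rfl

/-- The automorphisms of `p`-power order decompose with elements of `K`. -/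
theorem pGen_le_decSystem (hS : IsPGroup p S) (hF : F.IsSaturated p) (hT : F.StronglyClosed T)
    (hinv : AutInvariant E F) (hfr : Frattini E F) {K : Subgroup (MulAut T)}
    (hK : ∀ g : Ω, ∀ hg : g ∈ S,
      T.normalizerMonoidHom ⟨g, mem_normalizer_stronglyClosed hT hg⟩ ∈ K)
    (hKn : ∀ a ∈ F.autGroup T, ∀ k ∈ K, a * k * a⁻¹ ∈ K) (hP : P ≤ S) :
    (pGen p F P).map (F.autGroup P).subtype ≤ (decSystem hT hinv K hK).autGroup P := by
  rw [MonoidHom.map_closure, Subgroup.closure_le]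
  rintro _ ⟨a, ⟨k, hk⟩, rfl⟩
  haveI := finite_of_le hP
  obtain ⟨Q, hPQ, hQ⟩ := exists_fullyNormalized (F := F) hP
  obtain ⟨hQa, -⟩ := automized_receptive hS hF hQ
  obtain ⟨e₀, he₀⟩ := isConj_iff.1 hPQ
  haveI := finite_of_le hQ.1
  obtain ⟨γ, hγ, hγc⟩ := exists_conj_autInducedBy hQa
    (X := Subgroup.zpowers (MulAut.congr e₀ (a : MulAut P)))
    (Subgroup.zpowers_le.2 (congr_mem_autGroup he₀ a.2))
    (isPGroup_zpowers_of_pow_eq_one (k := k) (by
      rw [← map_pow, ← SubgroupClass.coe_pow, ← hk, pow_orderOf_eq_one]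
      exact map_one _))
  obtain ⟨e, he, hea⟩ : ∃ e : P ≃* Q, IsIso F e ∧
      MulAut.congr e (a : MulAut P) ∈ autInducedBy S Q := by
    refine ⟨e₀.trans γ, he₀.trans ((mem_autGroup_iff hQ.1).1 hγ), ?_⟩
    rw [congr_trans, congr_self_eq]
    exact hγc _ (Subgroup.mem_zpowers _)
  obtain ⟨g, hg, hgN, hga⟩ := mem_autInducedBy_iff.1 hea
  obtain ⟨β, hβ⟩ := dec_exists (E := E) hfr (he : Q.subtype.comp e.toMonoidHom ∈ F.Hom P)
  have haS : IsIso F (a : MulAut P) := (mem_autGroup_iff hP).1 a.2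
  refine IsIso.mem_autGroup ⟨haS,
    β⁻¹ * (T.normalizerMonoidHom ⟨g, mem_normalizer_stronglyClosed hT hg⟩ * β), ?_, ?_⟩
  · rw [← mul_assoc]
    have := hKn β⁻¹ (inv_mem hβ.1) _ (hK g hg)
    rwa [inv_inv] at this
  · -- `a` is `e⁻¹ c_g e`
    have he' : ∀ x, (Q.subtype.comp e.toMonoidHom) x ∈ Q := fun x => (e x).2
    have h1 := hβ.comp hT hinv he (dec_conj (E := E) hT hg (φ := conjHom Q g) fun _ => rfl) he'
      (χ := (conjHom Q g).comp e.toMonoidHom) fun _ => rfl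
    have hψv : ∀ x : P, (P.subtype.comp ((MulEquiv.subgroupCongr (range_subtype_comp e)).trans
        e.symm).toMonoidHom) ⟨(Q.subtype.comp e.toMonoidHom) x, x, rfl⟩ = x := fun x =>
      congrArg Subtype.val (e.symm_apply_apply x)
    have h2 := hβ.inv hT hinv he hψv
    have hmem : ∀ x : P, (conjHom Q g).comp e.toMonoidHom x ∈
        (Q.subtype.comp e.toMonoidHom).range := fun x => by
      refine ⟨(a : MulAut P) x, ?_⟩
      show (e ((a : MulAut P) x) : Ω) = g * (e x : Ω) * g⁻¹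
      rw [← hga, congr_apply]
    refine h1.comp hT hinv (mem_of_comp he (F.conj_mem hQ.1 hg) he' fun _ => rfl) h2 hmem
      fun x => ?_
    show ((a : MulAut P) x : Ω) = (e.symm _ : Ω)
    refine congrArg Subtype.val ((MulEquiv.eq_symm_apply e).2 (Subtype.ext ?_))
    show (e ((a : MulAut P) x) : Ω) = g * (e x : Ω) * g⁻¹
    rw [← hga, congr_apply]

/-- Uniqueness of the decomposition on `Fam`. -/
theorem dec_unique (hT : F.StronglyClosed T) (hTp : IsPGroup p T) (hE : E.IsSaturated p)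
    (hinv : AutInvariant E F) {K : Subgroup (MulAut T)} (hEK : E.autGroup T ≤ K)
    (hroot : ∀ a ∈ F.autGroup T, ∀ j : ℕ, a ^ p ^ j ∈ K → a ∈ K)
    (hP : P ∈ Fam F E) {φ : P →* Ω} {β β' : MulAut T} (h : Dec F E φ β) (h' : Dec F E φ β') :
    β'⁻¹ * β ∈ K := by
  haveI := finite_of_le hT.1
  obtain ⟨hβ, φ₀, hφ₀, hv⟩ := h
  obtain ⟨hβ', φ₁, hφ₁, hv'⟩ := h'
  have hc : E.IsCentric φ₀.range :=
    isCentric_of_isConj (hP.2 P (isConj_refl hP.1.1)) ⟨φ₀, hφ₀, rfl⟩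
  obtain ⟨f, hf, hfv⟩ := exists_iso_range hφ₀
  have ha : β'⁻¹ * β ∈ F.autGroup T := mul_mem (inv_mem hβ') hβ
  refine CfsgLib.NormalLeast.mem_of_restrict hTp hE hinv hEK (Nat.card T) φ₀.range hc.1 _
    (Nat.le_add_left _ _) hc ha (fun n j hj => hroot _ (pow_mem ha n) j hj) ?_
  refine mem_congr (hf.symm.comp_hom hφ₁) fun y => ?_
  obtain ⟨x, rfl⟩ := f.surjective y
  show ((β'⁻¹ * β) ⟨(f x : Ω), _⟩ : Ω) = φ₁ (f.symm (f x))
  rw [f.symm_apply_apply, MulAut.mul_apply]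
  have h1 : β ⟨(f x : Ω), hc.1 (f x).2⟩ = β' ⟨φ₁ x, apply_mem hφ₁ x⟩ := by
    refine Subtype.ext (Eq.trans ?_ (hv' x _))
    refine Eq.trans (congrArg (fun w : T => (β w : Ω))
      (Subtype.ext (a2 := (⟨φ₀ x, apply_mem hφ₀ x⟩ : T)) (hfv x))) ?_
    exact (hv x (apply_mem hφ₀ x)).symm
  rw [h1, MulAut.inv_apply_self]

/-- The subsystem generated by the maps on `Fam` decomposing with an element of `K`. -/
def kerSystem (hT : F.StronglyClosed T) (hinv : AutInvariant E F) (K : Subgroup (MulAut T))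
    (hK : ∀ g : Ω, ∀ hg : g ∈ S,
      T.normalizerMonoidHom ⟨g, mem_normalizer_stronglyClosed hT hg⟩ ∈ K) : FusionSystem S :=
  CfsgLib.PPrimeResidual.infSystem (decSystem hT hinv K hK)
    {X | ∀ P ∈ Fam F E, (decSystem hT hinv K hK).Hom P ⊆ X.Hom P}

/-- The theorem. -/
theorem exists_normal_subsystem (hS : IsPGroup p S) (hF : F.IsSaturated p)
    (hE : E.IsNormalIn F p) {Δ : Type*} [Group Δ] [Finite Δ] [Nontrivial Δ]
    (hΔ : (Nat.card Δ).Coprime p) (χ : F.autGroup T →* Δ) (hχ : Function.Surjective χ)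
    (hker : (E.autGroup T).subgroupOf (F.autGroup T) ≤ χ.ker) :
    ∃ F₀ : FusionSystem S, F₀.IsNormalIn F p ∧ ¬ (∀ P : Subgroup Ω, F₀.Hom P = F.Hom P) ∧
      E.IsSubsystemOf F₀ ∧
      (∀ (hTS : T ≤ S) (α : MulAut ↥S), α ∈ F₀.autGroup S ↔ α ∈ F.autGroup S ∧
        ∃ β : F.autGroup T, χ β = 1 ∧
          ∀ t : T, (((β : MulAut T) t : T) : Ω) = ((α ⟨(t : Ω), hTS t.2⟩ : S) : Ω)) ∧
      ∀ R : FusionSystem S, F.IsPPrimeResidual p R → R.IsSubsystemOf F₀ := by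
  obtain ⟨⟨hEs, -, ⟨hEF, hT, hinv, hfr⟩⟩, hext⟩ := hE
  haveI := finite_of_le hT.1
  have hTp : IsPGroup p T := hS.to_le hT.1
  let K : Subgroup (MulAut T) := χ.ker.map (F.autGroup T).subtype
  have hKA : K ≤ F.autGroup T := Subgroup.map_subtype_le _
  have memK : ∀ (a : MulAut T) (ha : a ∈ F.autGroup T), a ∈ K ↔ χ ⟨a, ha⟩ = 1 := fun a ha =>
    ⟨fun ⟨b, hb, hba⟩ => by rw [show (⟨a, ha⟩ : F.autGroup T) = b from Subtype.ext hba.symm]
                            exact hb,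
      fun h => ⟨⟨a, ha⟩, h, rfl⟩⟩
  have hroot : ∀ a ∈ F.autGroup T, ∀ j : ℕ, a ^ p ^ j ∈ K → a ∈ K := by
    intro a ha j hj
    rw [memK _ (pow_mem ha _)] at hj
    have h1 : χ ⟨a, ha⟩ ^ p ^ j = 1 := by
      rw [← map_pow]
      exact hj
    refine (memK a ha).2 (orderOf_eq_one_iff.1 (Nat.eq_one_of_dvd_coprimes
      (hΔ.pow_right j) (orderOf_dvd_natCard _) (orderOf_dvd_of_pow_eq_one h1)))
  have hKn : ∀ a ∈ F.autGroup T, ∀ k ∈ K, a * k * a⁻¹ ∈ K := by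
    rintro a ha _ ⟨k, hk, rfl⟩
    exact ⟨⟨a, ha⟩ * k * ⟨a, ha⟩⁻¹, (MonoidHom.normal_ker χ).conj_mem k hk _, rfl⟩
  have hEK : E.autGroup T ≤ K := fun a ha => by
    have haF : a ∈ F.autGroup T :=
      (mem_autGroup_iff hT.1).2 (hEF T ((mem_autGroup_iff le_rfl).1 ha))
    exact (memK a haF).2 (hker (show (⟨a, haF⟩ : F.autGroup T) ∈
      (E.autGroup T).subgroupOf (F.autGroup T) from ha))
  have hK : ∀ g : Ω, ∀ hg : g ∈ S,
      T.normalizerMonoidHom ⟨g, mem_normalizer_stronglyClosed hT hg⟩ ∈ K := by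
    intro g hg
    obtain ⟨j, hj⟩ := isPGroup_autInducedBy hS T
      ⟨T.normalizerMonoidHom ⟨g, mem_normalizer_stronglyClosed hT hg⟩,
        mem_autInducedBy_iff.2 ⟨g, hg, mem_normalizer_stronglyClosed hT hg, fun _ => rfl⟩⟩
    refine hroot (T.normalizerMonoidHom ⟨g, mem_normalizer_stronglyClosed hT hg⟩)
      ((mem_autGroup_iff hT.1).2 (conj_mem' hT.1 hg fun _ => rfl)) j ?_
    rw [show (T.normalizerMonoidHom ⟨g, mem_normalizer_stronglyClosed hT hg⟩ : MulAut T) ^ p ^ j = 1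
      from congrArg Subtype.val hj]
    exact one_mem K
  set D := decSystem hT hinv K hK with hD
  set F₀ := kerSystem hT hinv K hK with hF₀
  have hle : ∀ P : Subgroup Ω, F₀.Hom P ⊆ D.Hom P := fun P φ h => h.1
  have hge : ∀ P ∈ Fam F E, D.Hom P ⊆ F₀.Hom P := fun P hP φ h =>
    ⟨h, fun X hX => hX P hP h⟩
  have hsub : F₀.IsSubsystemOf F := fun P φ h => (hle P h).1
  have hmoves : ∀ P : Subgroup Ω, F.IsCentric P → F.IsFullyNormalized P → P ∉ Fam F E →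
      Moves F p P := fun P hc hn hnot => moves_of_not_mem hS hF hT hEF hc hn hnot
  have hgenP : ∀ P ∈ Fam F E, (pGen p F P).map (F.autGroup P).subtype ≤ F₀.autGroup P :=
    fun P hP α hα => IsIso.mem_autGroup (hge P hP ((mem_autGroup_iff hP.1.1).1
      (pGen_le_decSystem hS hF hT hinv hfr hK hKn hP.1.1 hα)))
  obtain ⟨hidx, hdec, hcen⟩ := CfsgLib.PrimeToPIndex.main' hS hF hsub
    (ℋ := Fam F E) (fun _ hP _ hQ => Fam.conj hP hQ) (fun _ hP => hP.1.1) hmoves hgenP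
  -- `Aut_F(S)` maps onto `Aut_F(T)` modulo `K`
  have hTn : F.IsFullyNormalized T := by
    refine ⟨hT.1, fun Q hQ => ?_⟩
    obtain ⟨φ, hφ, rfl⟩ := id hQ
    have : φ.range = T := by
      refine Subgroup.eq_of_le_of_card_ge ?_ (card_eq_of_isConj hQ).le
      rintro _ ⟨x, rfl⟩
      exact apply_mem_stronglyClosed hT hφ x.2
    rw [this]
  obtain ⟨hTa, hTr⟩ := automized_receptive hS hF hTn
  have hlift : ∀ β ∈ F.autGroup T, ∃ α ∈ F.autGroup S, ∃ k ∈ K,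
      Dec F E (S.subtype.comp (α : MulAut S).toMonoidHom) (k * β) := by
    intro β hβ
    have hSK : autInducedBy S T ≤ K := fun a ha => by
      obtain ⟨g, hg, -, hga⟩ := mem_autInducedBy_iff.1 ha
      rw [show a = T.normalizerMonoidHom ⟨g, mem_normalizer_stronglyClosed hT hg⟩ from
        MulEquiv.ext fun x => Subtype.ext (hga x)]
      exact hK g hg
    obtain ⟨k, hk, hkc⟩ := (IsSylowIn.mono (H := F.autGroup T) hTa.2 hSK hKA).exists_conj
      (X := (autInducedBy S T).map (MulAut.conj β).toMonoidHom)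
      (by
        rintro _ ⟨a, ha, rfl⟩
        exact hKn β hβ a (hSK ha))
      ((isPGroup_autInducedBy hS T).map _)
    have hkβ : IsIso F (k * β : MulAut T) :=
      (mem_autGroup_iff hT.1).1 (mul_mem (hKA hk) hβ)
    obtain ⟨ψ, hψ, hψv⟩ := exists_extension (T := S) hTr hkβ fun g hg =>
      mem_extender_of_congr ⟨hg, mem_normalizer_stronglyClosed hT hg⟩
        (α := T.normalizerMonoidHom ⟨g, mem_normalizer_stronglyClosed hT hg⟩) (fun _ => rfl) (by
        rw [congr_self_eq]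
        have := hkc _ ⟨T.normalizerMonoidHom ⟨g, mem_normalizer_stronglyClosed hT hg⟩,
          mem_autInducedBy_iff.2 ⟨g, hg, mem_normalizer_stronglyClosed hT hg, fun _ => rfl⟩, rfl⟩
        simpa [mul_assoc] using this)
    obtain ⟨α, hα, hαv⟩ := exists_iso hψ (eq_S_of_isConj ⟨ψ, hψ, rfl⟩)
    exact ⟨α, hα.mem_autGroup, k, hk, dec_of_agree (mul_mem (hKA hk) hβ) hT.1 fun x =>
      (hαv _).trans (hψv x _)⟩
  -- saturation
  have hsat : F₀.IsSaturated p := by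
    refine CfsgLib.SatCriterion.isSaturated hS (Fam F E) (fun P hP Q hQ => ?_) ?_ ?_ ?_
    · obtain ⟨φ, hφ, hr⟩ := hQ
      exact Fam.conj hP ⟨φ, hsub P hφ, hr⟩
    swap
    · intro X hX P φ h
      exact h.2 X fun R hR => (hge R hR).trans (hX R hR)
    swap
    · intro P hP hnot
      have hPF := (hcen P).1 hP
      obtain ⟨Q, hPQ, hQ⟩ := exists_fullyNormalized (F := F) hPF.1
      obtain ⟨φ, hφ, hr⟩ := id hPQ
      obtain ⟨α, hα, φ₀, hφ₀, hv⟩ := hdec P φ hφ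
      have hφ₀F := hsub P hφ₀
      have hQ₀c : F.IsCentric φ₀.range := isCentric_of_isConj hPF ⟨φ₀, hφ₀F, rfl⟩
      have hQ₀ : F.IsFullyNormalized φ₀.range := by
        refine CfsgLib.PPrimeResidual.isFullyNormalized_aut hQ (α := α⁻¹)
          (isConj_trans (isConj_symm hPQ) ⟨φ₀, hφ₀F, rfl⟩) fun x hx => ?_
        obtain ⟨y, hy⟩ : (x : Ω) ∈ φ.range := hr ▸ hx
        refine ⟨y, ?_⟩
        rw [show x = α ⟨φ₀ y, apply_mem hφ₀F y⟩ from
          Subtype.ext (hy.symm.trans (hv y (apply_mem hφ₀F y))), MulAut.inv_apply_self]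
      refine ⟨φ₀.range, ⟨φ₀, hφ₀, rfl⟩, fun hIn => ?_⟩
      have hnot₀ : φ₀.range ∉ Fam F E := fun h =>
        hnot (Fam.conj h (isConj_symm ⟨φ₀, hφ₀F, rfl⟩))
      obtain ⟨g, hg, hgP, c, hc, hcv⟩ := hmoves _ hQ₀c hQ₀ hnot₀
      have hcS : (c : MulAut _) ∈ autInducedBy S φ₀.range :=
        mem_autInducedBy_iff.2 ⟨g, hg.1, hg.2, hcv⟩
      refine not_mem_Inn_of_not_mem hQ₀c hg hgP hcv (hIn ⟨hcS, ?_⟩)
      -- `O_p(Aut_F) ∩ Aut_F₀` is a normal `p`-subgroup of `Aut_F₀`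
      haveI := finite_of_le hQ₀.1
      have hleA : F₀.autGroup φ₀.range ≤ F.autGroup φ₀.range := fun β hβ =>
        (mem_autGroup_iff hQ₀.1).2 (hsub _ ((mem_autGroup_iff hQ₀.1).1 hβ))
      let N := (pCore p (F.autGroup φ₀.range)).comap (Subgroup.inclusion hleA)
      haveI : N.Normal := CfsgLib.SatCriterion.pCore_normal'.comap _
      have hNp : IsPGroup p N := (CfsgLib.PLocal.isPGroup_pCore p _).comap_of_injective _
        (Subgroup.inclusion_injective hleA)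
      exact ⟨⟨c, autInducedBy_le_autGroup hQ₀.1 hcS⟩,
        CfsgLib.PLocal.le_pCore (N := N) hNp hc, rfl⟩
    intro P hP
    obtain ⟨Q, hPQ, hQ⟩ := exists_fullyNormalized (F := F) hP.1.1
    obtain ⟨φ, hφ, hr⟩ := id hPQ
    obtain ⟨β, hβ⟩ := dec_exists (E := E) hfr hφ
    obtain ⟨α, hα, k, hk, hd⟩ := hlift β⁻¹ (inv_mem hβ.1)
    have hαi := (mem_autGroup_iff le_rfl).1 hα
    let φ₀ : P →* Ω :=
      (S.subtype.comp (α : MulAut S).toMonoidHom).comp (φ.codRestrict S (apply_mem hφ))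
    have hφ₀F : φ₀ ∈ F.Hom P := F.comp_mem hφ hαi _
    have hφ₀ : φ₀ ∈ F₀.Hom P := hge P hP ⟨hφ₀F, k * β⁻¹ * β, by
      rwa [inv_mul_cancel_right], hβ.comp hT hinv hφ hd (apply_mem hφ) fun _ => rfl⟩
    refine ⟨φ₀.range, ⟨φ₀, hφ₀, rfl⟩, ?_⟩
    have hQ₀m : φ₀.range ∈ Fam F E := Fam.conj hP ⟨φ₀, hφ₀F, rfl⟩
    have hQ₀ : F.IsFullyNormalized φ₀.range := by
      refine CfsgLib.PPrimeResidual.isFullyNormalized_aut hQ (α := α)
        (isConj_trans (isConj_symm hPQ) ⟨φ₀, hφ₀F, rfl⟩) fun x hx => ?_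
      obtain ⟨y, hy⟩ : (x : Ω) ∈ φ.range := hr ▸ hx
      exact ⟨y, congrArg (fun w : S => (α w : Ω)) (Subtype.ext hy)⟩
    haveI := finite_of_le hQ₀.1
    obtain ⟨hQa, hQr⟩ := automized_receptive hS hF hQ₀
    refine ⟨⟨hQ₀.1, ?_⟩, hQ₀.1, fun R θ hθ hθr => ?_⟩
    · exact IsSylowIn.mono (H := F.autGroup φ₀.range) hQa.2 (autInducedBy_le_autGroup hQ₀.1)
        fun γ hγ => (mem_autGroup_iff hQ₀.1).2 (hsub _ ((mem_autGroup_iff hQ₀.1).1 hγ))
    · obtain ⟨ψ, hψ, hψv⟩ := hQr.2 R θ (hsub R hθ) hθr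
      have hRm : R ∈ Fam F E := Fam.conj hQ₀m (isConj_symm ⟨θ, hsub R hθ, hθr⟩)
      have hRN : R ≤ extender S R θ := le_extender hRm.1.1 fun x => apply_mem hθ x
      obtain ⟨γ, hγ⟩ := dec_exists (E := E) hfr hψ
      obtain ⟨-, γ', hγ', hγ'd⟩ := hle R hθ
      have hγK : γ ∈ K := by
        have h1 := dec_unique hT hTp hEs hinv hEK hroot hRm
          (hγ.restrict hRN (ψ := θ) fun x => (hψv x x.2 (hRN x.2)).symm) hγ'd
        have := K.mul_mem hγ' h1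
        rwa [mul_inv_cancel_left] at this
      exact ⟨ψ, hge _ (Fam.mono hRm hRN (le_left hψ)) ⟨hψ, γ, hγK, hγ⟩, hψv⟩
  have hSm : S ∈ Fam F E := self_mem_Fam hT.1
  -- invariance
  have hinv₀ : AutInvariant F₀ F := by
    intro P hPS φ hφ α hα
    have hX : ∀ R ∈ Fam F E, D.Hom R ⊆ (transport F₀ α).Hom R := by
      rintro R hR θ ⟨hθ, β, hβK, hβd⟩
      have hRS := hR.1.1
      have hαF := (mem_autGroup_iff le_rfl).1 hα
      obtain ⟨e, he, hev⟩ : ∃ e : R ≃* img α R, IsIso F e ∧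
          ∀ x : R, (e x : Ω) = (α ⟨x, hRS x.2⟩ : Ω) :=
        exists_iso_restrict hαF hRS
      let θ' : img α R →* Ω :=
        ((S.subtype.comp α.toMonoidHom).comp (θ.codRestrict S (apply_mem hθ))).comp
          e.symm.toMonoidHom
      have hθe : θ.comp e.symm.toMonoidHom ∈ F.Hom (img α R) :=
        mem_of_comp he.symm hθ (fun y => (e.symm y).2) fun _ => rfl
      have hθ'F : θ' ∈ F.Hom (img α R) :=
        mem_of_comp hθe hαF (fun y => apply_mem hθ _) fun y => rfl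
      obtain ⟨b, hb⟩ := dec_exists (E := E) hfr hαF
      -- the decomposition of the transport is `b β b⁻¹`
      have hb' := hb.restrict hRS (ψ := (S.subtype.comp α.toMonoidHom).comp
        (Subgroup.inclusion hRS)) fun _ => rfl
      have hbr : Dec F E ((img α R).subtype.comp e.toMonoidHom) b := hb'.congr hev
      have hψv : ∀ x : R, (R.subtype.comp ((MulEquiv.subgroupCongr (range_subtype_comp e)).trans
          e.symm).toMonoidHom) ⟨((img α R).subtype.comp e.toMonoidHom) x, x, rfl⟩ = x := fun x =>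
        congrArg Subtype.val (e.symm_apply_apply x)
      have hbi : Dec F E (R.subtype.comp e.symm.toMonoidHom) b⁻¹ := by
        refine (hbr.inv hT hinv he hψv).restrict (range_subtype_comp e).ge fun y => rfl
      have h2 := hbi.comp hT hinv he.symm hβd (fun y => (e.symm y).2)
        (χ := θ.comp e.symm.toMonoidHom) fun _ => rfl
      have h3 := h2.comp hT hinv hθe hb (fun y => apply_mem hθ _) (χ := θ') fun _ => rfl
      have hmem : θ' ∈ F₀.Hom (img α R) := hge _ (Fam.conj hR he.isConj) ⟨hθ'F, _, by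
        rw [← mul_assoc]
        exact hKn b hb.1 β hβK, h3⟩
      refine ⟨hRS, fun x => apply_mem hθ x, θ', hmem, fun x h => ?_⟩
      rw [show (⟨(α ⟨x, hRS x.2⟩ : Ω), h⟩ : img α R) = e x from Subtype.ext (hev x).symm]
      show (α ⟨θ (e.symm (e x)), _⟩ : Ω) = _
      exact congrArg (fun w : S => (α w : Ω))
        (Subtype.ext (congrArg θ (e.symm_apply_apply x)))
    obtain ⟨_, hv, θ, hθ, hθv⟩ := hφ.2 (transport F₀ α) hX
    exact ⟨θ, hθ, fun x hφx hαx => hθv x hαx⟩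
  refine ⟨F₀, ⟨⟨hsat, hF, hsub, CfsgLib.PrimeToPIndex.stronglyClosed_self, hinv₀,
    fun P _ φ hφ => hdec P φ hφ⟩, ?_⟩, ?_, ?_, ?_, fun R hR => hR.2.2 F₀ hsat hidx⟩
  · -- the extension condition
    intro α hα
    have hSS : S ⊔ centralizerIn S S = S := sup_eq_left.2 (centralizerIn_le S S)
    let e := MulEquiv.subgroupCongr hSS
    have hαF : IsIso F α := hsub S ((mem_autGroup_iff le_rfl).1 hα)
    have he : IsIso F e := mem_congr (subtype_mem hSS.le) fun _ => rfl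
    refine ⟨(e.trans α).trans e.symm, ((he.trans hαF).trans he.symm).mem_autGroup, fun x => rfl,
      fun c hc => ?_⟩
    show (c : Ω)⁻¹ * (α (e c) : Ω) ∈ _
    refine ⟨S.mul_mem (S.inv_mem hc.1) (Subtype.mem _),
      (Subgroup.centralizer (S : Set Ω)).mul_mem
        ((Subgroup.centralizer (S : Set Ω)).inv_mem hc.2) ?_⟩
    apply Subgroup.mem_centralizer_iff.2
    intro y hy
    obtain ⟨z, hz⟩ := α.surjective ⟨y, hy⟩
    have h1 : z * e c = e c * z := Subtype.ext (Subgroup.mem_centralizer_iff.1 hc.2 z z.2)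
    have h2 := congrArg (fun w => ((α w : S) : Ω)) h1
    simp only [map_mul, Subgroup.coe_mul, hz] at h2
    exact h2
  · -- proper
    intro hall
    obtain ⟨d, hd⟩ := exists_ne (1 : Δ)
    obtain ⟨b, rfl⟩ := hχ d
    obtain ⟨α, hα, k, hk, hdk⟩ := hlift b b.2
    obtain ⟨-, γ, hγ, hγd⟩ := hle S ((hall S).ge ((mem_autGroup_iff le_rfl).1 hα))
    have h1 := dec_unique hT hTp hEs hinv hEK hroot hSm hdk hγd
    have h2 := K.mul_mem hγ h1
    rw [mul_inv_cancel_left] at h2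
    have h3 := K.mul_mem (K.inv_mem hk) h2
    rw [inv_mul_cancel_left] at h3
    exact hd ((memK _ b.2).1 h3)
  · -- `E` is contained
    refine isSubsystemOf_of_aut hTp hEs fun P hP habove α hα => ?_
    have hPT := hP.1
    haveI := finite_of_le hPT
    by_cases hPeq : P = T
    · subst hPeq
      obtain ⟨β, hβ, hβv, -⟩ := hext α hα
      have hβF := (mem_autGroup_iff (sup_le hT.1 (centralizerIn_le S P))).1 hβ
      have hmem := hge _ (top_mem_Fam (E := E) hT) ⟨hβF, α, hEK hα,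
        dec_of_agree (hKA (hEK hα)) le_sup_left fun x => hβv x⟩
      exact mem_of_agree hmem le_sup_left fun x => (hβv x).symm
    have hiso : IsIso E α := (mem_autGroup_iff hPT).1 hα
    obtain ⟨hPa, hPr⟩ := automized_receptive hTp hEs hP
    by_cases hC : centralizerIn T P ≤ P
    · obtain ⟨g, hg, hgP⟩ := SetLike.exists_of_lt (lt_normalizerIn hTp (lt_of_le_of_ne hPT hPeq))
      let c : E.autGroup P := ⟨P.normalizerMonoidHom ⟨g, hg.2⟩,
        autInducedBy_le_autGroup hPT (mem_autInducedBy_iff.2 ⟨g, hg.1, hg.2, fun _ => rfl⟩)⟩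
      refine aut_mem_of_normal hTp hPa hPr habove (pGen p E P)
        (CfsgLib.PrimeToPIndex.pGen_normal P) ?_ hg hgP (c := c) ?_ (fun _ => rfl) α hα
      · intro k hk
        have hPS : P ≤ S := hPT.trans hT.1
        have hleA : E.autGroup P ≤ F.autGroup P := fun β hβ =>
          (mem_autGroup_iff hPS).2 (hEF P ((mem_autGroup_iff hPT).1 hβ))
        have hk' : Subgroup.inclusion hleA k ∈ pGen p F P := by
          induction hk using Subgroup.closure_induction with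
          | mem x hx =>
            obtain ⟨i, hi⟩ := hx
            exact Subgroup.subset_closure
              ⟨i, by rw [orderOf_injective _ (Subgroup.inclusion_injective hleA), hi]⟩
          | one => rw [map_one]; exact one_mem _
          | mul a b _ _ ha hb => rw [map_mul]; exact mul_mem ha hb
          | inv a _ ha => rw [map_inv]; exact Subgroup.inv_mem _ ha
        exact (mem_autGroup_iff hPS).1 (hidx.2 P hPS ⟨_, hk', rfl⟩)
      · refine Subgroup.subset_closure ?_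
        obtain ⟨j, hj⟩ := ((isPGroup_autInducedBy hTp P).exists_orderOf_dvd_pow
          ⟨c, mem_autInducedBy_iff.2 ⟨g, hg.1, hg.2, fun _ => rfl⟩⟩)
        obtain ⟨i, -, hi⟩ := (Nat.dvd_prime_pow (Fact.out : p.Prime)).1 hj
        refine ⟨i, ?_⟩
        rw [← hi, ← Subgroup.orderOf_coe, ← Subgroup.orderOf_coe]
    · obtain ⟨ψ, hψ, hψv⟩ := exists_extension (T := P ⊔ centralizerIn T P) hPr hiso
        (sup_le (le_extender hPT (E.le_of_mem hiso).2) (centralizerIn_le_extender _))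
      haveI := finite_of_le (le_left hψ)
      have hlt : Nat.card P < Nat.card ↥(P ⊔ centralizerIn T P) := by
        by_contra hc
        exact hC ((le_sup_right).trans
          (Subgroup.eq_of_le_of_card_ge le_sup_left (not_lt.1 hc)).ge)
      exact mem_of_agree (habove _ hlt ψ hψ) le_sup_left fun x => (hψv x _).symm
  · -- the automorphisms of `S`
    intro hTS α
    constructor
    · intro hα
      obtain ⟨hαF, γ, hγ, -, φ₀, hφ₀, hv⟩ := hle S ((mem_autGroup_iff le_rfl).1 hα)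
      refine ⟨(mem_autGroup_iff le_rfl).2 hαF, ?_⟩
      have hle' : T ≤ S ⊓ T := le_inf hTS le_rfl
      have hr : (restrictHom φ₀ hle').range = T := by
        refine Subgroup.eq_of_le_of_card_ge ?_ ?_
        · rintro _ ⟨x, rfl⟩
          exact apply_mem hφ₀ _
        · rw [← Nat.card_congr (MonoidHom.ofInjective
            (E.injective_of_mem (restrict_mem hφ₀ hle'))).toEquiv]
      obtain ⟨a, ha, hav⟩ := exists_iso (restrict_mem hφ₀ hle') hr
      have hb : γ * a ∈ K := K.mul_mem hγ (hEK ha.mem_autGroup)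
      refine ⟨⟨γ * a, hKA hb⟩, (memK _ _).1 hb, fun t => ?_⟩
      refine Eq.symm (Eq.trans (hv ⟨t, hle' t.2⟩ (apply_mem hφ₀ _)) ?_)
      show (γ _ : Ω) = (γ (a t) : Ω)
      exact congrArg (fun w : T => (γ w : Ω)) (Subtype.ext (hav t).symm)
    · rintro ⟨hα, β, hβ, hβv⟩
      exact IsIso.mem_autGroup (hge S hSm ⟨(mem_autGroup_iff le_rfl).1 hα, β,
        (memK _ β.2).2 hβ, dec_of_agree β.2 hTS fun x => (hβv x).symm⟩)

end main

end CfsgLib.KernelSubsystem
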