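import Cfsg.Agent.Fusion.NormalSubgroup

/-!
# Basic properties of models
-/

set_option autoImplicit false

namespace CfsgLib.Fusion

open Cfsg Cfsg.FusionSystem

variable {Ω : Type*} [Group Ω] {S : Subgroup Ω} {F : FusionSystem S} {R : Subgroup Ω}
variable {G : Type*} [Group G] {ι : S →* G} {p : ℕ}

/-- The preimage of `O_p(G)` in a model is a normal centric subgroup. -/
theorem exists_pCore_preimage (hG : F.IsModel p G ι) :
    ∃ Q ≤ S, im ι Q = pCore p G ∧ F.IsNormal Q := by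
  obtain ⟨-, hF, ⟨T, hT⟩, -⟩ := hG
  have hle : pCore p G ≤ ι.range := hT ▸ CfsgLib.PLocal.pCore_le_sylow T
  haveI hn : (pCore p G).Normal := Subgroup.sSup_normal _ fun N hN => hN.1
  obtain ⟨Q, hQS, hQ⟩ := exists_im_eq hle
  exact ⟨Q, hQS, hQ, isNormal_of_realized hF hQS (hQ.symm ▸ hn)⟩

/-- A normal subgroup of a system is normal in every model. -/
theorem im_normal_of_isNormal (hG : F.IsModel p G ι) (hR : F.IsNormal R) :
    (im ι R).Normal := by
  obtain ⟨hfin, hF, ⟨T, hT⟩, hC⟩ := id hG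
  obtain ⟨Q, hQS, hQim, -⟩ := exists_pCore_preimage hG
  have hRS := hR.1
  haveI hn : (pCore p G).Normal := Subgroup.sSup_normal _ fun N hN => hN.1
  have hrangeN : ι.range ≤ Subgroup.normalizer (im ι R : Set G) := by
    have h1 := im_normalizerIn (ι := ι) hF.1 hRS
    rw [show normalizerIn S R = S from inf_eq_left.2 (normal_le_normalizer hR), im_self] at h1
    exact inf_eq_left.1 h1.symm
  rw [← Subgroup.normalizer_eq_top_iff, eq_top_iff]
  intro g _
  have hgQ : (im ι Q).map (MulAut.conj g).toMonoidHom = im ι Q := by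
    rw [hQim]
    exact Subgroup.mem_normalizer_iff_map_conj_eq.1 (by rw [Subgroup.normalizer_eq_top]; trivial)
  obtain ⟨e, he, hev⟩ := exists_iso_of_conj hF hQS hQS hgQ
  obtain ⟨ψ, hψ, h1, h2⟩ := exists_normal_extension hR he
  obtain ⟨g', hg'⟩ := (hF.2 _ (sup_le hQS hRS) ψ fun x => apply_mem hψ x).1 hψ
  have hN : g' ∈ Subgroup.normalizer (im ι R : Set G) := by
    refine Subgroup.mem_normalizer_fintype fun v hv => ?_
    obtain ⟨x, hx, rfl⟩ := hv
    have this : ι ⟨ψ ⟨x, Subgroup.mem_sup_right hx⟩, apply_mem hψ _⟩ = g' * ι x * g'⁻¹ :=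
      hg' ⟨x, Subgroup.mem_sup_right hx⟩
    rw [SetLike.mem_coe, ← this, apply_mem_im_iff hF.1]
    exact h2.le (apply_mem_imgHom ψ hx)
  have hc : g⁻¹ * g' ∈ ι.range := by
    refine (hT ▸ CfsgLib.PLocal.pCore_le_sylow T : pCore p G ≤ ι.range) (hC ?_)
    rw [Subgroup.mem_centralizer_iff]
    intro v hv
    rw [SetLike.mem_coe, ← hQim] at hv
    obtain ⟨x, hx, rfl⟩ := hv
    have e1 := hev ⟨x, hx⟩
    have e2 := hg' ⟨x, Subgroup.mem_sup_left hx⟩
    have e3 : ψ ⟨x, Subgroup.mem_sup_left hx⟩ = (e ⟨x, hx⟩ : Ω) := h1 ⟨x, hx⟩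
    rw [show (⟨_, apply_mem hψ ⟨x, Subgroup.mem_sup_left hx⟩⟩ : S) = ⟨e ⟨x, hx⟩, hQS (e _).2⟩ from
      Subtype.ext e3, e1] at e2
    have e4 := congrArg (fun z => g⁻¹ * z * g') e2
    simpa [mul_assoc] using e4
  have h := Subgroup.mul_mem _ hN (Subgroup.inv_mem _ (hrangeN hc))
  simpa [mul_assoc] using h

end CfsgLib.Fusion
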