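import Cfsg.Agent.Fusion.NormalSubgroup
import Cfsg.Agent.Fusion.Centric
import Mathlib.GroupTheory.DoubleCoset
import Mathlib.Algebra.Group.Action.Sigma
import Mathlib.GroupTheory.GroupAction.Quotient

/-!
# The biset behind the existence of models

For a normal centric `Q` in a saturated system with `L = Aut_F(Q)` we build a finite set with
commuting left and right actions of `S` and a map to `L`, which is a bi-equivariant `Z(Q)`-bundle
whose stabilizers are graphs of maps of the system.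
-/

set_option autoImplicit false

namespace CfsgLib.Fusion

open Cfsg Cfsg.FusionSystem

universe u

variable {Ω : Type u} [Group Ω] {S : Subgroup Ω} {F : FusionSystem S} {Q : Subgroup Ω} {p : ℕ}

/-- The action of `S` on a normal subgroup, as a map into `Aut_F(Q)`. -/
def autHom (hQ : F.IsNormal Q) : S →* F.autGroup Q where
  toFun s := ⟨Q.normalizerMonoidHom ⟨s, normal_le_normalizer hQ s.2⟩,
    autInducedBy_le_autGroup hQ.1
      (mem_autInducedBy_iff.2 ⟨s, s.2, normal_le_normalizer hQ s.2, fun _ => rfl⟩)⟩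
  map_one' := Subtype.ext (MulEquiv.ext fun q => Subtype.ext (by simp))
  map_mul' a b := Subtype.ext (MulEquiv.ext fun q => Subtype.ext (by simp [mul_assoc]))

theorem autHom_apply (hQ : F.IsNormal Q) (s : S) (q : Q) :
    (((autHom hQ s : F.autGroup Q) : MulAut Q) q : Ω) = s * q * (s : Ω)⁻¹ := rfl

theorem mem_ker_autHom (hQ : F.IsNormal Q) {s : S} :
    s ∈ (autHom hQ).ker ↔ (s : Ω) ∈ centralizerIn S Q := by
  rw [mem_centralizerIn', MonoidHom.mem_ker]
  constructor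
  · intro h
    refine ⟨s.2, fun x hx => ?_⟩
    have h1 := autHom_apply hQ s ⟨x, hx⟩
    rw [h] at h1
    exact h1.symm
  · rintro ⟨-, h⟩
    exact Subtype.ext (MulEquiv.ext fun q => Subtype.ext (h q q.2))

/-- The elements of `S` whose action, conjugated by `r`, is again induced by `S`. -/
def domSub (hQ : F.IsNormal Q) (r : F.autGroup Q) : Subgroup S :=
  ((autHom hQ).range.map (MulAut.conj r).toMonoidHom).comap (autHom hQ)

theorem mem_domSub (hQ : F.IsNormal Q) {r : F.autGroup Q} {s : S} :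
    s ∈ domSub hQ r ↔ r⁻¹ * autHom hQ s * r ∈ (autHom hQ).range := by
  rw [domSub, Subgroup.mem_comap, Subgroup.mem_map_equiv]
  simp

theorem mem_domSub_of_mem (hQ : F.IsNormal Q) (r : F.autGroup Q) {q : Q} :
    (⟨q, hQ.1 q.2⟩ : S) ∈ domSub hQ r := by
  rw [mem_domSub]
  refine ⟨⟨((r⁻¹ : F.autGroup Q) : MulAut Q) q, hQ.1 (Subtype.mem _)⟩, Subtype.ext ?_⟩
  refine MulEquiv.ext fun y => ?_
  obtain ⟨z, rfl⟩ := ((r⁻¹ : F.autGroup Q) : MulAut Q).surjective y
  refine Subtype.ext ?_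
  rw [autHom_apply]
  simp only [Subgroup.coe_mul, MulAut.mul_apply, InvMemClass.coe_inv]
  rw [MulAut.apply_inv_self, show (autHom hQ ⟨q, hQ.1 q.2⟩ : F.autGroup Q).1 z = q * z * q⁻¹ from
    Subtype.ext (autHom_apply hQ _ z), map_mul, map_mul, map_inv]
  rfl

/-- The extension `θ_r` of `r⁻¹` to the elements where it is defined. -/
theorem exists_theta [Finite S] [Fact p.Prime] (hS : IsPGroup p S) (hF : F.IsSaturated p)
    (hQ : F.IsNormal Q) (hQc : F.IsCentric Q) (r : F.autGroup Q) :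
    ∃ θ : (domSub hQ r) →* S,
      ((S.subtype.comp θ).comp
        ((domSub hQ r).equivMapOfInjective S.subtype S.subtype_injective).symm.toMonoidHom
          ∈ F.Hom ((domSub hQ r).map S.subtype)) ∧
      (∀ h : domSub hQ r, autHom hQ (θ h) = r⁻¹ * autHom hQ h * r) ∧
      ∀ q : Q, (θ ⟨⟨q, hQ.1 q.2⟩, mem_domSub_of_mem hQ r⟩ : Ω) = ((r⁻¹ : F.autGroup Q) : MulAut Q) q := by
  have hQr : F.IsReceptive Q := by
    refine receptive_of_fullyCentralized hS hF ⟨hQ.1, fun R ⟨φ, hφ, hr⟩ => ?_⟩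
    have h1 : R = Q := by
      subst hr
      haveI := finite_of_le hQ.1
      refine Subgroup.eq_of_le_of_card_ge ?_ (card_eq_of_isConj ⟨φ, hφ, rfl⟩).le
      rintro _ ⟨x, rfl⟩
      exact (stronglyClosed_of_normal hQ).2 Q le_rfl φ hφ x
    rw [h1]
  have hr : IsIso F (((r⁻¹ : F.autGroup Q) : MulAut Q) : Q ≃* Q) :=
    (mem_autGroup_iff hQ.1).1 (r⁻¹).2
  have hle : (domSub hQ r).map S.subtype ≤
      extender S Q (Q.subtype.comp (((r⁻¹ : F.autGroup Q) : MulAut Q) : Q ≃* Q).toMonoidHom) := by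
    rintro _ ⟨s, hs, rfl⟩
    obtain ⟨w, hw⟩ := (mem_domSub hQ).1 hs
    refine mem_extender_of_congr (α := (autHom hQ s : MulAut Q))
      ⟨s.2, normal_le_normalizer hQ s.2⟩ (autHom_apply hQ s) ?_
    rw [congr_self_eq]
    refine mem_autInducedBy_iff.2 ⟨w, w.2, normal_le_normalizer hQ w.2, fun q => ?_⟩
    rw [← autHom_apply hQ w q, hw]
    simp
  obtain ⟨ψ, hψ, hψx⟩ := exists_extension hQr hr hle
  let θ : (domSub hQ r) →* S :=
    (ψ.comp ((domSub hQ r).equivMapOfInjective S.subtype S.subtype_injective).toMonoidHom).codRestrict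
      S fun x => apply_mem hψ _
  have hq : ∀ q : Q, (θ ⟨⟨q, hQ.1 q.2⟩, mem_domSub_of_mem hQ r⟩ : Ω) =
      ((r⁻¹ : F.autGroup Q) : MulAut Q) q :=
    fun q => hψx q ⟨⟨q, hQ.1 q.2⟩, mem_domSub_of_mem hQ r, rfl⟩
  refine ⟨θ, mem_congr hψ fun x => ?_, fun h => Subtype.ext (MulEquiv.ext fun y => ?_), hq⟩
  · show ψ _ = ψ x
    rw [MulEquiv.coe_toMonoidHom, MulEquiv.coe_toMonoidHom, MulEquiv.apply_symm_apply]
  · obtain ⟨z, rfl⟩ := ((r⁻¹ : F.autGroup Q) : MulAut Q).surjective y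
    refine Subtype.ext ?_
    rw [autHom_apply]
    simp only [Subgroup.coe_mul, MulAut.mul_apply, InvMemClass.coe_inv]
    rw [MulAut.apply_inv_self]
    have h1 := hq ((autHom hQ h : MulAut Q) z)
    have h2 := hq z
    simp only [InvMemClass.coe_inv] at h1 h2
    rw [← h1, ← h2, ← Subgroup.coe_inv, ← Subgroup.coe_mul, ← Subgroup.coe_mul, ← map_inv,
      ← map_mul, ← map_mul]
    exact congrArg (fun w => (θ w : Ω)) (Subtype.ext (Subtype.ext (autHom_apply hQ h z).symm))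

/-- The biset used to build a model. -/
theorem exists_biset [Finite S] [Fact p.Prime] (hS : IsPGroup p S) (hF : F.IsSaturated p)
    (hQ : F.IsNormal Q) (hQc : F.IsCentric Q) :
    ∃ (Y : Type u) (_ : Finite Y) (_ : MulAction (S × S) Y) (π : Y → F.autGroup Q),
      (∀ (s w : S) (y : Y), π ((s, w) • y) = autHom hQ s * π y * (autHom hQ w)⁻¹) ∧
      Function.Surjective π ∧
      (∀ y y' : Y, π y = π y' → ∃ a ∈ (autHom hQ).ker, y' = ((1 : S), a) • y) ∧
      (∀ (w : S) (y : Y), ((1 : S), w) • y = y → w = 1) ∧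
      (∀ y : Y, ∃ φ : ((domSub hQ (π y)).map S.subtype : Subgroup Ω) →* Ω,
        φ ∈ F.Hom ((domSub hQ (π y)).map S.subtype) ∧
          ∀ (x : S) (hx : (x : Ω) ∈ (domSub hQ (π y)).map S.subtype) (hφ : φ ⟨x, hx⟩ ∈ S),
            (x, (⟨φ ⟨x, hx⟩, hφ⟩ : S)) • y = y) ∧
      ∀ (y : Y) (q : Q),
        ((⟨q, hQ.1 q.2⟩ : S),
          (⟨(((π y)⁻¹ : F.autGroup Q) : MulAut Q) q, hQ.1 (Subtype.mem _)⟩ : S)) • y = y := by
  have := finite_of_le hQ.1
  choose θ hθF hθt hθq using exists_theta hS hF hQ hQc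
  let T := (autHom hQ).range
  let I := DoubleCoset.Quotient (T : Set (F.autGroup Q)) T
  let Δ : I → Subgroup (S × S) := fun i =>
    ((domSub hQ i.out).subtype.prod (θ i.out)).range
  let Y : Type u := Σ i : I, (S × S) ⧸ Δ i
  have hwd : ∀ (i : I) (a b : S × S), QuotientGroup.leftRel (Δ i) a b →
      autHom hQ a.1 * i.out * (autHom hQ a.2)⁻¹ = autHom hQ b.1 * i.out * (autHom hQ b.2)⁻¹ := by
    intro i a b hab
    obtain ⟨h, hh⟩ := QuotientGroup.leftRel_apply.1 hab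
    have e : b = a * ((h : S), θ i.out h) :=
      (eq_inv_mul_iff_mul_eq.mp (hh : ((h : S), θ i.out h) = a⁻¹ * b)).symm
    rw [e]
    simp only [Prod.fst_mul, Prod.snd_mul, map_mul, hθt, mul_inv_rev]
    simp [mul_assoc]
  haveI : Finite I := Quotient.finite _
  let π : Y → F.autGroup Q := fun y => Quotient.liftOn' y.2
    (fun a => autHom hQ a.1 * y.1.out * (autHom hQ a.2)⁻¹) (hwd y.1)
  have hπ : ∀ (i : I) (a : S × S), π ⟨i, (a : (S × S) ⧸ Δ i)⟩ =
      autHom hQ a.1 * i.out * (autHom hQ a.2)⁻¹ := fun i a => rfl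
  have hfix : ∀ (i : I) (a d : S × S),
      (d • (⟨i, (a : (S × S) ⧸ Δ i)⟩ : Y) = ⟨i, (a : (S × S) ⧸ Δ i)⟩) ↔
        a⁻¹ * d * a ∈ Δ i := by
    intro i a d
    rw [Sigma.smul_mk]
    constructor
    · intro h
      have h1 := eq_of_heq (Sigma.mk.inj_iff.1 h).2
      rw [MulAction.Quotient.smul_coe, QuotientGroup.eq] at h1
      have h2 := (Δ i).inv_mem h1
      simpa [mul_assoc] using h2
    · intro h
      rw [MulAction.Quotient.smul_coe]
      congr 1
      rw [QuotientGroup.eq]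
      have h2 := (Δ i).inv_mem h
      simpa [mul_assoc] using h2
  refine ⟨Y, inferInstance, inferInstance, π, ?_, ?_, ?_, ?_, ?_, ?_⟩
  · intro s w ⟨i, z⟩
    induction z using QuotientGroup.induction_on with
    | _ a =>
      rw [Sigma.smul_mk, MulAction.Quotient.smul_coe, hπ, hπ]
      simp [mul_assoc]
  · intro l
    obtain ⟨x, z, ⟨u, hu⟩, ⟨v, hv⟩, he⟩ := DoubleCoset.mk_out_eq_mul T T l
    refine ⟨⟨DoubleCoset.mk T T l, (((u⁻¹, v) : S × S) : (S × S) ⧸ _)⟩, ?_⟩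
    rw [hπ, he, ← hu, ← hv]
    simp [mul_assoc]
  · rintro ⟨i, z⟩ ⟨j, z'⟩ h
    induction z using QuotientGroup.induction_on with
    | _ a =>
    induction z' using QuotientGroup.induction_on with
    | _ b =>
    rw [hπ, hπ] at h
    have hij : i = j := by
      rw [← DoubleCoset.out_eq' T T i, ← DoubleCoset.out_eq' T T j]
      refine (DoubleCoset.eq _ _ _ _).2 ⟨(autHom hQ b.1)⁻¹ * autHom hQ a.1,
        T.mul_mem (T.inv_mem ⟨_, rfl⟩) ⟨_, rfl⟩, (autHom hQ a.2)⁻¹ * autHom hQ b.2,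
        T.mul_mem (T.inv_mem ⟨_, rfl⟩) ⟨_, rfl⟩, ?_⟩
      have h1 := congrArg (fun w => (autHom hQ b.1)⁻¹ * w * autHom hQ b.2) h
      simpa [mul_assoc] using h1.symm
    subst hij
    have h1 : (i.out)⁻¹ * autHom hQ (a.1⁻¹ * b.1) * i.out = autHom hQ (a.2⁻¹ * b.2) := by
      have h2 := congrArg (fun w => (i.out)⁻¹ * ((autHom hQ a.1)⁻¹ * w * autHom hQ b.2)) h
      simpa [mul_assoc] using h2.symm
    let hh : domSub hQ i.out :=
      ⟨a.1⁻¹ * b.1, (mem_domSub hQ).2 ⟨_, h1.symm⟩⟩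
    refine ⟨b.2 * (a.2 * θ i.out hh)⁻¹, ?_, ?_⟩
    · rw [MonoidHom.mem_ker, map_mul, map_inv, map_mul, hθt, h1]
      simp
    · rw [Sigma.smul_mk, MulAction.Quotient.smul_coe]
      congr 1
      rw [QuotientGroup.eq]
      refine ⟨hh⁻¹, ?_⟩
      refine Prod.ext ?_ ?_
      · show ((hh⁻¹ : domSub hQ i.out) : S) = b.1⁻¹ * (1 * a.1)
        simp [hh]
      · show θ i.out hh⁻¹ = b.2⁻¹ * (b.2 * (a.2 * θ i.out hh)⁻¹ * a.2)
        simp [mul_assoc]
  · rintro w ⟨i, z⟩ h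
    induction z using QuotientGroup.induction_on with
    | _ a =>
    obtain ⟨k, hk⟩ := (hfix i a _).1 h
    have h1 : (k : S) = a.1⁻¹ * 1 * a.1 := congrArg Prod.fst hk
    have h2 : θ i.out k = a.2⁻¹ * w * a.2 := congrArg Prod.snd hk
    rw [show k = 1 from Subtype.ext (h1.trans (by simp)), map_one] at h2
    have h3 := congrArg (fun z => a.2 * z * a.2⁻¹) h2
    simpa [mul_assoc] using h3.symm
  · rintro ⟨i, z⟩
    induction z using QuotientGroup.induction_on with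
    | _ a =>
    generalize hD : (domSub hQ (π ⟨i, (a : (S × S) ⧸ Δ i)⟩)).map S.subtype = D
    have hDS : D ≤ S := hD ▸ Subgroup.map_subtype_le _
    have hmem : ∀ x : D, (a.1 : Ω)⁻¹ * x * a.1 ∈ (domSub hQ i.out).map S.subtype := by
      intro x
      obtain ⟨s, hs, hsx⟩ := hD.ge x.2
      refine ⟨a.1⁻¹ * s * a.1, ?_, by rw [← hsx]; rfl⟩
      obtain ⟨w, hw⟩ := (mem_domSub hQ).1 hs
      refine (mem_domSub hQ).2 ⟨a.2⁻¹ * w * a.2, ?_⟩
      rw [map_mul, map_mul, map_inv, hw, hπ]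
      simp [mul_assoc]
    let E := ((domSub hQ i.out).equivMapOfInjective S.subtype S.subtype_injective).symm
    let c : D →* ((domSub hQ i.out).map S.subtype : Subgroup Ω) :=
      (conjHom D (a.1 : Ω)⁻¹).codRestrict _ fun x => by
        show (a.1 : Ω)⁻¹ * x * (a.1 : Ω)⁻¹⁻¹ ∈ _
        rw [inv_inv]
        exact hmem x
    let φ0 : D →* S := (θ i.out).comp (E.toMonoidHom.comp c)
    have h1 : S.subtype.comp φ0 ∈ F.Hom D :=
      F.comp_mem (F.conj_mem hDS (S.inv_mem a.1.2)) (hθF i.out) _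
    refine ⟨(MulAut.conj (a.2 : Ω)).toMonoidHom.comp (S.subtype.comp φ0),
      mem_of_comp h1 (F.conj_mem (le_refl S) a.2.2) (fun x => (φ0 x).2) fun x => rfl,
      fun x hx hφx => ?_⟩
    refine (hfix i a _).2 ⟨E (c ⟨x, hx⟩), ?_⟩
    refine Prod.ext ?_ ?_
    · show ((E (c ⟨x, hx⟩) : domSub hQ i.out) : S) = a.1⁻¹ * x * a.1
      refine Subtype.ext ?_
      have h2 := congrArg Subtype.val
        (((domSub hQ i.out).equivMapOfInjective S.subtype S.subtype_injective).apply_symm_apply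
          (c ⟨x, hx⟩))
      refine (h2.trans ?_ :)
      show (a.1 : Ω)⁻¹ * x * (a.1 : Ω)⁻¹⁻¹ = _
      simp
    · show θ i.out (E (c ⟨x, hx⟩)) = a.2⁻¹ * _ * a.2
      refine Subtype.ext ?_
      show (φ0 ⟨x, hx⟩ : Ω) = (a.2 : Ω)⁻¹ * ((a.2 : Ω) * (φ0 ⟨x, hx⟩ : Ω) * (a.2 : Ω)⁻¹) * a.2
      simp [mul_assoc]
  · rintro ⟨i, z⟩ q
    induction z using QuotientGroup.induction_on with
    | _ a =>
    let q1 : Q := ⟨(a.1 : Ω)⁻¹ * q * a.1,
      (Subgroup.mem_normalizer_iff''.1 (normal_le_normalizer hQ a.1.2) q).1 q.2⟩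
    refine (hfix i a _).2 ⟨⟨⟨q1, hQ.1 q1.2⟩, mem_domSub_of_mem hQ i.out⟩, ?_⟩
    refine Prod.ext rfl (Subtype.ext ?_)
    show (θ i.out ⟨⟨q1, hQ.1 q1.2⟩, _⟩ : Ω) =
      (a.2 : Ω)⁻¹ * ((((π ⟨i, (a : (S × S) ⧸ Δ i)⟩)⁻¹ : F.autGroup Q) : MulAut Q) q : Ω) * a.2
    rw [hθq, hπ, show (autHom hQ a.1 * i.out * (autHom hQ a.2)⁻¹)⁻¹ =
      autHom hQ a.2 * ((i.out)⁻¹ * autHom hQ a.1⁻¹) by simp [map_inv, mul_assoc]]
    simp only [Subgroup.coe_mul, MulAut.mul_apply]
    rw [autHom_apply, show (autHom hQ a.1⁻¹ : F.autGroup Q).1 q = q1 from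
      Subtype.ext ((autHom_apply hQ a.1⁻¹ q).trans (by simp [q1]))]
    simp [mul_assoc]

end CfsgLib.Fusion
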