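import Cfsg.Agent.Fusion.ModelBasic
import Cfsg.Agent.Fusion.Centric
import Mathlib.GroupTheory.DoubleCoset

/-!
# Uniqueness and rigidity of models

The comparison map between two models is an averaged transfer: a bi-equivariant map between the
two groups is corrected by an element of `Z(Q)` obtained by averaging over cosets.
-/

set_option autoImplicit false

namespace CfsgLib.Fusion

open Cfsg Cfsg.FusionSystem

variable {Ω : Type*} [Group Ω] {S : Subgroup Ω} {F : FusionSystem S} {Q : Subgroup Ω}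
variable {G : Type*} [Group G] {ι : S →* G} {p : ℕ}

theorem centralizerIn_mul_comm (hQ : F.IsCentric Q) {a b : Ω} (ha : a ∈ centralizerIn S Q)
    (hb : b ∈ centralizerIn S Q) : a * b = b * a :=
  (mem_centralizerIn.1 hb).2 a (centralizerIn_le_of_centric hQ ha)

theorem im_centralizerIn_mul_comm (hQ : F.IsCentric Q) {a b : G}
    (ha : a ∈ im ι (centralizerIn S Q)) (hb : b ∈ im ι (centralizerIn S Q)) : a * b = b * a := by
  obtain ⟨x, hx, rfl⟩ := ha
  obtain ⟨y, hy, rfl⟩ := hb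
  rw [← map_mul, ← map_mul]
  exact congrArg ι (Subtype.ext (centralizerIn_mul_comm hQ hx hy))

/-- In a model, the centralizer of a normal centric subgroup is its centre. -/
theorem centralizer_im_eq [Fact p.Prime] (hG : F.IsModel p G ι) (hQn : F.IsNormal Q)
    (hQc : F.IsCentric Q) :
    Subgroup.centralizer (im ι Q : Set G) = im ι (centralizerIn S Q) := by
  obtain ⟨hfin, hF, ⟨T, hT⟩, hC⟩ := id hG
  have : Finite S := Finite.of_injective ι hF.1
  have hS : IsPGroup p S :=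
    IsPGroup.of_equiv (isPGroup_range_of_sylow T hT) (MonoidHom.ofInjective hF.1).symm
  have hQS := hQc.1
  obtain ⟨R, hRS, hRim, hRn⟩ := exists_pCore_preimage hG
  have hsat := isSaturated_of_realized hF T hT
  refine le_antisymm (fun c hc => ?_) ?_
  · haveI h1 : (im ι R).Normal := im_normal_of_isNormal hG hRn
    haveI h2 : (im ι Q).Normal := im_normal_of_isNormal hG hQn
    have hmap : (im ι (Q ⊔ R)).map (MulAut.conj c).toMonoidHom = im ι (Q ⊔ R) := by
      rw [im, Subgroup.subgroupOf_sup hQS hRS, Subgroup.map_sup]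
      haveI : (Subgroup.map ι (Q.subgroupOf S)).Normal := h2
      haveI : (Subgroup.map ι (R.subgroupOf S)).Normal := h1
      have h3 : (Subgroup.map ι (Q.subgroupOf S) ⊔ Subgroup.map ι (R.subgroupOf S)).Normal :=
        Subgroup.sup_normal _ _
      exact Subgroup.mem_normalizer_iff_map_conj_eq.1
        (by rw [Subgroup.normalizer_eq_top]; exact Subgroup.mem_top c)
    obtain ⟨e, he, hev⟩ := exists_iso_of_conj hF (sup_le hQS hRS) (sup_le hQS hRS) hmap
    obtain ⟨z, hzQ, hzC, hzv⟩ := exists_center_conj_of_agree hS hsat (le_sup_left : Q ≤ Q ⊔ R) hQc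
      (subtype_mem (sup_le hQS hRS)) he fun x hx => by
        refine congrArg (fun w : S => (w : Ω))
          (hF.1 (?_ : ι ⟨x, sup_le hQS hRS x.2⟩ = ι ⟨e x, sup_le hQS hRS (e x).2⟩))
        rw [hev, eq_mul_inv_iff_mul_eq]
        exact Subgroup.mem_centralizer_iff.1 hc _ ⟨⟨x, sup_le hQS hRS x.2⟩, hx, rfl⟩
    have hzS : (z : Ω) ∈ centralizerIn S Q := ⟨hQS hzQ, hzC⟩
    have hd : (ι ⟨z, hQS hzQ⟩)⁻¹ * c ∈ ι.range := by
      refine (hT ▸ CfsgLib.PLocal.pCore_le_sylow T : pCore p G ≤ ι.range) (hC ?_)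
      rw [Subgroup.mem_centralizer_iff]
      intro v hv
      rw [SetLike.mem_coe, ← hRim] at hv
      obtain ⟨x, hx, rfl⟩ := hv
      have e1 := hev ⟨x, Subgroup.mem_sup_right hx⟩
      have e2 : (e ⟨x, Subgroup.mem_sup_right hx⟩ : Ω) = z * x * (z : Ω)⁻¹ := hzv _
      rw [show (⟨(e ⟨x, Subgroup.mem_sup_right hx⟩ : Ω), sup_le hQS hRS (e _).2⟩ : S) =
        ⟨z, hQS hzQ⟩ * x * ⟨z, hQS hzQ⟩⁻¹ from Subtype.ext e2] at e1
      simp only [map_mul, map_inv] at e1
      have e3 := congrArg (fun w => (ι ⟨z, hQS hzQ⟩)⁻¹ * w * c) e1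
      simpa [mul_assoc] using e3
    have hzi : ι ⟨z, hQS hzQ⟩ ∈ Subgroup.centralizer (im ι Q : Set G) :=
      (Subgroup.mem_inf.1 (im_centralizerIn hF.1 hQS ▸ (apply_mem_im_iff hF.1).2 hzS)).2
    rw [im_centralizerIn hF.1 hQS]
    refine ⟨?_, hc⟩
    have h3 := ι.range.mul_mem (⟨_, rfl⟩ : ι ⟨z, hQS hzQ⟩ ∈ ι.range) hd
    rwa [mul_inv_cancel_left] at h3
  · rw [im_centralizerIn hF.1 hQS]
    exact inf_le_right

/-! ### Comparison of two models -/

section compare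

variable {G₁ G₂ : Type*} [Group G₁] [Group G₂] {ι₁ : S →* G₁} {ι₂ : S →* G₂}

theorem exists_compatible (h₁ : F.IsRealizedBy ι₁) (h₂ : F.IsRealizedBy ι₂) (a : G₁) :
    ∃ b : G₂, ∀ s s' : S, a⁻¹ * ι₁ s * a = ι₁ s' → b⁻¹ * ι₂ s * b = ι₂ s' := by
  let D : Subgroup S := ((ι₁.range).comap (MulAut.conj a⁻¹).toMonoidHom).comap ι₁
  have hD : D.map S.subtype ≤ S := Subgroup.map_subtype_le _
  have hle : (im ι₁ (D.map S.subtype)).map (MulAut.conj a⁻¹).toMonoidHom ≤ ι₁.range := by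
    rw [im, Subgroup.subgroupOf, Subgroup.comap_map_eq_self_of_injective S.subtype_injective]
    rintro _ ⟨_, ⟨x, hx, rfl⟩, rfl⟩
    exact hx
  obtain ⟨V, hV, hVim⟩ := exists_im_eq hle
  obtain ⟨e, he, hev⟩ := exists_iso_of_conj h₁ hD hV hVim.symm
  obtain ⟨g, hg⟩ := (isIso_iff_conj h₂ hD hV e).1 he
  refine ⟨g⁻¹, fun s s' hss' => ?_⟩
  have hs : (s : Ω) ∈ D.map S.subtype := by
    refine ⟨s, ?_, rfl⟩
    show a⁻¹ * ι₁ s * a⁻¹⁻¹ ∈ ι₁.range
    rw [inv_inv, hss']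
    exact ⟨s', rfl⟩
  have e1 := hev ⟨s, hs⟩
  rw [inv_inv, show (⟨((⟨(s : Ω), hs⟩ : D.map S.subtype) : Ω), hD hs⟩ : S) = s from Subtype.ext rfl,
    hss'] at e1
  have e2 := hg ⟨s, hs⟩
  rw [h₁.1 e1, show (⟨((⟨(s : Ω), hs⟩ : D.map S.subtype) : Ω), hD hs⟩ : S) = s from
    Subtype.ext rfl] at e2
  rw [inv_inv]
  exact e2.symm

/-- A map between the groups of two realizations, equivariant on both sides. -/
theorem exists_equivariant (h₁ : F.IsRealizedBy ι₁) (h₂ : F.IsRealizedBy ι₂) :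
    ∃ β : G₁ → G₂, ∀ (u v : S) (g : G₁), β (ι₁ u * g * ι₁ v) = ι₂ u * β g * ι₂ v := by
  choose b hb using exists_compatible h₁ h₂
  let r : G₁ → G₁ := fun g => (DoubleCoset.mk ι₁.range ι₁.range g).out
  have hr : ∀ g, ∃ u v : S, g = ι₁ u * r g * ι₁ v := by
    intro g
    obtain ⟨x, y, hx, hy, he⟩ := DoubleCoset.mk_out_eq_mul ι₁.range ι₁.range g
    obtain ⟨u, rfl⟩ := hx
    obtain ⟨v, rfl⟩ := hy
    refine ⟨u⁻¹, v⁻¹, ?_⟩
    show g = ι₁ u⁻¹ * (DoubleCoset.mk ι₁.range ι₁.range g).out * ι₁ v⁻¹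
    rw [he]
    simp [mul_assoc]
  choose cu cv hc using hr
  refine ⟨fun g => ι₂ (cu g) * b (r g) * ι₂ (cv g), fun u v g => ?_⟩
  have hrr : r (ι₁ u * g * ι₁ v) = r g := by
    show (DoubleCoset.mk ι₁.range ι₁.range _).out = (DoubleCoset.mk ι₁.range ι₁.range g).out
    refine congrArg Quotient.out ((DoubleCoset.eq _ _ _ _).2 ?_)
    exact ⟨(ι₁ u)⁻¹, ι₁.range.inv_mem ⟨u, rfl⟩, (ι₁ v)⁻¹, ι₁.range.inv_mem ⟨v, rfl⟩, by
      simp [mul_assoc]⟩
  simp only [hrr]
  have h0 := hc (ι₁ u * g * ι₁ v)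
  rw [hrr] at h0
  conv_lhs at h0 => rw [hc g]
  generalize cu (ι₁ u * g * ι₁ v) = u' at *
  generalize cv (ι₁ u * g * ι₁ v) = v' at *
  have e3 : (r g)⁻¹ * ι₁ ((u * cu g)⁻¹ * u') * r g = ι₁ (cv g * v * v'⁻¹) := by
    have h4 := congrArg (fun w => (ι₁ (u * cu g) * r g)⁻¹ * w * (ι₁ v')⁻¹) h0
    simp only [map_mul, map_inv, mul_inv_rev, mul_assoc, inv_mul_cancel, inv_mul_cancel_left,
      mul_inv_cancel, mul_one] at h4 ⊢
    exact h4.symm
  have h4 := congrArg (fun w => ι₂ (u * cu g) * b (r g) * w * ι₂ v') (hb _ _ _ e3)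
  simp only [map_mul, map_inv, mul_inv_rev, mul_assoc, inv_mul_cancel, inv_mul_cancel_left,
    mul_inv_cancel_left, mul_one] at h4 ⊢
  exact h4

/-- A homomorphism between two models compatible with the embeddings of `S`. -/
theorem exists_hom_models [Fact p.Prime] (hG₁ : F.IsModel p G₁ ι₁) (hG₂ : F.IsModel p G₂ ι₂)
    (hQn : F.IsNormal Q) (hQc : F.IsCentric Q) :
    ∃ Φ : G₁ →* G₂, Function.Injective Φ ∧ ∀ s : S, Φ (ι₁ s) = ι₂ s := by
  obtain ⟨hfin₁, hF₁, ⟨T₁, hT₁⟩, -⟩ := id hG₁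
  obtain ⟨hfin₂, hF₂, ⟨T₂, hT₂⟩, -⟩ := id hG₂
  have hC₁ := centralizer_im_eq hG₁ hQn hQc
  have hC₂ := centralizer_im_eq hG₂ hQn hQc
  haveI hn₁ : (im ι₁ Q).Normal := im_normal_of_isNormal hG₁ hQn
  haveI hn₂ : (im ι₂ Q).Normal := im_normal_of_isNormal hG₂ hQn
  obtain ⟨β, hβ⟩ := exists_equivariant hF₁ hF₂
  have hβl : ∀ (u : S) (g : G₁), β (ι₁ u * g) = ι₂ u * β g := fun u g => by
    simpa using hβ u 1 g
  have hβr : ∀ (v : S) (g : G₁), β (g * ι₁ v) = β g * ι₂ v := fun v g => by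
    simpa using hβ 1 v g
  let A : Subgroup G₂ := Subgroup.centralizer (im ι₂ Q : Set G₂)
  letI : CommGroup A :=
    { (inferInstance : Group A) with
      mul_comm := fun a b => Subtype.ext (im_centralizerIn_mul_comm (ι := ι₂) hQc
        (hC₂ ▸ a.2) (hC₂ ▸ b.2)) }
  have hAn : A.Normal := by
    rw [← Subgroup.normalizer_eq_top_iff, eq_top_iff]
    refine le_trans ?_ (normalizer_le_normalizer_centralizer' (im ι₂ Q))
    rw [Subgroup.normalizer_eq_top]
  -- the candidates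
  let c : G₁ → G₁ → G₂ := fun g a => β (g * a) * (β a)⁻¹
  have hcr : ∀ g a (v : S), c g (a * ι₁ v) = c g a := by
    intro g a v
    simp only [c, ← mul_assoc, hβr]
    simp [mul_assoc]
  have hcm : ∀ g h a, c (g * h) a = c g (h * a) * c h a := by
    intro g h a
    simp [c, mul_assoc]
  let X := G₁ ⧸ ι₁.range
  letI : Fintype X := Fintype.ofFinite _
  have hcX : ∀ g a, c g (Quotient.out (QuotientGroup.mk a : X)) = c g a := by
    intro g a
    obtain ⟨v, hv⟩ := QuotientGroup.mk_out_eq_mul ι₁.range a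
    obtain ⟨w, hw⟩ := v.2
    rw [hv, ← hw, hcr]
  have hact : ∀ g a : G₁, ∀ q q' : S, (q : Ω) ∈ Q → g * ι₁ q * g⁻¹ = ι₁ q' →
      c g a * ι₂ q * (c g a)⁻¹ = ι₂ q' := by
    intro g a q q' hq hqq
    obtain ⟨q₀, -, hq₀⟩ := hn₁.conj_mem (ι₁ q) ⟨q, hq, rfl⟩ a⁻¹
    rw [inv_inv] at hq₀
    have e1 : a * ι₁ q₀ = ι₁ q * a := by rw [hq₀]; simp [mul_assoc]
    have e2 : (g * a) * ι₁ q₀ = ι₁ q' * (g * a) := by
      rw [mul_assoc, e1, ← hqq]; simp [mul_assoc]
    have e3 := congrArg β e1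
    have e4 := congrArg β e2
    rw [hβr, hβl] at e3 e4
    show β (g * a) * (β a)⁻¹ * ι₂ q * (β (g * a) * (β a)⁻¹)⁻¹ = ι₂ q'
    have e5 : (β a)⁻¹ * ι₂ q * β a = ι₂ q₀ := by
      rw [mul_assoc, ← e3]; simp
    calc _ = β (g * a) * ((β a)⁻¹ * ι₂ q * β a) * (β (g * a))⁻¹ := by simp [mul_assoc]
      _ = ι₂ q' := by rw [e5, e4]; simp [mul_assoc]
  have hβact : ∀ g : G₁, ∀ q q' : S, (q : Ω) ∈ Q → g * ι₁ q * g⁻¹ = ι₁ q' →
      β g * ι₂ q * (β g)⁻¹ = ι₂ q' := by
    intro g q q' hq hqq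
    have e1 : g * ι₁ q = ι₁ q' * g := by rw [← hqq]; simp [mul_assoc]
    have e2 := congrArg β e1
    rw [hβr, hβl] at e2
    rw [e2]; simp [mul_assoc]
  have huA : ∀ g (x : X), (β g)⁻¹ * c g x.out ∈ A := by
    intro g x
    rw [Subgroup.mem_centralizer_iff]
    rintro _ ⟨q, hq, rfl⟩
    obtain ⟨q', -, hq'⟩ := hn₁.conj_mem (ι₁ q) ⟨q, hq, rfl⟩ g
    have h1 := hact g x.out q q' hq hq'.symm
    have h2 := hβact g q q' hq hq'.symm
    have h3 := congrArg (fun w => (β g)⁻¹ * w * c g x.out) (h2.trans h1.symm)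
    simpa [mul_assoc] using h3
  let u : G₁ → X → A := fun g x => ⟨_, huA g x⟩
  -- roots
  have hcop : (Nat.card A).Coprime ι₁.range.index := by
    have hAp : IsPGroup p A :=
      (isPGroup_range_of_sylow T₂ hT₂).to_le (hC₂.le.trans (im_le_range ι₂ _))
    obtain ⟨k, hk⟩ := hAp.exists_card_eq
    rw [hk]
    exact (((Fact.out : p.Prime).coprime_iff_not_dvd).2 (hT₁ ▸ T₁.not_dvd_index)).pow_left k
  let n := ι₁.range.index
  have hcardX : Fintype.card X = n := by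
    rw [← Nat.card_eq_fintype_card]; rfl
  let rt : A → A := fun a => (powCoprime hcop).symm a
  have hrt : ∀ a : A, rt a ^ n = a := fun a => (powCoprime hcop).apply_symm_apply a
  have hinj : ∀ a b : A, a ^ n = b ^ n → a = b := fun a b h => (powCoprime hcop).injective h
  let U : G₁ → A := fun g => ∏ x : X, u g x
  let Φ : G₁ → G₂ := fun g => β g * (rt (U g) : G₂)
  have hmul : ∀ g h, Φ (g * h) = Φ g * Φ h := by
    intro g h
    have hk : (β g * β h)⁻¹ * β (g * h) ∈ A := by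
      rw [Subgroup.mem_centralizer_iff]
      rintro _ ⟨q, hq, rfl⟩
      obtain ⟨q', hq'Q, hq'⟩ := hn₁.conj_mem (ι₁ q) ⟨q, hq, rfl⟩ h
      obtain ⟨q'', -, hq''⟩ := hn₁.conj_mem (ι₁ q') ⟨q', hq'Q, rfl⟩ g
      have h1 := hβact h q q' hq hq'.symm
      have h2 := hβact g q' q'' hq'Q hq''.symm
      have h3 := hβact (g * h) q q'' hq (by rw [hq'', hq']; simp [mul_assoc])
      rw [← h1] at h2
      have h4 := congrArg (fun w => (β g * β h)⁻¹ * w * β (g * h)) (h2.trans h3.symm)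
      simpa [mul_assoc] using h4
    let k : A := ⟨_, hk⟩
    let cj : A →* A :=
      { toFun := fun a => ⟨(β h)⁻¹ * a * β h, by simpa using hAn.conj_mem a a.2 (β h)⁻¹⟩
        map_one' := Subtype.ext (by simp)
        map_mul' := fun a b => Subtype.ext (by simp [mul_assoc]) }
    have hu : ∀ x : X, u (g * h) x = k⁻¹ * (cj (u g (h • x)) * u h x) := by
      intro x
      refine Subtype.ext ?_
      show (β (g * h))⁻¹ * c (g * h) x.out =
        ((β g * β h)⁻¹ * β (g * h))⁻¹ *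
          ((β h)⁻¹ * ((β g)⁻¹ * c g (h • x).out) * β h * ((β h)⁻¹ * c h x.out))
      have e : c g (h • x).out = c g (h * x.out) := by
        rw [← hcX g (h * x.out)]
        congr 2
        conv_lhs => rw [← QuotientGroup.out_eq' x]
        rfl
      rw [hcm, e]
      simp [mul_assoc]
    have hU : U (g * h) = (k⁻¹) ^ n * (cj (U g) * U h) := by
      show ∏ x : X, u (g * h) x = _
      rw [Finset.prod_congr rfl fun x _ => hu x, Finset.prod_mul_distrib, Finset.prod_mul_distrib,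
        Finset.prod_const, Finset.card_univ, hcardX]
      congr 2
      rw [← map_prod]
      exact congrArg cj (Equiv.prod_comp (MulAction.toPerm h) (u g))
    have hR : rt (U (g * h)) = k⁻¹ * (cj (rt (U g)) * rt (U h)) := by
      apply hinj
      rw [hrt, hU, mul_pow, mul_pow, hrt, ← map_pow, hrt]
    show β (g * h) * (rt (U (g * h)) : G₂) = _
    rw [hR]
    show β (g * h) * (((β g * β h)⁻¹ * β (g * h))⁻¹ *
      ((β h)⁻¹ * (rt (U g) : G₂) * β h * (rt (U h) : G₂))) =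
        β g * (rt (U g) : G₂) * (β h * (rt (U h) : G₂))
    simp [mul_assoc]
  refine ⟨MonoidHom.mk' Φ hmul, ?_, fun s => ?_⟩
  case refine_2 =>
    have hu0 : ∀ x : X, (u (ι₁ s) x : G₂) = (β (ι₁ s))⁻¹ * ι₂ s := by
      intro x
      show (β (ι₁ s))⁻¹ * (β (ι₁ s * x.out) * (β x.out)⁻¹) = _
      rw [hβl s x.out]
      simp [mul_assoc]
    have hk : (β (ι₁ s))⁻¹ * ι₂ s ∈ A := by
      rw [← hu0 (QuotientGroup.mk 1)]
      exact (u _ _).2
    have hU : U (ι₁ s) = (⟨_, hk⟩ : A) ^ n := by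
      show ∏ x : X, u (ι₁ s) x = _
      rw [Finset.prod_congr rfl (g := fun _ : X => (⟨_, hk⟩ : A)) fun x _ => Subtype.ext (hu0 x),
        Finset.prod_const,
        Finset.card_univ, hcardX]
    have hR : rt (U (ι₁ s)) = ⟨_, hk⟩ := hinj _ _ (by rw [hrt, hU])
    show β (ι₁ s) * (rt (U (ι₁ s)) : G₂) = ι₂ s
    rw [hR]
    simp
  · refine (injective_iff_map_eq_one (MonoidHom.mk' Φ hmul)).2 fun g hg => ?_
    have hgΦ : β g * (rt (U g) : G₂) = 1 := hg
    have hgC : g ∈ Subgroup.centralizer (im ι₁ Q : Set G₁) := by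
      rw [Subgroup.mem_centralizer_iff]
      rintro _ ⟨q, hq, rfl⟩
      obtain ⟨q', -, hq'⟩ := hn₁.conj_mem (ι₁ q) ⟨q, hq, rfl⟩ g
      have h1 := hβact g q q' hq hq'.symm
      rw [eq_inv_of_mul_eq_one_left hgΦ, inv_inv] at h1
      have hq2 : ι₂ q ∈ (im ι₂ Q : Set G₂) := ⟨q, hq, rfl⟩
      have h2 := Subgroup.mem_centralizer_iff.1 (rt (U g)).2 _ hq2
      rw [mul_assoc, h2, ← mul_assoc, inv_mul_cancel, one_mul] at h1
      rw [← hF₂.1 h1] at hq'
      have h3 : g * ι₁ q = ι₁ q * g := by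
        conv_rhs => rw [hq']
        simp [mul_assoc]
      exact h3.symm
    rw [hC₁] at hgC
    obtain ⟨s, -, rfl⟩ := hgC
    have hs : MonoidHom.mk' Φ hmul (ι₁ s) = ι₂ s := by
      have hu0 : ∀ x : X, (u (ι₁ s) x : G₂) = (β (ι₁ s))⁻¹ * ι₂ s := by
        intro x
        show (β (ι₁ s))⁻¹ * (β (ι₁ s * x.out) * (β x.out)⁻¹) = _
        rw [hβl s x.out]
        simp [mul_assoc]
      have hk : (β (ι₁ s))⁻¹ * ι₂ s ∈ A := by
        rw [← hu0 (QuotientGroup.mk 1)]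
        exact (u _ _).2
      have hR : rt (U (ι₁ s)) = ⟨_, hk⟩ := hinj _ _ (by
        rw [hrt]
        show ∏ x : X, u (ι₁ s) x = _
        rw [Finset.prod_congr rfl (g := fun _ : X => (⟨_, hk⟩ : A)) fun x _ => Subtype.ext (hu0 x),
        Finset.prod_const,
          Finset.card_univ, hcardX])
      show β (ι₁ s) * (rt (U (ι₁ s)) : G₂) = ι₂ s
      rw [hR]
      simp
    rw [hs] at hg
    rw [hF₂.1 (hg.trans (map_one ι₂).symm), map_one]

/-- Two models of a constrained system are isomorphic over `S`. -/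
theorem exists_equiv_models [Fact p.Prime] (hG₁ : F.IsModel p G₁ ι₁) (hG₂ : F.IsModel p G₂ ι₂)
    (hQn : F.IsNormal Q) (hQc : F.IsCentric Q) :
    ∃ Φ : G₁ ≃* G₂, ∀ s : S, Φ (ι₁ s) = ι₂ s := by
  have := hG₁.1
  have := hG₂.1
  obtain ⟨Φ, hΦ, hΦs⟩ := exists_hom_models hG₁ hG₂ hQn hQc
  obtain ⟨Ψ, hΨ, -⟩ := exists_hom_models hG₂ hG₁ hQn hQc
  refine ⟨MulEquiv.ofBijective Φ ((Nat.bijective_iff_injective_and_card _).2
    ⟨hΦ, le_antisymm (Nat.card_le_card_of_injective Φ hΦ) (Nat.card_le_card_of_injective Ψ hΨ)⟩),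
    hΦs⟩

end compare

/-- Rigidity: an automorphism of a model fixing `S` is conjugation by an element of `Z(S)`. -/
theorem exists_center_conj_of_model [Fact p.Prime] (hG : F.IsModel p G ι) (hQn : F.IsNormal Q)
    (hQc : F.IsCentric Q) (ψ : G ≃* G) (hψ : ∀ x : S, ψ (ι x) = ι x) :
    ∃ z : S, z ∈ Subgroup.center S ∧ ∀ g : G, ψ g = ι z * g * (ι z)⁻¹ := by
  obtain ⟨hfin, hF, ⟨T, hT⟩, -⟩ := id hG
  have hC := centralizer_im_eq hG hQn hQc
  haveI hn : (im ι Q).Normal := im_normal_of_isNormal hG hQn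
  let A : Subgroup G := Subgroup.centralizer (im ι Q : Set G)
  letI : CommGroup A :=
    { (inferInstance : Group A) with
      mul_comm := fun a b => Subtype.ext (im_centralizerIn_mul_comm (ι := ι) hQc
        (hC ▸ a.2) (hC ▸ b.2)) }
  have hAn : A.Normal := by
    rw [← Subgroup.normalizer_eq_top_iff, eq_top_iff]
    refine le_trans ?_ (normalizer_le_normalizer_centralizer' (im ι Q))
    rw [Subgroup.normalizer_eq_top]
  have he : ∀ g : G, ψ g * g⁻¹ ∈ A := by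
    intro g
    rw [Subgroup.mem_centralizer_iff]
    intro v hv
    obtain ⟨w, ⟨q, hq, rfl⟩, hw⟩ : ∃ w ∈ im ι Q, g * w * g⁻¹ = v :=
      ⟨g⁻¹ * v * g, by simpa using hn.conj_mem v hv g⁻¹, by simp [mul_assoc]⟩
    have h1 : ψ v = v := by
      obtain ⟨q', -, rfl⟩ := hv
      exact hψ q'
    rw [← hw, map_mul, map_mul, map_inv, hψ] at h1
    have h2 := congrArg (fun z => z * (ψ g * g⁻¹)) h1
    rw [← hw]
    simpa [mul_assoc] using h2.symm
  let e : G → A := fun g => ⟨_, he g⟩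
  let X := G ⧸ ι.range
  letI : Fintype X := Fintype.ofFinite _
  have heX : ∀ a, e (Quotient.out (QuotientGroup.mk a : X)) = e a := by
    intro a
    obtain ⟨v, hv⟩ := QuotientGroup.mk_out_eq_mul ι.range a
    obtain ⟨w, hw⟩ := v.2
    refine Subtype.ext ?_
    show ψ _ * _⁻¹ = ψ a * a⁻¹
    rw [hv, ← hw, map_mul, hψ]
    simp [mul_assoc]
  have hcop : (Nat.card A).Coprime ι.range.index := by
    have hAp : IsPGroup p A :=
      (isPGroup_range_of_sylow T hT).to_le (hC.le.trans (im_le_range ι _))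
    obtain ⟨k, hk⟩ := hAp.exists_card_eq
    rw [hk]
    exact (((Fact.out : p.Prime).coprime_iff_not_dvd).2 (hT ▸ T.not_dvd_index)).pow_left k
  let n := ι.range.index
  have hcardX : Fintype.card X = n := by
    rw [← Nat.card_eq_fintype_card]; rfl
  let b : A := ∏ x : X, e x.out
  let c : A := (powCoprime hcop).symm b
  have hcn : c ^ n = b := (powCoprime hcop).apply_symm_apply b
  have hmain : ∀ h : G, ψ h * h⁻¹ = (c : G) * h * (c : G)⁻¹ * h⁻¹ := by
    intro h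
    let cj : A →* A :=
      { toFun := fun a => ⟨h * a * h⁻¹, hAn.conj_mem a a.2 h⟩
        map_one' := Subtype.ext (by simp)
        map_mul' := fun a b => Subtype.ext (by simp [mul_assoc]) }
    have h1 : b = e h ^ n * cj b := by
      conv_lhs => rw [show b = ∏ x : X, e (h • x).out from
        (Equiv.prod_comp (MulAction.toPerm h) (fun x : X => e x.out)).symm]
      rw [Finset.prod_congr rfl (g := fun x : X => e h * cj (e x.out)), Finset.prod_mul_distrib,
        Finset.prod_const, Finset.card_univ, hcardX, ← map_prod]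
      intro x _
      rw [show (h • x).out = Quotient.out (QuotientGroup.mk (h * x.out) : X) by
        congr 1
        conv_lhs => rw [← QuotientGroup.out_eq' x]
        rfl, heX]
      refine Subtype.ext ?_
      show ψ (h * x.out) * (h * x.out)⁻¹ = ψ h * h⁻¹ * (h * (ψ x.out * (x.out)⁻¹) * h⁻¹)
      rw [map_mul]
      simp [mul_assoc]
    rw [← hcn, map_pow, ← mul_pow] at h1
    have h2 : c = e h * cj c := (powCoprime hcop).injective h1
    have h3 : (c : G) = ψ h * h⁻¹ * (h * (c : G) * h⁻¹) := congrArg Subtype.val h2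
    conv_rhs => arg 1; arg 1; arg 1; rw [h3]
    simp [mul_assoc]
  obtain ⟨z, hz, hzc⟩ : (c : G) ∈ im ι (centralizerIn S Q) := hC ▸ c.2
  refine ⟨z, Subgroup.mem_center_iff.2 fun s => hF.1 ?_, fun g => ?_⟩
  · have h4 := hmain (ι s)
    rw [hψ, mul_inv_cancel, ← hzc] at h4
    have h5 := congrArg (fun w => w * ι s * ι z) h4
    rw [map_mul, map_mul]
    simpa [mul_assoc] using h5
  · have h4 := congrArg (fun w => w * g) (hmain g)
    rw [hzc]
    simpa [mul_assoc] using h4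

end CfsgLib.Fusion
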