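import Cfsg.Agent.Fusion.PPrimeResidual

/-!
# The `p'`-residual of a normal subsystem lies in every normal subsystem on the same subgroup

* `mem_autGroup_of_restrict`: an automorphism of `T` of order prime to `p` modulo `Aut_E(T)` whose
  restriction to an `E`-centric subgroup is in `E` is in `E`.
* `isSubsystemOf_of_invariant`: for two saturated invariant subsystems `E` and `D'` on `T` the
  `p'`-residual of `E` is contained in `D'`.
-/

set_option autoImplicit false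
set_option linter.style.haveILetI false

namespace CfsgLib.NormalLeast

open Cfsg Cfsg.FusionSystem CfsgLib.Fusion
open CfsgLib.PrimeToPIndex (pGen)
open CfsgLib.PPowerIndexNormal (img)

variable {Ω : Type*} [Group Ω] {S T : Subgroup Ω} {F : FusionSystem S} {p : ℕ}

/-- A centric subgroup is fully centralized. -/
theorem isFullyCentralized_of_centric [Finite T] {E : FusionSystem T} {Q : Subgroup Ω}
    (hQ : E.IsCentric Q) : E.IsFullyCentralized Q := by
  refine ⟨hQ.1, fun Q' hQ' => ?_⟩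
  obtain ⟨e, he⟩ := isConj_iff.1 (isConj_symm hQ')
  have hle := hQ.2 Q' hQ'
  haveI := finite_of_le (centralizerIn_le T Q)
  refine Nat.card_le_card_of_injective (fun c : centralizerIn T Q' =>
    (⟨(e ⟨c, hle c.2⟩ : Ω), hQ.1 (Subtype.mem _), ?_⟩ : centralizerIn T Q)) fun a b h => ?_
  · apply Subgroup.mem_centralizer_iff.2
    intro y hy
    obtain ⟨x, hx⟩ := e.surjective ⟨y, hy⟩
    have h1 : x * ⟨c, hle c.2⟩ = ⟨c, hle c.2⟩ * x :=
      Subtype.ext ((mem_centralizerIn.1 c.2).2 x x.2)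
    have h2 := congrArg (fun w => ((e w : Q) : Ω)) h1
    simp only [map_mul, Subgroup.coe_mul, hx] at h2
    exact h2
  · have h1 := e.injective (Subtype.ext (congrArg Subtype.val h :) :
      e ⟨a, hle a.2⟩ = e ⟨b, hle b.2⟩)
    exact Subtype.ext (congrArg Subtype.val h1 :)

/-- Climbing from a centric subgroup to `T`. -/
theorem mem_of_restrict [Finite T] [Fact p.Prime] (hT : IsPGroup p T)
    {E : FusionSystem T} (hE : E.IsSaturated p) (hinv : AutInvariant E F)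
    {K : Subgroup (MulAut T)} (hEK : E.autGroup T ≤ K) :
    ∀ (d : ℕ) (R : Subgroup Ω) (hR : R ≤ T) (a : MulAut T),
      Nat.card T ≤ Nat.card R + d → E.IsCentric R → a ∈ F.autGroup T →
      (∀ n j : ℕ, (a ^ n) ^ p ^ j ∈ K → a ^ n ∈ K) →
      restrictHom (T.subtype.comp a.toMonoidHom) hR ∈ E.Hom R → a ∈ K := by
  intro d
  induction d using Nat.strong_induction_on with
  | _ d ih =>
  intro R hR a hd hRc ha hroot hares
  rcases hR.eq_or_lt with rfl | hlt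
  · exact hEK ((mem_autGroup_iff le_rfl).2 (mem_congr hares fun _ => rfl))
  obtain ⟨N, hN⟩ : ∃ N, N = normalizerIn T R := ⟨_, rfl⟩
  have hRN : R < N := hN ▸ lt_normalizerIn hT hlt
  have hNT : N ≤ T := hN ▸ normalizerIn_le T R
  haveI := finite_of_le hR
  haveI := finite_of_le hNT
  obtain ⟨e, he, hev⟩ := exists_iso_range hares
  have hrc : E.IsCentric (restrictHom (T.subtype.comp a.toMonoidHom) hR).range :=
    isCentric_of_isConj hRc he.isConj
  obtain ⟨ψ, hψ, hψv⟩ := exists_extension (T := N)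
    (receptive_of_fullyCentralized hT hE (isFullyCentralized_of_centric hrc)) he fun g hg => by
      have hg' : g ∈ normalizerIn T R := hN ▸ hg
      refine mem_extender_iff.2 ⟨hg'.1, hg'.2, (a ⟨g, hg'.1⟩ : T), Subtype.mem _, fun x hx => ?_⟩
      show (e ⟨_, hx⟩ : Ω) = (a ⟨g, hg'.1⟩ : Ω) * (e x : Ω) * (a ⟨g, hg'.1⟩ : Ω)⁻¹
      rw [hev, hev, ← Subgroup.coe_inv, ← map_inv]
      show (a _ : Ω) = (a _ : Ω) * (a _ : Ω) * (a _ : Ω)
      rw [← Subgroup.coe_mul, ← Subgroup.coe_mul, ← map_mul, ← map_mul]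
      rfl
  let α : N →* Ω := restrictHom (T.subtype.comp a.toMonoidHom) hNT
  have hαi : Function.Injective α := fun x y h => by
    have h1 := a.injective (Subtype.ext h : a ⟨x, hNT x.2⟩ = a ⟨y, hNT y.2⟩)
    exact Subtype.ext (congrArg Subtype.val h1 :)
  obtain ⟨δ, hδ, hδv⟩ := exists_delta_aux (α := α) (ψ := ψ) hRN.le (fun g hg => (hN ▸ hg : _).2)
    (fun x => Subtype.mem _) (apply_mem hψ) hαi (E.injective_of_mem hψ)
    (hRc.2 _ (isConj_restrict hψ hRN.le)) fun x => ((hψv x (hRN.le x.2)).trans (hev x)).symm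
  have hiter : ∀ n : ℕ, ∃ f ∈ E.Hom N,
      ∀ g : N, (((a ^ n) ⟨g, hNT g.2⟩ : T) : Ω) = f ((δ ^ n) g) := by
    intro n
    induction n with
    | zero => exact ⟨_, subtype_mem hNT, fun g => rfl⟩
    | succ n ihn =>
      obtain ⟨f, hf, hfv⟩ := ihn
      obtain ⟨χ, hχ, hχv⟩ := hinv N hNT f hf a ha
      have hψimg : ∀ x : N, ψ x ∈ img a N := fun x => by
        refine ⟨⟨δ.symm x, hNT (δ.symm x).2⟩, (δ.symm x).2, ?_⟩
        show α (δ.symm x) = ψ x
        rw [hδv, δ.apply_symm_apply]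
      refine ⟨_, E.comp_mem hψ hχ hψimg, fun g => ?_⟩
      show (((a ^ (n + 1)) ⟨g, hNT g.2⟩ : T) : Ω) = χ ⟨ψ ((δ ^ (n + 1)) g), _⟩
      rw [pow_succ' a, MulAut.mul_apply]
      have hax : (a ⟨((δ ^ n) g : N), hNT ((δ ^ n) g).2⟩ : Ω) = ψ ((δ ^ (n + 1)) g) := by
        rw [pow_succ' δ, MulAut.mul_apply]
        exact hδv _
      have h2 := hχv ((δ ^ n) g) (apply_mem hf _) (hax ▸ hψimg _)
      refine Eq.trans ?_ ((congrArg χ (Subtype.ext hax.symm)).trans h2).symm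
      exact congrArg (fun w : T => (a w : Ω)) (Subtype.ext (hfv g))
  obtain ⟨f, hf, hfv⟩ := hiter (Nat.card R)
  have hres : restrictHom (T.subtype.comp (a ^ Nat.card R : MulAut T).toMonoidHom) hNT ∈ E.Hom N :=
    mem_congr hf fun g => (hfv g).trans (by rw [hδ]; rfl)
  have hcN := card_lt_of_lt hRN hNT
  have hcT : Nat.card N ≤ Nat.card T :=
    Nat.card_le_card_of_injective _ (Subgroup.inclusion_injective hNT)
  have haR : a ^ Nat.card R ∈ K :=
    ih (Nat.card T - Nat.card N) (by omega) N hNT _ (by omega) (isCentric_of_le hRc hRN.le hNT)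
      (pow_mem ha _) (fun n j h => by
        rw [← pow_mul a (Nat.card R) n] at h ⊢
        exact hroot _ j h) hres
  obtain ⟨j, hj⟩ := (hT.to_le hR).exists_card_eq
  have := hroot 1 j (by rw [pow_one, ← hj]; exact haR)
  rwa [pow_one] at this
where
  exists_delta_aux {T R N : Subgroup Ω} [Finite R] [Finite N] {α ψ : N →* Ω} (hRN : R ≤ N)
      (hN : N ≤ Subgroup.normalizer (R : Set Ω)) (h1 : ∀ x, α x ∈ T) (h2 : ∀ x, ψ x ∈ T)
      (h3 : Function.Injective α) (h4 : Function.Injective ψ)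
      (hC : centralizerIn T (imgHom ψ R) ≤ imgHom ψ R)
      (h : ∀ x : R, α ⟨x, hRN x.2⟩ = ψ ⟨x, hRN x.2⟩) :
      ∃ δ : MulAut N, δ ^ Nat.card R = 1 ∧ ∀ g, α g = ψ (δ g) :=
    CfsgLib.PPrimeResidual.exists_delta hRN hN h1 h2 h3 h4 hC h

/-- The case of `Aut_E(T)`. -/
theorem mem_autGroup_of_restrict [Finite T] [Fact p.Prime] (hT : IsPGroup p T)
    {E : FusionSystem T} (hE : E.IsSaturated p) (hinv : AutInvariant E F) {R : Subgroup Ω}
    (hR : R ≤ T) {a : MulAut T} {m : ℕ} (hRc : E.IsCentric R) (ha : a ∈ F.autGroup T)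
    (hm : ¬ p ∣ m) (ham : a ^ m ∈ E.autGroup T)
    (hres : restrictHom (T.subtype.comp a.toMonoidHom) hR ∈ E.Hom R) : a ∈ E.autGroup T := by
  refine mem_of_restrict hT hE hinv le_rfl (Nat.card T) R hR a (Nat.le_add_left _ _) hRc ha
    (fun n j h => ?_) hres
  obtain ⟨u, v, huv⟩ : IsCoprime ((m : ℕ) : ℤ) ((p ^ j : ℕ) : ℤ) :=
    Nat.isCoprime_iff_coprime.2
      (((Fact.out : p.Prime).coprime_iff_not_dvd.2 hm).symm.pow_right j)
  have e' : a ^ n = ((a ^ n) ^ m) ^ u * ((a ^ n) ^ p ^ j) ^ v := by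
    rw [← zpow_natCast (a ^ n) m, ← zpow_natCast (a ^ n) (p ^ j), ← zpow_mul, ← zpow_mul,
      ← zpow_add, mul_comm (m : ℤ), mul_comm ((p ^ j : ℕ) : ℤ), huv, zpow_one]
  rw [e']
  exact mul_mem (zpow_mem (by rw [← pow_mul, mul_comm, pow_mul]; exact pow_mem ham _) u)
    (zpow_mem h v)

/-- Every map of a saturated `E` is an element of `Aut_F(T)` composed with a map of an invariant
`D`. -/
def Frattini (D : FusionSystem T) (F : FusionSystem S) : Prop :=
  ∀ P : Subgroup Ω, P ≤ T → ∀ φ : P →* Ω, φ ∈ F.Hom P →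
    ∃ α ∈ F.autGroup T, ∃ φ₀ ∈ D.Hom P, ∀ (x : P) (hx : φ₀ x ∈ T), φ x = ((α ⟨φ₀ x, hx⟩ : T) : Ω)

/-- The automorphisms of `p`-power order of one invariant subsystem lie in every other. -/
theorem pGen_le_other [Finite T] [Fact p.Prime] (hT : IsPGroup p T) {E D : FusionSystem T}
    (hE : E.IsSaturated p) (hEF : E.IsSubsystemOf F) (hD : AutInvariant D F) (hfr : Frattini D F)
    {P : Subgroup Ω} (hP : P ≤ T) :
    (pGen p E P).map (E.autGroup P).subtype ≤ D.autGroup P := by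
  rw [MonoidHom.map_closure, Subgroup.closure_le]
  rintro _ ⟨a, ⟨k, hk⟩, rfl⟩
  haveI := finite_of_le hP
  obtain ⟨Q, hPQ, hQ⟩ := exists_fullyNormalized (F := E) hP
  obtain ⟨hQa, -⟩ := automized_receptive hT hE hQ
  obtain ⟨e₀, he₀⟩ := isConj_iff.1 hPQ
  haveI := finite_of_le hQ.1
  obtain ⟨γ, hγ, hγc⟩ := exists_conj_autInducedBy hQa
    (X := Subgroup.zpowers (MulAut.congr e₀ (a : MulAut P)))
    (Subgroup.zpowers_le.2 (congr_mem_autGroup he₀ a.2))
    (isPGroup_zpowers_of_pow_eq_one (k := k) (by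
      rw [← map_pow, ← SubgroupClass.coe_pow, ← hk, pow_orderOf_eq_one]
      exact map_one _))
  obtain ⟨e, he, hea⟩ : ∃ e : P ≃* Q, IsIso E e ∧
      MulAut.congr e (a : MulAut P) ∈ autInducedBy T Q := by
    refine ⟨e₀.trans γ, he₀.trans ((mem_autGroup_iff hQ.1).1 hγ), ?_⟩
    rw [congr_trans, congr_self_eq]
    exact hγc _ (Subgroup.mem_zpowers _)
  obtain ⟨g, hg, hgN, hga⟩ := mem_autInducedBy_iff.1 hea
  obtain ⟨β, hβ, f, hf, hfv⟩ := hfr Q hQ.1 _ (hEF _ he.symm)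
  obtain ⟨f', hf', hf'v⟩ := exists_iso_range hf
  let c : MulAut Q := Q.normalizerMonoidHom ⟨g, hgN⟩
  have hc : c ∈ D.autGroup Q :=
    autInducedBy_le_autGroup hQ.1 (mem_autInducedBy_iff.2 ⟨g, hg, hgN, fun _ => rfl⟩)
  have hE1 : MulAut.congr f' c ∈ D.autGroup f.range := congr_mem_autGroup hf' hc
  obtain ⟨χ, hχ, hχv⟩ := hD f.range hf'.le_right _
    ((mem_autGroup_iff hf'.le_right).1 hE1) β hβ
  have hle : P ≤ img β f.range := by
    intro x hx
    refine ⟨⟨f' (e ⟨x, hx⟩), hf'.le_right (f' _).2⟩, (f' _).2, ?_⟩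
    have h1 := hfv (e ⟨x, hx⟩) (apply_mem hf _)
    show (β _ : Ω) = x
    refine Eq.trans (congrArg (fun w : T => (β w : Ω)) (Subtype.ext (hf'v _))) (h1.symm.trans ?_)
    show ((e.symm (e ⟨x, hx⟩) : P) : Ω) = x
    rw [e.symm_apply_apply]
  refine IsIso.mem_autGroup (mem_of_agree hχ hle fun x => ?_)
  have h1 : ∀ y : Q, (β ⟨f' y, hf'.le_right (f' y).2⟩ : Ω) = (e.symm y : Ω) := fun y =>
    (congrArg (fun w : T => (β w : Ω)) (Subtype.ext (hf'v y))).trans (hfv y (apply_mem hf _)).symm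
  have h2 := hχv (f' (e x)) (hf'.le_right (MulAut.congr f' c (f' (e x))).2)
    ⟨⟨f' (e x), hf'.le_right (f' _).2⟩, (f' _).2, rfl⟩
  show ((a : MulAut P) x : Ω) = χ ⟨x, hle x.2⟩
  have h3 : (β ⟨f' (e x), hf'.le_right (f' (e x)).2⟩ : Ω) = x := by
    rw [h1, e.symm_apply_apply]
  refine Eq.symm ((congrArg χ (Subtype.ext h3.symm)).trans (h2.trans ?_))
  show (β ⟨(MulAut.congr f' c (f' (e x)) : Ω), _⟩ : Ω) = _
  simp only [congr_apply]
  rw [h1]
  have h4 : c (e x) = e ((a : MulAut P) x) := by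
    rw [← congr_apply (e := e) (a : MulAut P) x]
    exact Subtype.ext (hga (e x)).symm
  rw [h4, e.symm_apply_apply]

/-- Invariant subsystems have the same centric subgroups. -/
theorem isCentric_other [Finite T] {E D : FusionSystem T} (hDF : D.IsSubsystemOf F)
    (hfr : Frattini E F) {P : Subgroup Ω} (hP : E.IsCentric P) : D.IsCentric P := by
  refine ⟨hP.1, fun Q hQ c hc => ?_⟩
  obtain ⟨φ, hφ, rfl⟩ := hQ
  obtain ⟨α, hα, φ₀, hφ₀, hv⟩ := hfr P hP.1 φ (hDF P hφ)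
  have h0 := hP.2 φ₀.range ⟨φ₀, hφ₀, rfl⟩
  obtain ⟨hcT, hcc⟩ := mem_centralizerIn'.1 hc
  obtain ⟨c₀, hc₀⟩ := α.surjective ⟨c, hcT⟩
  have hmem : (c₀ : Ω) ∈ centralizerIn T φ₀.range := by
    refine mem_centralizerIn'.2 ⟨c₀.2, ?_⟩
    rintro _ ⟨x, rfl⟩
    have h1 : c₀ * ⟨φ₀ x, apply_mem hφ₀ x⟩ * c₀⁻¹ = ⟨φ₀ x, apply_mem hφ₀ x⟩ := by
      refine α.injective (Subtype.ext ?_)
      rw [map_mul, map_mul, map_inv, hc₀, Subgroup.coe_mul, Subgroup.coe_mul, InvMemClass.coe_inv,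
        ← hv x]
      exact hcc (φ x) ⟨x, rfl⟩
    exact congrArg Subtype.val h1
  obtain ⟨x, hx⟩ := h0 hmem
  refine ⟨x, ?_⟩
  rw [hv x (apply_mem hφ₀ x), show (⟨φ₀ x, apply_mem hφ₀ x⟩ : T) = c₀ from Subtype.ext hx, hc₀]

/-- Invariant subsystems have the same fully normalized subgroups. -/
theorem isFullyNormalized_other [Finite T] {E D : FusionSystem T} (hDF : D.IsSubsystemOf F)
    (hfr : Frattini E F) {Q : Subgroup Ω} (hQ : E.IsFullyNormalized Q) :
    D.IsFullyNormalized Q := by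
  refine ⟨hQ.1, fun Q' hQ' => ?_⟩
  obtain ⟨φ, hφ, rfl⟩ := hQ'
  obtain ⟨α, hα, φ₀, hφ₀, hv⟩ := hfr Q hQ.1 φ (hDF Q hφ)
  refine le_trans ?_ (hQ.2 φ₀.range ⟨φ₀, hφ₀, rfl⟩)
  haveI := finite_of_le (normalizerIn_le T φ₀.range)
  haveI := finite_of_le (range_le hφ₀)
  have hα : ∀ (y : Ω) (hy : y ∈ φ₀.range), (α ⟨y, range_le hφ₀ hy⟩ : Ω) ∈ φ.range := by
    rintro _ ⟨x, rfl⟩
    exact ⟨x, hv x _⟩
  refine Nat.card_le_card_of_injective (fun n : normalizerIn T φ.range =>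
    (⟨(α.symm ⟨n, n.2.1⟩ : Ω), Subtype.mem _, ?_⟩ : normalizerIn T φ₀.range)) fun a b h => ?_
  · refine CfsgLib.SatCriterion.mem_normalizer_of_finite fun y hy => ?_
    obtain ⟨x, hx⟩ := (Subgroup.mem_normalizer_iff.1 n.2.2 _).1 (hα y hy)
    refine ⟨x, ?_⟩
    have e : α ⟨φ₀ x, apply_mem hφ₀ x⟩ =
        α (α.symm ⟨n, n.2.1⟩ * ⟨y, range_le hφ₀ hy⟩ * (α.symm ⟨n, n.2.1⟩)⁻¹) := by
      refine Subtype.ext ?_
      rw [← hv x, hx]
      simp
    exact congrArg Subtype.val (α.injective e)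
  · have h1 := α.symm.injective (Subtype.ext (congrArg Subtype.val h :) :
      α.symm ⟨a, a.2.1⟩ = α.symm ⟨b, b.2.1⟩)
    exact Subtype.ext (congrArg Subtype.val h1 :)

/-- The `p'`-residual of an invariant subsystem lies in every other on the same subgroup. -/
theorem isSubsystemOf_of_invariant [Finite T] [Fact p.Prime] (hT : IsPGroup p T)
    {E D' D : FusionSystem T}
    (hE : E.IsSaturated p) (hEF : E.IsSubsystemOf F) (hEi : AutInvariant E F) (hEf : Frattini E F)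
    (hD' : D'.IsSaturated p) (hDF : D'.IsSubsystemOf F) (hDi : AutInvariant D' F)
    (hDf : Frattini D' F) (hD : E.IsPPrimeResidual p D) : D.IsSubsystemOf D' := by
  let G₀ := CfsgLib.PPrimeResidual.infSystem E {D'}
  let G := CfsgLib.PPrimeResidual.infSystem G₀
    {X | ∀ P : Subgroup Ω, E.IsCentric P → G₀.Hom P ⊆ X.Hom P}
  have hge : ∀ P : Subgroup Ω, E.IsCentric P → G₀.Hom P ⊆ G.Hom P := fun P hP φ h =>
    ⟨h, fun X hX => hX P hP h⟩
  have hGE : G.IsSubsystemOf E := fun P φ h => h.1.1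
  have hGD : G.IsSubsystemOf D' := fun P φ h => h.1.2 D' rfl
  have hgenE : ∀ P : Subgroup Ω, E.IsCentric P →
      (pGen p E P).map (E.autGroup P).subtype ≤ G.autGroup P := fun P hP α hα =>
    IsIso.mem_autGroup (hge P hP ⟨(mem_autGroup_iff hP.1).1 (Subgroup.map_subtype_le _ hα),
      fun X hX => by
        obtain rfl : X = D' := hX
        exact (mem_autGroup_iff hP.1).1 (pGen_le_other hT hE hEF hDi hDf hP.1 hα)⟩)
  have hgenD : ∀ P : Subgroup Ω, D'.IsCentric P →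
      (pGen p D' P).map (D'.autGroup P).subtype ≤ G.autGroup P := fun P hP α hα =>
    IsIso.mem_autGroup (hge P (isCentric_other hEF hDf hP)
      ⟨(mem_autGroup_iff hP.1).1 (pGen_le_other hT hD' hDF hEi hEf hP.1 hα),
      fun X hX => by
        obtain rfl : X = D' := hX
        exact (mem_autGroup_iff hP.1).1 (Subgroup.map_subtype_le _ hα)⟩)
  obtain ⟨hidx, hdec, hcen⟩ := CfsgLib.PrimeToPIndex.main hT hE hGE hgenE
  obtain ⟨-, hdecD, -⟩ := CfsgLib.PrimeToPIndex.main hT hD' hGD hgenD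
  suffices hG : G.IsSaturated p from fun P φ h => hGD P (hD.2.2 G hG hidx P h)
  refine CfsgLib.SatCriterion.isSaturated hT {P | E.IsCentric P} (fun P hP Q hQ => ?_) ?_ ?_ ?_
  · obtain ⟨φ, hφ, hr⟩ := hQ
    exact isCentric_of_isConj hP ⟨φ, hGE P hφ, hr⟩
  swap
  · intro X hX P φ h
    exact h.2 X fun R hR => (hge R hR).trans (hX R hR)
  swap
  · exact fun P hP hnP => absurd ((hcen P).1 hP) hnP
  intro P hP
  obtain ⟨Q, hPQ, hQ⟩ := exists_fullyNormalized (F := E) hP.1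
  obtain ⟨φ, hφ, hr⟩ := id hPQ
  obtain ⟨α, hα, φ₀, hφ₀, hv⟩ := hdec P φ hφ
  have hφ₀E := hGE P hφ₀
  refine ⟨φ₀.range, ⟨φ₀, hφ₀, rfl⟩, ?_⟩
  have hQ₀c : E.IsCentric φ₀.range := isCentric_of_isConj hP ⟨φ₀, hφ₀E, rfl⟩
  have hQ₀ : E.IsFullyNormalized φ₀.range := by
    refine CfsgLib.PPrimeResidual.isFullyNormalized_aut hQ (α := α⁻¹)
      (isConj_trans (isConj_symm hPQ) ⟨φ₀, hφ₀E, rfl⟩) fun x hx => ?_
    obtain ⟨y, hy⟩ : (x : Ω) ∈ φ.range := hr ▸ hx
    refine ⟨y, ?_⟩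
    rw [show x = α ⟨φ₀ y, apply_mem hφ₀E y⟩ from
      Subtype.ext (hy.symm.trans (hv y (apply_mem hφ₀E y))), MulAut.inv_apply_self]
  haveI := finite_of_le hQ₀.1
  obtain ⟨hQa, -⟩ := automized_receptive hT hE hQ₀
  refine ⟨⟨hQ₀.1, ?_⟩, hQ₀.1, fun R θ hθ hθr => ?_⟩
  · exact IsSylowIn.mono (H := E.autGroup φ₀.range) hQa.2 (autInducedBy_le_autGroup hQ₀.1)
      fun β hβ => (mem_autGroup_iff hQ₀.1).2 (hGE _ ((mem_autGroup_iff hQ₀.1).1 hβ))
  · obtain ⟨ψ, hψ, hψv⟩ :=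
      (automized_receptive hT hD' (isFullyNormalized_other hDF hEf hQ₀)).2.2 R θ (hGD R hθ) hθr
    have hRc : E.IsCentric R := isCentric_of_isConj hQ₀c (isConj_symm ⟨θ, hGE R hθ, hθr⟩)
    have hRN : R ≤ extender T R θ := le_extender hRc.1 fun x => apply_mem hθ x
    have hNc : E.IsCentric (extender T R θ) := isCentric_of_le hRc hRN (le_left hψ)
    obtain ⟨b, hb, g, hg, hgv⟩ := hdecD _ ψ hψ
    suffices hbE : b ∈ E.autGroup T by
      refine ⟨ψ, hge _ hNc ⟨?_, fun X hX => by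
        obtain rfl : X = D' := hX
        exact hψ⟩, hψv⟩
      exact mem_of_comp (hGE _ hg) ((mem_autGroup_iff le_rfl).1 hbE)
        (fun x => apply_mem hg x) fun x => hgv x _
    -- `b` is in `E` on the centric image of `R`
    obtain ⟨k, m, hm, hord⟩ := Nat.exists_eq_pow_mul_and_not_dvd (orderOf_pos b).ne' p
      (Fact.out : p.Prime).ne_one
    have hbm : b ^ m ∈ E.autGroup T := by
      obtain ⟨i, -, hi⟩ := (Nat.dvd_prime_pow (Fact.out : p.Prime)).1
        (orderOf_dvd_of_pow_eq_one (by rw [← pow_mul, mul_comm, ← hord, pow_orderOf_eq_one]) :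
          orderOf (b ^ m) ∣ p ^ k)
      exact pGen_le_other hT hD' hDF hEi hEf le_rfl
        ⟨⟨b ^ m, pow_mem hb m⟩, Subgroup.subset_closure ⟨i, by rw [← hi, ← Subgroup.orderOf_coe]⟩,
          rfl⟩
    obtain ⟨f, hf, hfv⟩ := exists_iso_restrict (hGE _ hg) hRN
    have hR' : E.IsCentric (imgHom g R) := isCentric_of_isConj hRc hf.isConj
    refine mem_autGroup_of_restrict hT hE hEi hR'.1 hR'
      (IsIso.mem_autGroup (hDF T ((mem_autGroup_iff le_rfl).1 hb) : IsIso F b)) hm hbm ?_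
    refine mem_congr (hf.symm.comp_hom (hGE R hθ)) fun y => ?_
    obtain ⟨x, rfl⟩ := f.surjective y
    show (b ⟨(f x : Ω), _⟩ : Ω) = θ (f.symm (f x))
    rw [f.symm_apply_apply]
    refine Eq.trans ?_ ((hgv ⟨x, hRN x.2⟩ (apply_mem hg _)).symm.trans (hψv x x.2 (hRN x.2)))
    exact congrArg (fun w : T => (b w : Ω)) (Subtype.ext (hfv x))

end CfsgLib.NormalLeast
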