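import Cfsg.Agent.Fusion.Realized
import Cfsg.Agent.Transfer.Residual

/-!
# The system of a normal subgroup is a normal subsystem

`isNormalIn_subgroupSystem`: `F_{S ∩ H}(H) ⊴ F_S(G)` for `H ⊴ G`.
-/

set_option autoImplicit false

namespace CfsgLib.Fusion

open Cfsg Cfsg.FusionSystem

variable {G : Type*} [Group G] {p : ℕ}

theorem subgroupSystem_isSaturated [Finite G] [Fact p.Prime] (S : Sylow p G) (H : Subgroup G)
    [H.Normal] :
    (fusionSystemOfSubgroup H ((S : Subgroup G) ⊓ H) inf_le_right).IsSaturated p := by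
  have hr : (fusionSystemOfSubgroup H ((S : Subgroup G) ⊓ H) inf_le_right).IsRealizedBy
      (Subgroup.inclusion (inf_le_right : (S : Subgroup G) ⊓ H ≤ H)) := by
    refine ⟨Subgroup.inclusion_injective _, fun P hP φ hφ => ⟨?_, ?_⟩⟩
    · rintro ⟨-, -, g, hg, he⟩
      exact ⟨⟨g, hg⟩, fun x => Subtype.ext (he x)⟩
    · rintro ⟨g, hg⟩
      exact ⟨hP, hφ, g, g.2, fun x => congrArg Subtype.val (hg x)⟩
  refine isSaturated_of_realized hr ((S.isPGroup'.comap_subtype (K := H)).toSylow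
    (CfsgLib.Transfer.not_dvd_relIndex_of_normal S H)) ?_
  ext x
  exact ⟨fun hx => ⟨⟨x, hx, x.2⟩, rfl⟩, by rintro ⟨y, rfl⟩; exact y.2.1⟩

theorem mem_normalizer_inf_of_conj [Finite G] {T : Subgroup G} {α : MulAut T} {g : G}
    (hg : ∀ x : T, (α x : G) = g * x * g⁻¹) : g ∈ Subgroup.normalizer (T : Set G) :=
  mem_normalizer_of_conj_mem fun v hv => hg ⟨v, hv⟩ ▸ Subtype.mem _

/-- An element of `H` normalising `T = S ∩ H` can be corrected by `C_H(T)` to normalise `C_S(T)`. -/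
theorem exists_normalizing_centralizerIn [Finite G] [Fact p.Prime] (S : Sylow p G) (H : Subgroup G)
    [H.Normal] {T : Subgroup G} (hT : T = (S : Subgroup G) ⊓ H) {h : G} (hh : h ∈ H)
    (hhT : h ∈ Subgroup.normalizer (T : Set G)) :
    ∃ k ∈ H, k ∈ Subgroup.centralizer (T : Set G) ∧
      ∀ c ∈ centralizerIn (S : Subgroup G) T,
        k * h * c * (k * h)⁻¹ ∈ centralizerIn (S : Subgroup G) T := by
  obtain ⟨C, hC⟩ : ∃ C, C = centralizerIn (S : Subgroup G) T := ⟨_, rfl⟩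
  obtain ⟨M, hM⟩ : ∃ M, M = H ⊓ Subgroup.centralizer (T : Set G) := ⟨_, rfl⟩
  rw [← hC]
  have hclosed : (groupFusionSystem (S : Subgroup G)).IsFullyCentralized T := by
    refine ⟨hT ▸ inf_le_left, fun R ⟨φ, hφ, hr⟩ => ?_⟩
    obtain ⟨-, hφS, g, hg⟩ := hφ
    have e : R = T := by
      subst hr
      refine Subgroup.eq_of_le_of_card_ge ?_ (Nat.card_le_card_of_injective φ.rangeRestrict
        ((MonoidHom.rangeRestrict_injective_iff).2 ((groupFusionSystem _).injective_of_mem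
          ⟨hT ▸ inf_le_left, hφS, g, hg⟩)))
      rintro _ ⟨x, rfl⟩
      have hxH : (x : G) ∈ H := (hT.le x.2).2
      exact hT.ge ⟨hφS x, by rw [hg]; exact Subgroup.Normal.conj_mem inferInstance _ hxH g⟩
    rw [e]
  have hCsyl : IsSylowIn p (Subgroup.centralizer (T : Set G)) C := hC ▸
    (groupFusion_fullyCentralized_iff S (hT ▸ inf_le_left)).1 hclosed
  have hCG : C ≤ Subgroup.centralizer (T : Set G) := hC ▸ inf_le_right
  have hMn : Subgroup.centralizer (T : Set G) ≤ Subgroup.normalizer (M : Set G) := by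
    intro d hd
    refine mem_normalizer_of_conj_mem fun v hv => ?_
    rw [hM] at hv ⊢
    exact ⟨Subgroup.Normal.conj_mem inferInstance _ hv.1 d,
      mul_mem (mul_mem hd hv.2) (Subgroup.inv_mem _ hd)⟩
  have hCp : IsPGroup p C := hCsyl.isPGroup hCG
  have hD : ∀ c ∈ C, h * c * h⁻¹ ∈ C ⊔ M := by
    intro c hc
    rw [show h * c * h⁻¹ = (h * c * h⁻¹ * c⁻¹) * c by group]
    refine mul_mem (Subgroup.mem_sup_right (hM ▸ ⟨?_, ?_⟩)) (Subgroup.mem_sup_left hc)
    · rw [show h * c * h⁻¹ * c⁻¹ = h * (c * h⁻¹ * c⁻¹) by group]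
      exact mul_mem hh (Subgroup.Normal.conj_mem inferInstance _ (Subgroup.inv_mem _ hh) c)
    · refine mul_mem ?_ (Subgroup.inv_mem _ (hCG hc))
      refine Subgroup.mem_centralizer_iff.2 fun v hv => ?_
      have hu : h⁻¹ * v * h ∈ T := by
        have h' := (Subgroup.mem_normalizer_iff.1 (Subgroup.inv_mem _ hhT) v).1 hv
        rwa [inv_inv] at h'
      have hcu := Subgroup.mem_centralizer_iff.1 (hCG hc) _ hu
      calc v * (h * c * h⁻¹) = h * (h⁻¹ * v * h * c) * h⁻¹ := by group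
        _ = h * (c * (h⁻¹ * v * h)) * h⁻¹ := by rw [hcu]
        _ = h * c * h⁻¹ * v := by group
  have hDle : C ⊔ M ≤ Subgroup.centralizer (T : Set G) :=
    sup_le hCG (hM ▸ inf_le_right)
  have hDsyl : IsSylowIn p (C ⊔ M) C := hCsyl.mono le_sup_left hDle
  obtain ⟨d, hd, hdc⟩ := hDsyl.exists_conj
    (X := C.map (MulAut.conj h).toMonoidHom) (by rintro _ ⟨c, hc, rfl⟩; exact hD c hc)
    (hCp.map _)
  have hd' : d ∈ (↑(C ⊔ M) : Set G) := hd
  rw [Subgroup.coe_mul_of_left_le_normalizer_right _ _ (hCG.trans hMn)] at hd'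
  obtain ⟨c₀, hc₀, k, hk, rfl⟩ := hd'
  rw [hM] at hk
  refine ⟨k, hk.1, hk.2, fun c hc => ?_⟩
  have := mul_mem (mul_mem (Subgroup.inv_mem _ hc₀) (hdc _ ⟨c, hc, rfl⟩)) hc₀
  rw [MulEquiv.coe_toMonoidHom, MulAut.conj_apply] at this
  convert this using 1
  group

theorem isNormalIn_subgroupSystem [Finite G] [Fact p.Prime] (S : Sylow p G) (H : Subgroup G)
    [H.Normal] :
    (fusionSystemOfSubgroup H ((S : Subgroup G) ⊓ H) inf_le_right).IsNormalIn
      (groupFusionSystem (S : Subgroup G)) p := by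
  obtain ⟨T, hT⟩ : ∃ T, T = (S : Subgroup G) ⊓ H := ⟨_, rfl⟩
  have hTS : (S : Subgroup G) ⊓ H ≤ S := inf_le_left
  refine ⟨⟨subgroupSystem_isSaturated S H, isSaturated_groupFusion S, ?_, ?_, ?_, ?_⟩, ?_⟩
  · rintro P φ ⟨hP, hφ, g, -, hg⟩
    exact ⟨hP.trans hTS, fun x => (hφ x).1, g, hg⟩
  · refine ⟨hTS, fun R hR φ hφ x => ⟨hφ.2.1 x, ?_⟩⟩
    obtain ⟨g, hg⟩ := hφ.2.2
    rw [hg]
    exact Subgroup.Normal.conj_mem inferInstance _ (hR x.2).2 g
  · intro P hPT φ hφ α hα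
    obtain ⟨-, hφT, h, hh, hhx⟩ := hφ
    obtain ⟨-, -, g, hg⟩ := (mem_autGroup_iff hTS).1 hα
    have hg' : ∀ v : ((S : Subgroup G) ⊓ H : Subgroup G), (α v : G) = g * v * g⁻¹ := hg
    refine ⟨(MulAut.conj (g * h * g⁻¹)).toMonoidHom.comp (Subgroup.subtype _),
      ⟨?_, ?_, g * h * g⁻¹, Subgroup.Normal.conj_mem inferInstance _ hh g, fun y => rfl⟩, ?_⟩
    · rintro _ ⟨v, -, rfl⟩
      exact Subtype.mem _
    · rintro ⟨_, v, hv, rfl⟩
      have h1 := hφT ⟨v, hv⟩
      show g * h * g⁻¹ * (α v : G) * (g * h * g⁻¹)⁻¹ ∈ _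
      have e : g * h * g⁻¹ * (α v : G) * (g * h * g⁻¹)⁻¹ = (α ⟨φ ⟨v, hv⟩, h1⟩ : G) := by
        rw [hg', hg']
        show _ = g * φ ⟨v, hv⟩ * g⁻¹
        rw [hhx]
        group
      rw [e]
      exact Subtype.mem _
    · intro x hφx hαx
      show g * h * g⁻¹ * (α ⟨x, hPT x.2⟩ : G) * (g * h * g⁻¹)⁻¹ = _
      rw [hg', hg']
      show _ = g * φ x * g⁻¹
      rw [hhx]
      group
  · intro P hP φ hφ
    obtain ⟨-, hφS, g, hg⟩ := hφ
    have htop := Sylow.normalizer_sup_eq_top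
      ((S.isPGroup'.comap_subtype (K := H)).toSylow
        (CfsgLib.Transfer.not_dvd_relIndex_of_normal S H))
    have hmem : g ∈ Subgroup.normalizer (((S : Subgroup G) ⊓ H : Subgroup G) : Set G) ⊔ H := by
      have e : (((S.isPGroup'.comap_subtype (K := H)).toSylow
        (CfsgLib.Transfer.not_dvd_relIndex_of_normal S H) : Sylow p H) : Subgroup H).map H.subtype =
          (S : Subgroup G) ⊓ H := Subgroup.subgroupOf_map_subtype _ _
      rw [e] at htop
      exact htop ▸ Subgroup.mem_top g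
    obtain ⟨n, hn, h, hh, rfl⟩ := Subgroup.mem_sup_of_normal_right.1 hmem
    refine ⟨((S : Subgroup G) ⊓ H).normalizerMonoidHom ⟨n, hn⟩,
      (mem_autGroup_iff hTS).2 ⟨hTS, fun x => hTS (Subtype.mem _), n, fun x => rfl⟩,
      (MulAut.conj h).toMonoidHom.comp P.subtype, ⟨hP, fun x => ?_, h, hh, fun x => rfl⟩,
      fun x hx => ?_⟩
    · show h * (x : G) * h⁻¹ ∈ (S : Subgroup G) ⊓ H
      refine (Subgroup.mem_normalizer_iff.1 hn _).2 ?_
      have e : φ x = n * (h * x * h⁻¹) * n⁻¹ := by rw [hg]; group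
      rw [← e]
      exact ⟨hφS x, by rw [hg]; exact Subgroup.Normal.conj_mem inferInstance _ (hP x.2).2 _⟩
    · show φ x = n * (h * (x : G) * h⁻¹) * n⁻¹
      rw [hg]
      group
  · intro α hα
    rw [← hT] at hTS
    obtain ⟨-, -, h, hh, hhx⟩ := (mem_autGroup_iff (le_refl _)).1 hα
    have hhx' : ∀ v : ((S : Subgroup G) ⊓ H : Subgroup G), (α v : G) = h * v * h⁻¹ := hhx
    have hhT : h ∈ Subgroup.normalizer (T : Set G) := hT ▸ mem_normalizer_inf_of_conj hhx'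
    obtain ⟨k, hk, hkc, hkC⟩ := exists_normalizing_centralizerIn S H hT hh hhT
    subst hT
    have hkT : ∀ v ∈ (S : Subgroup G) ⊓ H, k * h * v * (k * h)⁻¹ = h * v * h⁻¹ := fun v hv => by
      have h1 := Subgroup.mem_centralizer_iff.1 hkc _
        ((Subgroup.mem_normalizer_iff.1 hhT v).1 hv)
      calc k * h * v * (k * h)⁻¹ = k * (h * v * h⁻¹) * k⁻¹ := by group
        _ = _ := by rw [← h1]; group
    have hN : k * h ∈ Subgroup.normalizer
        ((((S : Subgroup G) ⊓ H) ⊔ centralizerIn (S : Subgroup G) ((S : Subgroup G) ⊓ H) :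
          Subgroup G) : Set G) := by
      refine mem_normalizer_of_conj_mem fun v hv => ?_
      have hle : ((S : Subgroup G) ⊓ H) ⊔ centralizerIn (S : Subgroup G) ((S : Subgroup G) ⊓ H) ≤
          (((S : Subgroup G) ⊓ H) ⊔ centralizerIn (S : Subgroup G) ((S : Subgroup G) ⊓ H)).comap
            (MulAut.conj (k * h)).toMonoidHom := sup_le
        (fun u hu => Subgroup.mem_sup_left (hkT u hu ▸
          (Subgroup.mem_normalizer_iff.1 hhT u).1 hu : (k * h * u * (k * h)⁻¹ : G) ∈ _))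
        fun u hu => Subgroup.mem_sup_right (hkC u hu)
      exact hle hv
    have hleS : ((S : Subgroup G) ⊓ H) ⊔ centralizerIn (S : Subgroup G) ((S : Subgroup G) ⊓ H) ≤ S :=
      sup_le hTS inf_le_left
    refine ⟨(((S : Subgroup G) ⊓ H) ⊔
        centralizerIn (S : Subgroup G) ((S : Subgroup G) ⊓ H)).normalizerMonoidHom ⟨k * h, hN⟩,
      (mem_autGroup_iff hleS).2 ⟨hleS, fun x => hleS (Subtype.mem _), k * h, fun x => rfl⟩,
      fun x => (hkT x x.2).trans (hhx' x).symm, fun c hc => ?_⟩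
    show (c : G)⁻¹ * (k * h * c * (k * h)⁻¹) ∈ _
    have hC := hkC c hc
    refine ⟨⟨mul_mem (Subgroup.inv_mem _ hc.1) hC.1, ?_⟩, mul_mem (Subgroup.inv_mem _ hc.2) hC.2⟩
    rw [show (c : G)⁻¹ * (k * h * c * (k * h)⁻¹) =
      ((c : G)⁻¹ * (k * h) * c) * (k * h)⁻¹ by group]
    refine mul_mem ?_ (Subgroup.inv_mem _ (mul_mem hk hh))
    have h' := Subgroup.Normal.conj_mem (inferInstance : H.Normal) _ (mul_mem hk hh) (c : G)⁻¹
    rwa [inv_inv] at h'

end CfsgLib.Fusion
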