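import Cfsg.Agent.Fusion.Invariant
import Cfsg.Agent.Fusion.NormalSubgroup
import Cfsg.Agent.Fusion.Induction
import Cfsg.Agent.Fusion.Realized
import Cfsg.Agent.LocalStructure.Elements
import Cfsg.Agent.PLocal.Cores

/-!
# Normal subsystems of constrained groups

If `G` is a finite group with `C_G(O_p(G)) ≤ O_p(G)` and `E` is a normal subsystem over `T` of
`F_S(G)`, then `E` is the system of exactly one normal subgroup of `G` with Sylow subgroup `T`.
-/

set_option autoImplicit false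

namespace CfsgLib.Fusion

open Cfsg Cfsg.FusionSystem

variable {G : Type*} [Group G] {p : ℕ}

/-- A conjugation between subgroups of `S` is a map of `F_S(G)`. -/
theorem conjHom_mem_group {S P : Subgroup G} (hP : P ≤ S) {g : G}
    (hg : ∀ x ∈ P, g * x * g⁻¹ ∈ S) : conjHom P g ∈ (groupFusionSystem S).Hom P :=
  ⟨hP, fun x => hg x x.2, g, fun _ => rfl⟩

/-- Elements of `S` conjugate into a strongly closed subgroup lie in it. -/
theorem conj_mem_of_stronglyClosed {S T : Subgroup G}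
    (hT : (groupFusionSystem S).StronglyClosed T) {g x : G} (hx : x ∈ T) (hgx : g * x * g⁻¹ ∈ S) :
    g * x * g⁻¹ ∈ T := by
  refine stronglyClosed_apply (x := (⟨x, Subgroup.mem_zpowers x⟩ : Subgroup.zpowers x)) hT
    (conjHom_mem_group (g := g) (Subgroup.zpowers_le.2 (hT.1 hx)) ?_) hx
  intro y hy
  obtain ⟨i, rfl⟩ := Subgroup.mem_zpowers_iff.1 hy
  rw [← conj_zpow]
  exact zpow_mem hgx i

/-- Conjugation by a normalizing element of `G` normalizes the automorphisms of an invariant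
subsystem. -/
theorem conj_mem_autGroup {S T V : Subgroup G} {E : FusionSystem T}
    (hsi : StronglyInvariant E (groupFusionSystem S)) (hTS : T ≤ S) (hVT : V ≤ T) {g : G}
    (hg : g ∈ Subgroup.normalizer (V : Set G)) {α : MulAut V} (hα : α ∈ E.autGroup V) :
    V.normalizerMonoidHom ⟨g, hg⟩ * α * (V.normalizerMonoidHom ⟨g, hg⟩)⁻¹ ∈ E.autGroup V := by
  have hIα := (mem_autGroup_iff hVT).1 hα
  set γ := V.normalizerMonoidHom ⟨g, hg⟩ with hγ
  have hψ : conjHom V g ∈ (groupFusionSystem S).Hom V :=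
    conjHom_mem_group (hVT.trans hTS) fun x hx =>
      hTS (hVT ((Subgroup.mem_normalizer_iff.1 hg x).1 hx))
  obtain ⟨χ, hχ, hχv⟩ := hsi V V le_rfl hVT _ hIα (fun x => (α x).2) (conjHom V g) hψ
  have hle : V ≤ (V.subgroupOf V).map (conjHom V g) := fun x hx =>
    ⟨⟨g⁻¹ * x * g, (Subgroup.mem_normalizer_iff''.1 hg x).1 hx⟩,
      (Subgroup.mem_normalizer_iff''.1 hg x).1 hx,
      show g * (g⁻¹ * x * g) * g⁻¹ = x by group⟩
  refine mem_autGroup_of_le_of_eq hVT (restrict_mem hχ hle) fun x => ?_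
  rw [restrictHom_apply]
  obtain ⟨y, rfl⟩ : ∃ y, γ y = x := ⟨γ.symm x, γ.apply_symm_apply x⟩
  rw [show (γ * α * γ⁻¹) (γ y) = γ (α y) by simp]
  exact (hχv y _).symm

/-- The elements of `G` acting trivially on `Q` modulo a normal subgroup `R`. -/
def stabMod (Q R : Subgroup G) [R.Normal] : Subgroup G :=
  (Subgroup.centralizer (Q.map (QuotientGroup.mk' R) : Set (G ⧸ R))).comap (QuotientGroup.mk' R)

instance stabMod_normal (Q R : Subgroup G) [Q.Normal] [R.Normal] : (stabMod Q R).Normal :=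
  haveI : (Q.map (QuotientGroup.mk' R)).Normal :=
    Subgroup.Normal.map inferInstance _ (QuotientGroup.mk'_surjective R)
  Subgroup.Normal.comap inferInstance _

theorem mem_stabMod_iff {Q R : Subgroup G} [R.Normal] {g : G} :
    g ∈ stabMod Q R ↔ ∀ q ∈ Q, g * q * g⁻¹ * q⁻¹ ∈ R := by
  have key : ∀ q : G, g * q * g⁻¹ * q⁻¹ ∈ R ↔
      QuotientGroup.mk' R q * QuotientGroup.mk' R g = QuotientGroup.mk' R g * QuotientGroup.mk' R q := by
    intro q
    rw [← QuotientGroup.eq_one_iff, ← QuotientGroup.mk'_apply, map_mul, map_mul, map_mul, map_inv,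
      map_inv, mul_inv_eq_one, mul_inv_eq_iff_eq_mul, eq_comm]
  rw [stabMod, Subgroup.mem_comap, Subgroup.mem_centralizer_iff]
  constructor
  · exact fun h q hq => (key q).2 (h _ ⟨q, hq, rfl⟩)
  · rintro h _ ⟨q, hq, rfl⟩
    exact (key q).1 (h q hq)

/-- Coprime stability: if `x` is a commutator of `g` fixed by `g` modulo `R` and `g` is of order
prime to `p`, then `x ∈ R` for a `p`-element `x`. -/
theorem mem_of_coprime_stab {R : Subgroup G} [R.Normal] {g q : G}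
    (hg : (orderOf g).Coprime p) (hx : ∃ k : ℕ, (g * q * g⁻¹ * q⁻¹) ^ p ^ k = 1)
    (hfix : g * (g * q * g⁻¹ * q⁻¹) * g⁻¹ * (g * q * g⁻¹ * q⁻¹)⁻¹ ∈ R) :
    g * q * g⁻¹ * q⁻¹ ∈ R := by
  set π := QuotientGroup.mk' R with hπ
  obtain ⟨k, hk⟩ := hx
  have hfix' : π g * π (g * q * g⁻¹ * q⁻¹) * (π g)⁻¹ = π (g * q * g⁻¹ * q⁻¹) := by
    have h1 : π (g * (g * q * g⁻¹ * q⁻¹) * g⁻¹ * (g * q * g⁻¹ * q⁻¹)⁻¹) = 1 :=
      (QuotientGroup.eq_one_iff _).2 hfix
    rwa [map_mul π (g * (g * q * g⁻¹ * q⁻¹) * g⁻¹), map_mul π (g * (g * q * g⁻¹ * q⁻¹)),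
      map_mul π g, map_inv π, map_inv π, mul_inv_eq_one] at h1
  have hq : π g * π q * (π g)⁻¹ = π (g * q * g⁻¹ * q⁻¹) * π q := by
    rw [← map_inv, ← map_mul, ← map_mul, ← map_mul, inv_mul_cancel_right]
  set a := π g with ha
  set b := π (g * q * g⁻¹ * q⁻¹) with hb
  set c := π q with hc
  have hab : Commute a b := mul_inv_eq_iff_eq_mul.1 hfix'
  have key : ∀ n : ℕ, a ^ n * c * (a ^ n)⁻¹ = b ^ n * c := by
    intro n
    induction n with
    | zero => simp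
    | succ n ih =>
      calc a ^ (n + 1) * c * (a ^ (n + 1))⁻¹ = a * (a ^ n * c * (a ^ n)⁻¹) * a⁻¹ := by
            rw [pow_succ']; group
        _ = a * b ^ n * a⁻¹ * (a * c * a⁻¹) := by rw [ih]; group
        _ = b ^ n * (b * c) := by rw [hq, (hab.pow_right n).eq, mul_inv_cancel_right]
        _ = b ^ (n + 1) * c := by rw [pow_succ, mul_assoc]
  have h1 := key (orderOf g)
  rw [ha, ← map_pow, pow_orderOf_eq_one, map_one, one_mul, inv_one, mul_one] at h1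
  have h2 : b ^ orderOf g = 1 := by
    conv_lhs at h1 => rw [← one_mul c]
    exact (mul_right_cancel h1).symm
  have h3 : b ^ p ^ k = 1 := by rw [hb, ← map_pow, hk, map_one]
  have h4 : orderOf b = 1 := Nat.eq_one_of_dvd_coprimes (hg.pow_right k)
    (orderOf_dvd_of_pow_eq_one h2) (orderOf_dvd_of_pow_eq_one h3)
  exact (QuotientGroup.eq_one_iff _).1 (orderOf_eq_one_iff.1 h4)

variable [Finite G] [Fact p.Prime] {T : Subgroup G}

/-- The elements of `G` inducing on `T` automorphisms of `E` and acting trivially on `C_S(T)`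
modulo `T`. -/
def normalCarrier (S : Subgroup G) (E : FusionSystem T) : Subgroup G where
  carrier := {g | ∃ hg : g ∈ Subgroup.normalizer (T : Set G),
    T.normalizerMonoidHom ⟨g, hg⟩ ∈ E.autGroup T ∧
      ∀ c ∈ centralizerIn S T, g * c * g⁻¹ * c⁻¹ ∈ T}
  one_mem' := ⟨one_mem _, by
    rw [show (⟨1, one_mem _⟩ : Subgroup.normalizer (T : Set G)) = 1 from rfl, map_one]
    exact one_mem _, fun c _ => by simp⟩
  mul_mem' := by
    rintro a b ⟨ha, ha', ha''⟩ ⟨hb, hb', hb''⟩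
    refine ⟨mul_mem ha hb, ?_, fun c hc => ?_⟩
    · rw [show (⟨a * b, mul_mem ha hb⟩ : Subgroup.normalizer (T : Set G)) = ⟨a, ha⟩ * ⟨b, hb⟩ from
        rfl, map_mul]
      exact mul_mem ha' hb'
    · rw [show a * b * c * (a * b)⁻¹ * c⁻¹ =
        (a * (b * c * b⁻¹ * c⁻¹) * a⁻¹) * (a * c * a⁻¹ * c⁻¹) by group]
      exact mul_mem ((Subgroup.mem_normalizer_iff.1 ha _).1 (hb'' c hc)) (ha'' c hc)
  inv_mem' := by
    rintro a ⟨ha, ha', ha''⟩
    refine ⟨inv_mem ha, ?_, fun c hc => ?_⟩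
    · rw [show (⟨a⁻¹, inv_mem ha⟩ : Subgroup.normalizer (T : Set G)) = ⟨a, ha⟩⁻¹ from rfl, map_inv]
      exact inv_mem ha'
    · rw [show a⁻¹ * c * a⁻¹⁻¹ * c⁻¹ = a⁻¹ * (a * c * a⁻¹ * c⁻¹)⁻¹ * a by group]
      exact (Subgroup.mem_normalizer_iff''.1 ha _).1 (inv_mem (ha'' c hc))

/-- Existence and uniqueness of the normal subgroup carrying a normal subsystem. -/
theorem existsUnique_normal_subgroup (S : Sylow p G)
    (hG : Subgroup.centralizer ((pCore p G : Subgroup G) : Set G) ≤ pCore p G) (hTS : T ≤ S)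
    (E : FusionSystem T) (hE : E.IsNormalIn (groupFusionSystem (S : Subgroup G)) p) :
    ∃ H : Subgroup G, (∃ hTH : T ≤ H, H.Normal ∧
        (∃ R : Sylow p H, (R : Subgroup H) = T.subgroupOf H) ∧
        ∀ P : Subgroup G, E.Hom P = (fusionSystemOfSubgroup H T hTH).Hom P) ∧
      ∀ H' : Subgroup G, (∃ hTH' : T ≤ H', H'.Normal ∧
        (∃ R : Sylow p H', (R : Subgroup H') = T.subgroupOf H') ∧
        ∀ P : Subgroup G, E.Hom P = (fusionSystemOfSubgroup H' T hTH').Hom P) → H' = H := by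
  classical
  obtain ⟨⟨hEsat, -, hinv⟩, hext⟩ := hE
  have hsub := hinv.1
  have hsc := hinv.2.1
  have hsi := strongInvariant_of_invariant hinv
  have hTp : IsPGroup p T := S.2.to_le hTS
  obtain ⟨Q, hQ⟩ : ∃ Q, Q = pCore p G := ⟨_, rfl⟩
  haveI hQn : Q.Normal := hQ ▸ inferInstanceAs (pCore p G).Normal
  have hQp : IsPGroup p Q := hQ ▸ PLocal.isPGroup_pCore p G
  have hQS : Q ≤ S := hQ ▸ PLocal.pCore_le_sylow S
  rw [← hQ] at hG
  have hST : ∀ s ∈ (S : Subgroup G), ∀ t ∈ T, s * t * s⁻¹ ∈ T := fun s hs t ht =>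
    conj_mem_of_stronglyClosed hsc ht (mul_mem (mul_mem hs (hTS ht)) (inv_mem hs))
  obtain ⟨R, hR⟩ : ∃ R, R = Q ⊓ T := ⟨_, rfl⟩
  have hRT : R ≤ T := hR ▸ inf_le_right
  have hRQ : R ≤ Q := hR ▸ inf_le_left
  have hRS : R ≤ (S : Subgroup G) := hRT.trans hTS
  haveI hRn : R.Normal := ⟨fun x hx g => by
    have h1 := hQn.conj_mem x (hRQ hx) g
    rw [hR]
    exact ⟨h1, conj_mem_of_stronglyClosed hsc (hRT hx) (hQS h1)⟩⟩
  set ρ : G →* MulAut R := MulAut.conjNormal with hρ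
  have hρv : ∀ (g : G) (x : R), ((ρ g x : R) : G) = g * x * g⁻¹ := fun g x =>
    MulAut.conjNormal_apply g x
  obtain ⟨A, hA⟩ : ∃ A, A = E.autGroup R := ⟨_, rfl⟩
  haveI hAn : (A.comap ρ).Normal := ⟨fun a ha g => by
    have hgN : g ∈ Subgroup.normalizer (R : Set G) := by
      rw [Subgroup.normalizer_eq_top]; trivial
    have h1 := conj_mem_autGroup hsi hTS hRT hgN (α := ρ a) (hA ▸ ha)
    have e : R.normalizerMonoidHom ⟨g, hgN⟩ = ρ g := MulEquiv.ext fun x => Subtype.ext (hρv g x).symm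
    rw [Subgroup.mem_comap, map_mul, map_mul, map_inv, hA]
    rwa [e] at h1⟩
  obtain ⟨H2, hH2⟩ : ∃ H2, H2 = A.comap ρ ⊓ stabMod Q R := ⟨_, rfl⟩
  haveI hH2n : H2.Normal := hH2 ▸ inferInstance
  obtain ⟨D, hD⟩ : ∃ D, D = ρ.ker ⊓ stabMod Q R := ⟨_, rfl⟩
  haveI hDn : D.Normal := hD ▸ inferInstance
  have hDH2 : D ≤ H2 := by
    rw [hD, hH2]
    exact inf_le_inf_right _ fun g hg => by
      rw [Subgroup.mem_comap, MonoidHom.mem_ker.1 hg]; exact one_mem _
  -- elements fixing `R` and `Q` modulo `R` form a normal `p`-subgroup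
  have hDQ : D ≤ Q := by
    rw [hQ]
    refine PLocal.le_pCore (IsPGroup.iff_orderOf.2 fun d => ?_)
    obtain ⟨a, b, ha, hb, ⟨k, hk⟩, hbp, hab⟩ := LocalStructure.exists_pPart_mul (p := p) (d : G)
    have hbD : b ∈ D := (Subgroup.zpowers_le.2 d.2) hb
    rw [hD] at hbD
    obtain ⟨hbk, hbs⟩ := hbD
    have hbR : ∀ r ∈ R, b * r * b⁻¹ = r := fun r hr => by
      have h1 := hρv b ⟨r, hr⟩
      rw [MonoidHom.mem_ker.1 hbk] at h1
      exact h1.symm
    have hbQ : b ∈ Q := by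
      refine hG (Subgroup.mem_centralizer_iff.2 fun q hq => ?_)
      have hx := mem_stabMod_iff.1 hbs q hq
      obtain ⟨j, hj⟩ := hQp ⟨_, hRQ hx⟩
      haveI : (⊥ : Subgroup G).Normal := inferInstance
      have h0 := mem_of_coprime_stab (R := (⊥ : Subgroup G)) hbp ⟨j, congrArg Subtype.val hj⟩
        (Subgroup.mem_bot.2 (by rw [hbR _ hx, mul_inv_cancel]))
      rw [Subgroup.mem_bot, mul_inv_eq_one, mul_inv_eq_iff_eq_mul] at h0
      exact h0.symm
    have hb1 := LocalStructure.eq_one_of_coprime_of_mem hQp hbQ hbp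
    exact ⟨k, by rw [← Subgroup.orderOf_coe, ← hab, hb1, mul_one, hk]⟩
  have hDR : D ⊓ T ≤ R := hR ▸ inf_le_inf_right T hDQ
  -- the automorphisms of `R` in `E`
  have hRconj : ∀ R' : Subgroup G, E.IsConj R R' → R' = R := by
    rintro R' ⟨φ, hφ, rfl⟩
    obtain ⟨-, -, g, hg⟩ := hsub R hφ
    refine Subgroup.eq_of_le_of_card_ge ?_ ?_
    · rintro _ ⟨x, rfl⟩
      rw [hg]
      exact hRn.conj_mem x x.2 g
    · rw [Nat.card_congr (MonoidHom.ofInjective (E.injective_of_mem hφ)).toEquiv]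
  have hRfn : E.IsFullyNormalized R := ⟨hRT, fun R' h => by rw [hRconj R' h]⟩
  obtain ⟨hRa, hRr⟩ := automized_receptive hTp hEsat hRfn
  have hS2 : ∀ s ∈ (S : Subgroup G) ⊓ H2, ∃ t ∈ T, t⁻¹ * s ∈ D := by
    intro s hs
    obtain ⟨hsS, hs2⟩ := hs
    rw [hH2] at hs2
    have hX : autInducedBy (S : Subgroup G) R ⊓ A = autInducedBy T R :=
      eq_autInducedBy_of_le hRa (hA ▸ inf_le_right)
        ((isPGroup_autInducedBy S.2 R).to_le inf_le_left)
        (le_inf (autInducedBy_mono hTS R) (hA ▸ autInducedBy_le_autGroup hRT))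
    have hmem : ρ s ∈ autInducedBy T R :=
      hX ▸ ⟨Subgroup.subset_closure ⟨s, hsS, hρv s⟩, hs2.1⟩
    obtain ⟨t, ht, -, htv⟩ := mem_autInducedBy_iff.1 hmem
    have htρ : ρ t = ρ s := MulEquiv.ext fun x => Subtype.ext (by rw [hρv, htv])
    have htk : t ∈ stabMod Q R := mem_stabMod_iff.2 fun q hq => by
      rw [hR]
      refine Subgroup.mem_inf.2 ⟨mul_mem (hQn.conj_mem q hq t) (inv_mem hq), ?_⟩
      rw [show t * q * t⁻¹ * q⁻¹ = t * (q * t⁻¹ * q⁻¹) by group]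
      exact mul_mem ht (hST q (hQS hq) _ (inv_mem ht))
    refine ⟨t, ht, ?_⟩
    rw [hD]
    exact Subgroup.mem_inf.2 ⟨MonoidHom.mem_ker.2 (by rw [map_mul, map_inv, htρ, inv_mul_cancel]),
      mul_mem (inv_mem htk) hs2.2⟩
  have hTH2 : T ≤ H2 := by
    intro t ht
    rw [hH2]
    refine ⟨?_, mem_stabMod_iff.2 fun q hq => ?_⟩
    · show ρ t ∈ A
      rw [hA]
      exact autInducedBy_le_autGroup hRT (Subgroup.subset_closure ⟨t, ht, hρv t⟩)
    · rw [hR]
      refine Subgroup.mem_inf.2 ⟨mul_mem (hQn.conj_mem q hq t) (inv_mem hq), ?_⟩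
      rw [show t * q * t⁻¹ * q⁻¹ = t * (q * t⁻¹ * q⁻¹) by group]
      exact mul_mem ht (hST q (hQS hq) _ (inv_mem ht))
  -- the transfer
  obtain ⟨P2, hP2⟩ : ∃ P2 : Subgroup H2, P2 = (S : Subgroup G).subgroupOf H2 := ⟨_, rfl⟩
  have hP2p : IsPGroup p P2 := hP2 ▸ S.2.comap_subtype
  obtain ⟨P2', hP2'⟩ : ∃ P' : Sylow p H2, (P' : Subgroup H2) = P2 := by
    obtain ⟨R', hR'⟩ := (isSylowIn_top S).inf_normal le_top (C := H2) le_top
      (by rw [Subgroup.normalizer_eq_top])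
    exact ⟨R', by rw [hR', hP2, Subgroup.inf_subgroupOf_right]⟩
  have hidx : P2.index.Coprime p :=
    (PLocal.not_dvd_iff_coprime).2 (hP2' ▸ P2'.not_dvd_index)
  obtain ⟨N, hN⟩ : ∃ N : Subgroup P2, N = (T.subgroupOf H2).subgroupOf P2 := ⟨_, rfl⟩
  have hmemN : ∀ a : P2, a ∈ N ↔ ((a : H2) : G) ∈ T := fun a => by rw [hN]; rfl
  have hP2S : ∀ a : P2, ((a : H2) : G) ∈ (S : Subgroup G) := fun a => by
    exact Subgroup.mem_subgroupOf.1 (hP2.le a.2)
  haveI hNn : N.Normal := ⟨fun a ha b => by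
    rw [hmemN] at ha ⊢
    exact hST _ (hP2S b) _ ha⟩
  let π := QuotientGroup.mk' N
  have hcomm : ∀ a b : P2, π a * π b = π b * π a := by
    intro a b
    obtain ⟨t, ht, hd⟩ := hS2 _ ⟨hP2S a, (a : H2).2⟩
    obtain ⟨t', ht', hd'⟩ := hS2 _ ⟨hP2S b, (b : H2).2⟩
    have hd1 : (⟨t⁻¹ * ((a : H2) : G), hDH2 hd⟩ : H2) ∈ P2 := by
      exact hP2.ge (Subgroup.mem_subgroupOf.2 (mul_mem (inv_mem (hTS ht)) (hP2S a)))
    have hd2 : (⟨t'⁻¹ * ((b : H2) : G), hDH2 hd'⟩ : H2) ∈ P2 := by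
      exact hP2.ge (Subgroup.mem_subgroupOf.2 (mul_mem (inv_mem (hTS ht')) (hP2S b)))
    set a' : P2 := ⟨_, hd1⟩ with ha'
    set b' : P2 := ⟨_, hd2⟩ with hb'
    have ea : π a = π a' := QuotientGroup.eq.2 ((hmemN _).2 (by
      show ((a : H2) : G)⁻¹ * (t⁻¹ * ((a : H2) : G)) ∈ T
      simpa [mul_assoc] using hST _ (inv_mem (hP2S a)) _ (inv_mem ht)))
    have eb : π b = π b' := QuotientGroup.eq.2 ((hmemN _).2 (by
      show ((b : H2) : G)⁻¹ * (t'⁻¹ * ((b : H2) : G)) ∈ T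
      simpa [mul_assoc] using hST _ (inv_mem (hP2S b)) _ (inv_mem ht')))
    rw [ea, eb]
    have hdk := hd'
    rw [hD] at hdk
    have hc : b' * a' * b'⁻¹ * a'⁻¹ ∈ N :=
      (hmemN _).2 (hRT (mem_stabMod_iff.1 hdk.2 _ (hDQ hd)))
    have h1 : π (b' * a' * b'⁻¹ * a'⁻¹) = 1 := (QuotientGroup.eq_one_iff _).2 hc
    rw [map_mul, map_mul, map_mul, map_inv, map_inv, mul_inv_eq_one, mul_inv_eq_iff_eq_mul] at h1
    exact h1.symm
  letI : CommGroup (P2 ⧸ N) :=
    { (inferInstance : Group (P2 ⧸ N)) with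
      mul_comm := fun x y => by
        obtain ⟨a, rfl⟩ := QuotientGroup.mk'_surjective N x
        obtain ⟨b, rfl⟩ := QuotientGroup.mk'_surjective N y
        exact hcomm a b }
  let φ : P2 →* P2 ⧸ N := QuotientGroup.mk' N
  let τ : H2 →* P2 ⧸ N := MonoidHom.transfer φ
  obtain ⟨K, hK⟩ : ∃ K, K = τ.ker.map H2.subtype := ⟨_, rfl⟩
  have hKH2 : K ≤ H2 := hK ▸ Subgroup.map_subtype_le _
  have hmemK : ∀ (x : G) (hx : x ∈ H2), x ∈ K ↔ τ ⟨x, hx⟩ = 1 := fun x hx => by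
    rw [hK]
    exact Subgroup.mem_map_iff_mem H2.subtype_injective (x := ⟨x, hx⟩)
  have hKcop : ∀ x ∈ H2, (orderOf x).Coprime p → x ∈ K := by
    intro x hx hc
    rw [hmemK x hx]
    refine LocalStructure.eq_one_of_coprime_of_mem (P := ⊤)
      ((hP2p.to_quotient N).to_subgroup ⊤) (Subgroup.mem_top _) (hc.coprime_dvd_left ?_)
    refine (orderOf_map_dvd τ _).trans ?_
    rw [← Subgroup.orderOf_coe]
  have hKT : T ≤ K := by
    intro t ht
    rw [hmemK t (hTH2 ht)]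
    show MonoidHom.transfer φ _ = 1
    have := P2.fintypeQuotientOfFiniteIndex
    have : Fintype (Quotient (MulAction.orbitRel
      (Subgroup.zpowers (⟨t, hTH2 ht⟩ : H2)) (H2 ⧸ P2))) := Fintype.ofFinite _
    rw [MonoidHom.transfer_eq_prod_quotient_orbitRel_zpowers_quot]
    refine Finset.prod_eq_one fun q _ => ?_
    refine (QuotientGroup.eq_one_iff _).2 ((hmemN _).2 ?_)
    have hmem := Subgroup.mem_subgroupOf.1
      (hP2.le (QuotientGroup.out_conj_pow_minimalPeriod_mem P2 (⟨t, hTH2 ht⟩ : H2) q.out))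
    simp only [Subgroup.coe_mul, SubmonoidClass.coe_pow, InvMemClass.coe_inv] at hmem ⊢
    have h1 := conj_mem_of_stronglyClosed hsc (g := (((q.out).out : H2) : G)⁻¹)
      (pow_mem ht _) (by rw [inv_inv]; exact hmem)
    simpa using h1
  have hKconj : ∀ t ∈ T, ∀ g : G, g * t * g⁻¹ ∈ K := by
    intro t ht g
    have h2 : g * t * g⁻¹ ∈ H2 := hH2n.conj_mem t (hTH2 ht) g
    have hp : IsPGroup p (Subgroup.zpowers (g * t * g⁻¹)) := by
      have : Subgroup.zpowers (g * t * g⁻¹) =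
          (Subgroup.zpowers t).map (MulAut.conj g).toMonoidHom := by
        rw [MonoidHom.map_zpowers]; rfl
      exact this ▸ (hTp.to_le (Subgroup.zpowers_le.2 ht)).map _
    obtain ⟨a, ha⟩ := exists_conj_mem_sylow P2' (X := (Subgroup.zpowers (g * t * g⁻¹)).subgroupOf H2)
      hp.comap_subtype
    have h3 := ha ⟨_, h2⟩ (Subgroup.mem_zpowers _)
    rw [hP2', hP2, Subgroup.mem_subgroupOf, Subgroup.coe_mul, Subgroup.coe_mul,
      Subgroup.coe_inv] at h3
    have e : (a : G) * (g * t * g⁻¹) * (a : G)⁻¹ = (a * g) * t * (a * g)⁻¹ := by group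
    rw [e] at h3
    have h4 := conj_mem_of_stronglyClosed hsc ht h3
    rw [← e] at h4
    rw [hmemK _ h2]
    have h5 := (hmemK _ (hTH2 h4)).1 (hKT h4)
    rw [show (⟨_, hTH2 h4⟩ : H2) = a * ⟨_, h2⟩ * a⁻¹ from rfl, map_mul, map_mul, map_inv,
      mul_comm (τ a), mul_inv_cancel_right] at h5
    exact h5
  have hDK : D ⊓ K ≤ R := by
    rintro d ⟨hd, hdK⟩
    refine hDR ⟨hd, ?_⟩
    obtain ⟨d2, hd2⟩ : ∃ d2 : H2, d2 = ⟨d, hDH2 hd⟩ := ⟨_, rfl⟩
    have hdP : d2 ∈ P2 := hP2.ge (Subgroup.mem_subgroupOf.2 (by rw [hd2]; exact hQS (hDQ hd)))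
    have hfix : ∀ x : H2 ⧸ P2, d2 • x = x := by
      intro x
      induction x using QuotientGroup.induction_on with
      | H o =>
        show ((d2 * o : H2) : H2 ⧸ P2) = (o : H2 ⧸ P2)
        refine QuotientGroup.eq.2 ?_
        refine hP2.ge (Subgroup.mem_subgroupOf.2 ?_)
        rw [hd2]
        have h1 : (o : G)⁻¹ * d⁻¹ * (o : G) ∈ (S : Subgroup G) := hQS (hDQ (by
          simpa using hDn.conj_mem _ (inv_mem hd) (o : G)⁻¹))
        simpa [mul_assoc] using h1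
    have hper : ∀ x : H2 ⧸ P2, Function.minimalPeriod (d2 • ·) x = 1 := fun x =>
      Function.minimalPeriod_eq_one_iff_isFixedPt.2 (hfix x)
    have h1 := (hmemK d (hDH2 hd)).1 hdK
    have h1' : MonoidHom.transfer φ d2 = 1 := hd2.symm ▸ h1
    letI : Fintype (H2 ⧸ P2) := P2.fintypeQuotientOfFiniteIndex
    letI : Fintype (Quotient (MulAction.orbitRel (Subgroup.zpowers d2) (H2 ⧸ P2))) :=
      Fintype.ofFinite _
    rw [MonoidHom.transfer_eq_prod_quotient_orbitRel_zpowers_quot,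
      Finset.prod_congr rfl (g := fun _ => φ ⟨d2, hdP⟩) (fun q _ => ?_),
      Finset.prod_const, Finset.card_univ] at h1'
    · have hcard : Fintype.card (Quotient (MulAction.orbitRel (Subgroup.zpowers d2) (H2 ⧸ P2))) =
          P2.index := by
        rw [Subgroup.index_eq_sum_minimalPeriod P2 d2]
        simp [hper]
      rw [hcard] at h1'
      obtain ⟨k, hk⟩ := hP2p.to_quotient N (φ ⟨d2, hdP⟩)
      have h2 : orderOf (φ ⟨d2, hdP⟩) = 1 := Nat.eq_one_of_dvd_coprimes (hidx.pow_right k)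
        (orderOf_dvd_of_pow_eq_one h1') (orderOf_dvd_of_pow_eq_one hk)
      have h3 := (hmemN _).1 ((QuotientGroup.eq_one_iff _).1 (orderOf_eq_one_iff.1 h2))
      subst hd2
      exact h3
    · refine QuotientGroup.eq.2 ((hmemN _).2 ?_)
      simp only [hper, pow_one]
      simp only [Subgroup.coe_mul, InvMemClass.coe_inv, hd2]
      set o := ((q.out).out : H2) with ho
      have hoS : (o : G) ∈ stabMod Q R := by
        exact (Subgroup.mem_inf.1 (hH2.le o.2)).2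
      have h2 := inv_mem (mem_stabMod_iff.1 (inv_mem hoS) d (hDQ hd))
      refine hRT ?_
      have h3 := hRn.conj_mem _ h2 d⁻¹
      simpa [mul_assoc] using h3
  -- the subgroup
  obtain ⟨gens, hgens⟩ : ∃ s : Set G, s = (T : Set G) ∪
      {g | g ∈ normalCarrier (S : Subgroup G) E ∧ (orderOf g).Coprime p} := ⟨_, rfl⟩
  have hgensH2 : ∀ g ∈ gens, g ∈ H2 := by
    rw [hgens]
    rintro g (hg | ⟨⟨hgN, hgA, hgC⟩, hgp⟩)
    · exact hTH2 hg
    rw [hH2]
    refine ⟨?_, mem_stabMod_iff.2 fun q hq => ?_⟩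
    · show ρ g ∈ A
      rw [hA]
      exact mem_autGroup_of_le_of_eq hRT (restrict_mem ((mem_autGroup_iff le_rfl).1 hgA) hRT)
        fun x => hρv g x
    · set x := g * q * g⁻¹ * q⁻¹ with hx
      have hxQ : x ∈ Q := mul_mem (hQn.conj_mem q hq g) (inv_mem hq)
      have hqN : q ∈ Subgroup.normalizer (T : Set G) :=
        mem_normalizer_of_conj_mem fun t ht => hST q (hQS hq) t ht
      have hxN : x ∈ Subgroup.normalizer (T : Set G) :=
        mem_normalizer_of_conj_mem fun t ht => hST x (hQS hxQ) t ht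
      have hxA : T.normalizerMonoidHom ⟨x, hxN⟩ ∈ E.autGroup T := by
        have h1 := conj_mem_autGroup hsi hTS le_rfl hqN (inv_mem hgA)
        have h2 := mul_mem hgA h1
        have e : (⟨x, hxN⟩ : Subgroup.normalizer (T : Set G)) =
            ⟨g, hgN⟩ * (⟨q, hqN⟩ * ⟨g, hgN⟩⁻¹ * ⟨q, hqN⟩⁻¹) := Subtype.ext (by
          show x = g * (q * g⁻¹ * q⁻¹)
          rw [hx]; group)
        rwa [e, map_mul, map_mul, map_mul, map_inv, map_inv]
      have hXeq : autInducedBy (S : Subgroup G) T ⊓ E.autGroup T = autInducedBy T T :=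
        eq_autInducedBy_of_le (automized_receptive hTp hEsat isFullyNormalized_self).1
          inf_le_right ((isPGroup_autInducedBy S.2 T).to_le inf_le_left)
          (le_inf (autInducedBy_mono hTS T) (autInducedBy_le_autGroup le_rfl))
      obtain ⟨t, ht, -, htv⟩ := mem_autInducedBy_iff.1 (hXeq.le
        (Subgroup.mem_inf.2 ⟨Subgroup.subset_closure ⟨x, hQS hxQ, fun _ => rfl⟩, hxA⟩ :
          T.normalizerMonoidHom ⟨x, hxN⟩ ∈ autInducedBy (S : Subgroup G) T ⊓ E.autGroup T))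
      have hc : t⁻¹ * x ∈ centralizerIn (S : Subgroup G) T :=
        mem_centralizerIn'.2 ⟨mul_mem (inv_mem (hTS ht)) (hQS hxQ), fun y hy => by
          have h1 : x * y * x⁻¹ = t * y * t⁻¹ := htv ⟨y, hy⟩
          calc (t⁻¹ * x) * y * (t⁻¹ * x)⁻¹ = t⁻¹ * (x * y * x⁻¹) * t := by group
            _ = y := by rw [h1]; group⟩
      have h1 := hgC _ hc
      have h2 : g * x * g⁻¹ * x⁻¹ ∈ T := by
        rw [show g * x * g⁻¹ * x⁻¹ =
          (g * t * g⁻¹) * (g * (t⁻¹ * x) * g⁻¹ * (t⁻¹ * x)⁻¹) * t⁻¹ by group]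
        exact mul_mem (mul_mem ((Subgroup.mem_normalizer_iff.1 hgN t).1 ht) h1) (inv_mem ht)
      obtain ⟨j, hj⟩ := hQp ⟨x, hxQ⟩
      exact mem_of_coprime_stab hgp ⟨j, congrArg Subtype.val hj⟩
        (hR.ge (Subgroup.mem_inf.2 ⟨mul_mem (hQn.conj_mem x hxQ g) (inv_mem hxQ), h2⟩))
  obtain ⟨H, hH⟩ : ∃ H, H = Subgroup.normalClosure gens := ⟨_, rfl⟩
  haveI hHn : H.Normal := hH ▸ Subgroup.normalClosure_normal
  have hgH : ∀ g ∈ gens, g ∈ H := fun g hg => hH ▸ Subgroup.subset_normalClosure hg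
  have hTH : T ≤ H := fun t ht => hgH t (hgens ▸ Or.inl ht)
  have hHH2 : H ≤ H2 := hH ▸ Subgroup.normalClosure_le_normal hgensH2
  have hHK : H ≤ K := by
    rw [hH]
    refine (Subgroup.closure_le _).2 fun x hx => ?_
    obtain ⟨y, hy, hc⟩ := Group.mem_conjugatesOfSet_iff.1 hx
    obtain ⟨g, rfl⟩ := _root_.isConj_iff.1 hc
    rw [hgens] at hy
    rcases hy with hy | ⟨hy1, hy2⟩
    · exact hKconj y hy g
    · exact hKcop _ (hH2n.conj_mem y (hgensH2 y (hgens ▸ Or.inr ⟨hy1, hy2⟩)) g)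
        (by rwa [← MulAut.conj_apply, MulEquiv.orderOf_eq])
  have hHS : H ⊓ (S : Subgroup G) ≤ T := by
    rintro s ⟨hsH, hsS⟩
    obtain ⟨t, ht, hd⟩ := hS2 s ⟨hsS, hHH2 hsH⟩
    have h1 := hDK (Subgroup.mem_inf.2 ⟨hd, mul_mem (inv_mem (hKT ht)) (hHK hsH)⟩)
    simpa using mul_mem ht (hRT h1)
  have hHsyl : ∃ R' : Sylow p H, (R' : Subgroup H) = T.subgroupOf H := by
    obtain ⟨R', hR'⟩ := (isSylowIn_top S).inf_normal le_top (C := H) le_top
      (by rw [Subgroup.normalizer_eq_top])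
    refine ⟨R', hR'.trans (congrArg (fun V => Subgroup.subgroupOf V H) ?_)⟩
    exact le_antisymm (fun x hx => hHS ⟨hx.2, hx.1⟩) (le_inf hTS hTH)
  -- `E` is contained in the system of `H`
  have hEle : E ≤ fusionSystemOfSubgroup H T hTH := by
    refine le_of_step hTp hEsat fun P hP IH α hα => ?_
    suffices h : α ∈ autInducedBy H P by
      obtain ⟨g, hg, -, hgv⟩ := mem_autInducedBy_iff.1 h
      exact (mem_autGroup_iff hP.1).2 ⟨hP.1, fun x => hP.1 (α x).2, g, hg, hgv⟩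
    rcases eq_or_lt_of_le hP.1 with rfl | hlt
    · obtain ⟨β, hβ, hβT, hβC⟩ := hext α hα
      obtain ⟨-, -, g, hg⟩ := (mem_autGroup_iff (sup_le hTS (centralizerIn_le _ _))).1 hβ
      have hgT : ∀ x : P, g * (x : G) * g⁻¹ = α x := fun x => by
        rw [← hβT x]; exact (hg (Subgroup.inclusion le_sup_left x)).symm
      have hgN : g ∈ Subgroup.normalizer (P : Set G) :=
        mem_normalizer_of_conj_mem fun t ht => by
          have h1 := hgT ⟨t, ht⟩; rw [show g * t * g⁻¹ = _ from h1]; exact (α _).2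
      have hgρ : P.normalizerMonoidHom ⟨g, hgN⟩ = α :=
        MulEquiv.ext fun x => Subtype.ext (hgT x)
      have hgM : g ∈ normalCarrier (S : Subgroup G) E := ⟨hgN, hgρ.symm ▸ hα, fun c hc => by
        have hcW : c ∈ P ⊔ centralizerIn (S : Subgroup G) P :=
          (le_sup_right : centralizerIn (S : Subgroup G) P ≤ _) hc
        have h1 := hβC ⟨c, hcW⟩ hc
        have h2 : ((β ⟨c, hcW⟩ : ↥(P ⊔ centralizerIn (S : Subgroup G) P)) : G) = g * c * g⁻¹ :=
          hg ⟨c, hcW⟩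
        rw [h2] at h1
        have h3 := hST c hc.1 _ h1.1
        simpa [mul_assoc] using h3⟩
      obtain ⟨a, b, ha, hb, ⟨k, hk⟩, hbp, hab⟩ := LocalStructure.exists_pPart_mul (p := p) g
      obtain ⟨haN, haA, -⟩ := (Subgroup.zpowers_le.2 hgM) ha
      have hbH : b ∈ H := hgH b (hgens ▸ Or.inr ⟨(Subgroup.zpowers_le.2 hgM) hb, hbp⟩)
      have hpa : IsPGroup p (Subgroup.zpowers (P.normalizerMonoidHom ⟨a, haN⟩)) :=
        isPGroup_zpowers_of_pow_eq_one (k := k) (by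
          rw [← map_pow, show (⟨a, haN⟩ : Subgroup.normalizer (P : Set G)) ^ p ^ k = 1 from
            Subtype.ext (by simp [← hk, pow_orderOf_eq_one]), map_one])
      obtain ⟨γ, hγ, hγa⟩ := exists_conj_autInducedBy
        (automized_receptive hTp hEsat hP).1 (Subgroup.zpowers_le.2 haA) hpa
      have h3 := hγa _ (Subgroup.mem_zpowers _)
      rw [← Inn_eq] at h3
      haveI := Inn_normal P
      have h4 : P.normalizerMonoidHom ⟨a, haN⟩ ∈ Inn P := by
        simpa [mul_assoc] using (Inn_normal P).conj_mem _ h3 γ⁻¹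
      rw [Inn_eq] at h4
      obtain ⟨t, ht, htN, htv⟩ := mem_autInducedBy_iff.1 h4
      have htb : t * b ∈ H := mul_mem (hTH ht) hbH
      obtain ⟨hbN, -⟩ := (Subgroup.zpowers_le.2 hgM) hb
      refine mem_autInducedBy_iff.2 ⟨t * b, htb, mul_mem htN hbN, fun x => ?_⟩
      have h5 := htv ⟨b * x * b⁻¹, (Subgroup.mem_normalizer_iff.1 hbN x).1 x.2⟩
      have h6 : a * (b * (x : G) * b⁻¹) * a⁻¹ = t * (b * x * b⁻¹) * t⁻¹ := h5
      rw [← hgT x, ← hab]
      calc a * b * (x : G) * (a * b)⁻¹ = a * (b * x * b⁻¹) * a⁻¹ := by group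
        _ = t * (b * x * b⁻¹) * t⁻¹ := h6
        _ = t * b * x * (t * b)⁻¹ := by group
    · haveI := finite_of_le hP.1
      obtain ⟨hPa, hPr⟩ := automized_receptive hTp hEsat hP
      obtain ⟨L, hL⟩ : ∃ L, L = autInducedBy H P ⊓ E.autGroup P := ⟨_, rfl⟩
      obtain ⟨T0, hT0⟩ : ∃ T0, T0 = autInducedBy T P := ⟨_, rfl⟩
      have hT0L : T0 ≤ L := hL ▸ hT0 ▸ le_inf (autInducedBy_mono hTH P)
        (autInducedBy_le_autGroup hP.1)
      have hT0p : IsPGroup p T0 := hT0 ▸ isPGroup_autInducedBy hTp P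
      obtain ⟨U, hU⟩ := IsPGroup.exists_le_sylow (P := T0.subgroupOf L) hT0p.comap_subtype
      have hUeq : (U : Subgroup L).map L.subtype = T0 := hT0 ▸ eq_autInducedBy_of_le hPa
        ((Subgroup.map_subtype_le _).trans (hL ▸ inf_le_right)) (U.2.map _)
        (hT0 ▸ fun z hz => ⟨⟨z, hT0L hz⟩, hU hz, rfl⟩)
      obtain ⟨-, -, gα, hgα⟩ := hsub P ((mem_autGroup_iff hP.1).1 hα)
      have hgα' : ∀ x : P, (α x : G) = gα * x * gα⁻¹ := hgα
      have hLn : ∀ l ∈ L, α * l * α⁻¹ ∈ L := by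
        rw [hL]
        rintro l ⟨hl, hl'⟩
        obtain ⟨h, hh, -, hv⟩ := mem_autInducedBy_iff.1 hl
        refine Subgroup.mem_inf.2 ⟨Subgroup.subset_closure ⟨gα * h * gα⁻¹, hHn.conj_mem h hh gα, fun x => ?_⟩,
          mul_mem (mul_mem hα hl') (inv_mem hα)⟩
        obtain ⟨y, rfl⟩ := α.surjective x
        simp only [MulAut.mul_apply, MulAut.inv_apply_self, hgα', hv]
        group
      have hXle : T0.map (MulAut.conj α).toMonoidHom ≤ L := by
        rintro _ ⟨z, hz, rfl⟩; exact hLn z (hT0L hz)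
      obtain ⟨l, hl⟩ := exists_conj_mem_sylow U
        (X := (T0.map (MulAut.conj α).toMonoidHom).subgroupOf L) (hT0p.map _).comap_subtype
      have hn : ∀ β ∈ T0, ((l : MulAut P) * α) * β * ((l : MulAut P) * α)⁻¹ ∈ T0 := by
        intro β hβ
        have h1 : α * β * α⁻¹ ∈ T0.map (MulAut.conj α).toMonoidHom := ⟨β, hβ, rfl⟩
        have h2 := Subgroup.mem_map_of_mem L.subtype (hl ⟨_, hXle h1⟩ h1)
        rw [hUeq] at h2
        simpa [mul_assoc] using h2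
      obtain ⟨x, hx, hxP⟩ := SetLike.exists_of_lt (lt_normalizerIn hTp hlt)
      have hlA : (l : MulAut P) ∈ E.autGroup P := (Subgroup.mem_inf.1 (hL.le l.2)).2
      have hβv : ∀ y : P, (P.normalizerMonoidHom ⟨x, hx.2⟩ y : G) = x * y * x⁻¹ := fun y => rfl
      have h3 := hn (P.normalizerMonoidHom ⟨x, hx.2⟩)
        (hT0.ge (Subgroup.subset_closure ⟨x, hx.1, hβv⟩))
      rw [hT0] at h3
      obtain ⟨Q', hPQ, ψ, hψ, hψv⟩ :=
        mem_extendable_of_congr hPr (mul_mem hlA hα) hx hxP hβv h3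
      haveI := finite_of_le (le_left hψ)
      have hcard : Nat.card P < Nat.card Q' := by
        refine lt_of_le_of_ne (Subgroup.card_le_of_le hPQ.le) fun e => hPQ.ne ?_
        exact Subgroup.eq_of_le_of_card_ge hPQ.le e.ge
      obtain ⟨-, -, h, hh, hhv⟩ := IH Q' hcard hψ
      have h4 : (l : MulAut P) * α ∈ autInducedBy H P :=
        Subgroup.subset_closure ⟨h, hh, fun y => by
          rw [← hψv y]; exact hhv (Subgroup.inclusion hPQ.le y)⟩
      have hlH : (l : MulAut P) ∈ autInducedBy H P := (Subgroup.mem_inf.1 (hL.le l.2)).1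
      simpa using mul_mem (inv_mem hlH) h4
  -- the converse inclusion
  have hHle : ∀ P : Subgroup G, (fusionSystemOfSubgroup H T hTH).Hom P ⊆ E.Hom P := by
    rintro P φ ⟨hPT, hφT, h, hh, hφ⟩
    obtain ⟨P', hP'⟩ : ∃ P', P' = P ⊔ R := ⟨_, rfl⟩
    have hP'T : P' ≤ T := hP' ▸ sup_le hPT hRT
    have hval : ∀ x ∈ P', h * x * h⁻¹ ∈ T := by
      have : P' ≤ T.comap (MulAut.conj h).toMonoidHom := hP' ▸ sup_le
        (fun x hx => show h * x * h⁻¹ ∈ T from hφ ⟨x, hx⟩ ▸ hφT ⟨x, hx⟩)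
        (fun x hx => hRT (hRn.conj_mem x hx h))
      exact fun x hx => this hx
    have hh2 : h ∈ A.comap ρ ⊓ stabMod Q R := hH2 ▸ hHH2 hh
    have hI : IsIso E (ρ h) := (mem_autGroup_iff hRT).1 (hA ▸ hh2.1)
    obtain ⟨ψ, hψ, hψv⟩ := exists_extension (T := P') hRr hI fun x hx => by
      refine mem_extender_iff.2 ⟨hP'T hx, by rw [Subgroup.normalizer_eq_top]; trivial,
        h * x * h⁻¹, hval x hx, fun y hy => ?_⟩
      simp only [MonoidHom.coe_comp, MulEquiv.coe_toMonoidHom, Subgroup.coe_subtype,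
        Function.comp_apply, hρv]
      group
    obtain ⟨-, -, k, hk, hkv⟩ := hEle P' hψ
    have hzD : k⁻¹ * h ∈ D := by
      rw [hD]
      have hk2 : k ∈ A.comap ρ ⊓ stabMod Q R := hH2 ▸ hHH2 hk
      refine Subgroup.mem_inf.2 ⟨MonoidHom.mem_ker.2 (MulEquiv.ext fun x => Subtype.ext ?_),
        mul_mem (inv_mem hk2.2) hh2.2⟩
      have h1 := hψv x (hP' ▸ (le_sup_right : R ≤ P ⊔ R) x.2)
      rw [hkv, hρv] at h1
      rw [hρv]
      calc k⁻¹ * h * (x : G) * (k⁻¹ * h)⁻¹ = k⁻¹ * (h * x * h⁻¹) * k := by group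
        _ = x := by rw [← h1]; group
    have hz : k⁻¹ * h ∈ P' :=
      hP' ▸ (le_sup_right : R ≤ P ⊔ R) (hDK (Subgroup.mem_inf.2 ⟨hzD, mul_mem (inv_mem (hHK hk)) (hHK hh)⟩))
    have hPP' : P ≤ P' := hP' ▸ le_sup_left
    refine mem_of_comp (E.conj_mem hPT (hP'T hz)) hψ
      (fun x => mul_mem (mul_mem hz (hPP' x.2)) (inv_mem hz)) fun x => ?_
    rw [hkv, hφ]
    show h * (x : G) * h⁻¹ = k * (k⁻¹ * h * x * (k⁻¹ * h)⁻¹) * k⁻¹
    group
  refine ⟨H, ⟨hTH, hHn, hHsyl, fun P => (hEle P).antisymm (hHle P)⟩, ?_⟩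
  -- uniqueness
  rintro H' ⟨hTH', hH'n, ⟨R', hR'⟩, hEH'⟩
  haveI := hH'n
  have hH'S : ∀ x ∈ H', x ∈ (S : Subgroup G) → x ∈ T := by
    intro x hxH hxS
    have h2 := R'.3 (Q := ((S : Subgroup G)).subgroupOf H') S.2.comap_subtype
      (hR' ▸ fun y hy => hTS hy)
    have h3 : (⟨x, hxH⟩ : H') ∈ T.subgroupOf H' := hR' ▸ h2 ▸ hxS
    exact h3
  have hRH' : R ≤ H' := hRT.trans hTH'
  have hH'2 : H' ≤ H2 := by
    intro g hg
    rw [hH2]
    refine ⟨?_, mem_stabMod_iff.2 fun q hq => ?_⟩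
    · show ρ g ∈ A
      rw [hA]
      refine mem_autGroup_of_le_of_eq hRT (φ := conjHom R g) ?_ (fun x => hρv g x)
      rw [hEH']
      exact ⟨hRT, fun x => hRT (hRn.conj_mem x x.2 g), g, hg, fun _ => rfl⟩
    · rw [hR]
      have h1 : g * q * g⁻¹ * q⁻¹ ∈ Q := mul_mem (hQn.conj_mem q hq g) (inv_mem hq)
      refine ⟨h1, hH'S _ ?_ (hQS h1)⟩
      rw [show g * q * g⁻¹ * q⁻¹ = g * (q * g⁻¹ * q⁻¹) by group]
      exact mul_mem hg (hH'n.conj_mem _ (inv_mem hg) q)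
  -- both subgroups induce all of `A` on `R`
  have hlift : ∀ g ∈ H2, (∃ a ∈ H, ρ a = ρ g) ∧ (∃ a ∈ H', ρ a = ρ g) := by
    intro g hg
    rw [hH2] at hg
    have hI : IsIso E (ρ g) := (mem_autGroup_iff hRT).1 (hA ▸ hg.1)
    obtain ⟨-, -, a, ha, hav⟩ := hEle R hI
    have hI' := hI
    unfold IsIso at hI'
    rw [hEH'] at hI'
    obtain ⟨-, -, a', ha', hav'⟩ := hI'
    exact ⟨⟨a, ha, MulEquiv.ext fun x => Subtype.ext ((hρv a x).trans (hav x).symm)⟩,
      ⟨a', ha', MulEquiv.ext fun x => Subtype.ext ((hρv a' x).trans (hav' x).symm)⟩⟩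
  have hd : ∀ a u, a ∈ H2 → a ∈ K → u ∈ H2 → u ∈ K → ρ a = ρ u → a⁻¹ * u ∈ R := by
    intro a u ha haK hu huK he
    refine hDK (Subgroup.mem_inf.2 ⟨?_, mul_mem (inv_mem haK) huK⟩)
    rw [hD]
    rw [hH2] at ha hu
    exact Subgroup.mem_inf.2 ⟨MonoidHom.mem_ker.2 (by rw [map_mul, map_inv, he, inv_mul_cancel]),
      mul_mem (inv_mem ha.2) hu.2⟩
  have hle : H' ≤ H := by
    intro g hg
    obtain ⟨a, b, ha, hb, ⟨k, hk⟩, hbp, rfl⟩ := LocalStructure.exists_pPart_mul (p := p) g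
    have ha' : a ∈ H' := (Subgroup.zpowers_le.2 hg) ha
    have hb' : b ∈ H' := (Subgroup.zpowers_le.2 hg) hb
    refine mul_mem ?_ ?_
    · obtain ⟨c, hc⟩ := exists_conj_mem_sylow R' (X := Subgroup.zpowers (⟨a, ha'⟩ : H'))
        (isPGroup_zpowers_of_pow_eq_one (k := k) (Subtype.ext (by
          simp [← hk, pow_orderOf_eq_one])))
      have h1 := hc _ (Subgroup.mem_zpowers _)
      rw [hR', Subgroup.mem_subgroupOf, Subgroup.coe_mul, Subgroup.coe_mul, Subgroup.coe_inv] at h1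
      simpa [mul_assoc] using hHn.conj_mem _ (hTH h1) (c : G)⁻¹
    · obtain ⟨u, hu, hue⟩ := (hlift b (hH'2 hb')).1
      have h1 := hd u b (hHH2 hu) (hHK hu) (hH'2 hb') (hKcop b (hH'2 hb') hbp) hue
      simpa using mul_mem hu (hTH (hRT h1))
  refine le_antisymm hle fun g hg => ?_
  obtain ⟨u, hu, hue⟩ := (hlift g (hHH2 hg)).2
  have h1 := hd u g (hH'2 hu) (hHK (hle hu)) (hHH2 hg) (hHK hg) hue
  simpa using mul_mem hu (hRH' h1)

end CfsgLib.Fusion
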