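import Cfsg.Agent.Fusion.PPowerIndexNormal
import Cfsg.Agent.FusionAgemo.Induction
import Cfsg.Agent.Fusion.SaturationCriterion

/-!
# Subsystems containing `O^{p'}(Aut_F(P))` for all centric `P`

Such a subsystem has index prime to `p`, together with `Aut_F(S)` it generates `F`, and it has the
centric subgroups of `F`.
-/

set_option autoImplicit false
set_option linter.style.haveILetI false

namespace CfsgLib.PrimeToPIndex

open Cfsg Cfsg.FusionSystem CfsgLib.Fusion CfsgLib.FusionClosed CfsgLib.FusionAgemo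
open CfsgLib.PPowerIndexNormal (img transport pow_agree)

variable {Ω : Type*} [Group Ω] {S : Subgroup Ω} {F E : FusionSystem S} {p : ℕ}

/-- The subgroup of `Aut_F(P)` generated by the elements of `p`-power order. -/
abbrev pGen (p : ℕ) (F : FusionSystem S) (P : Subgroup Ω) : Subgroup (F.autGroup P) :=
  Subgroup.closure {α : F.autGroup P | ∃ k : ℕ, orderOf α = p ^ k}

theorem pGen_normal (P : Subgroup Ω) : (pGen p F P).Normal := by
  refine ⟨fun n hn g => ?_⟩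
  induction hn using Subgroup.closure_induction with
  | mem x hx =>
    refine Subgroup.subset_closure ?_
    obtain ⟨k, hk⟩ := hx
    exact ⟨k, by
      rw [← hk]
      exact orderOf_injective (MulAut.conj g).toMonoidHom (MulAut.conj g).injective x⟩
  | one => simp
  | mul x y _ _ hx hy =>
    have e : g * (x * y) * g⁻¹ = (g * x * g⁻¹) * (g * y * g⁻¹) := by group
    rw [e]
    exact mul_mem hx hy
  | inv x _ hx =>
    have e : g * x⁻¹ * g⁻¹ = (g * x * g⁻¹)⁻¹ := by group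
    rw [e]
    exact Subgroup.inv_mem _ hx

theorem stronglyClosed_self : F.StronglyClosed S :=
  ⟨le_rfl, fun _ _ _ hφ x => apply_mem hφ x⟩

/-- The maps of `F` all of whose transports by `Aut_F(S)` lie in `E`. -/
def invPart (F E : FusionSystem S) : FusionSystem S where
  Hom P := {φ | φ ∈ F.Hom P ∧ ∀ α ∈ F.autGroup S, φ ∈ (transport E α).Hom P}
  le_of_mem h := F.le_of_mem h.1
  injective_of_mem h := F.injective_of_mem h.1
  conj_mem hP hg := ⟨F.conj_mem hP hg, fun α _ => (transport E α).conj_mem hP hg⟩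
  comp_mem hφ hψ h :=
    ⟨F.comp_mem hφ.1 hψ.1 h, fun α hα => (transport E α).comp_mem (hφ.2 α hα) (hψ.2 α hα) h⟩
  inv_mem := by
    rintro P φ ⟨hφ, hall⟩
    obtain ⟨ψ, hψ, hψv⟩ := F.inv_mem hφ
    refine ⟨ψ, ⟨hψ, fun α hα => ?_⟩, hψv⟩
    obtain ⟨ψ', hψ', hψ'v⟩ := (transport E α).inv_mem (hall α hα)
    refine mem_congr hψ' ?_
    rintro ⟨_, x, rfl⟩
    exact (hψv x).trans (hψ'v x).symm

theorem invPart_isSubsystemOf : (invPart F E).IsSubsystemOf F := fun _ _ h => h.1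

theorem invPart_le : (invPart F E).IsSubsystemOf E := by
  intro P φ h
  obtain ⟨hP, hv, χ, hχ, hχv⟩ := h.2 1 (one_mem _)
  have hle : P ≤ img (1 : MulAut S) P := fun x hx => ⟨⟨x, hP hx⟩, hx, rfl⟩
  exact mem_of_agree hχ hle fun x => (hχv x (hle x.2)).symm

theorem autInvariant_invPart : AutInvariant (invPart F E) F := by
  intro P hPS φ hφ α hα
  have hαF := (mem_autGroup_iff le_rfl).1 hα
  obtain ⟨e, he, hev⟩ : ∃ e : P ≃* img α P, IsIso F e ∧
      ∀ x : P, (e x : Ω) = (α ⟨x, hPS x.2⟩ : Ω) :=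
    exists_iso_restrict hαF hPS
  -- the transported map
  let χ : img α P →* Ω :=
    ((S.subtype.comp α.toMonoidHom).comp (φ.codRestrict S (apply_mem hφ))).comp e.symm.toMonoidHom
  have hχv : ∀ x : P, χ (e x) = (α ⟨φ x, apply_mem hφ x⟩ : Ω) := fun x => by
    show (α ⟨φ (e.symm (e x)), _⟩ : Ω) = _
    exact congrArg (fun w : S => (α w : Ω))
      (Subtype.ext (congrArg φ (e.symm_apply_apply x)))
  have hχF : χ ∈ F.Hom (img α P) :=
    mem_of_comp (mem_of_comp he.symm hφ.1 (fun y => (e.symm y).2)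
      (χ := φ.comp e.symm.toMonoidHom) fun y => rfl) hαF (fun y => apply_mem hφ _) fun y => rfl
  refine ⟨χ, ⟨hχF, fun β hβ => ?_⟩, fun x hφx hαx => ?_⟩
  · obtain ⟨_, hv, χ', hχ', hχ'v⟩ := hφ.2 (β * α) (mul_mem hβ hα)
    have hR : img α P ≤ S := he.le_right
    have hle : img β (img α P) ≤ img (β * α) P := by
      rintro _ ⟨z, hz, rfl⟩
      obtain ⟨x, hx, hxz⟩ := hz
      refine ⟨x, hx, ?_⟩
      show (β (α x) : Ω) = (β z : Ω)
      rw [show α x = z from Subtype.ext hxz]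
    refine ⟨hR, fun y => apply_mem hχF y, restrictHom χ' hle, restrict_mem hχ' hle, fun y h => ?_⟩
    obtain ⟨x, rfl⟩ := e.surjective y
    have ex : β ⟨e x, hR (e x).2⟩ = (β * α) ⟨x, hPS x.2⟩ :=
      congrArg β (Subtype.ext (hev x))
    have h2 : ∀ hh, χ' ⟨(β ⟨e x, hR (e x).2⟩ : Ω), hh⟩ = ((β * α) ⟨φ x, hv x⟩ : Ω) := by
      rw [ex]
      exact fun hh => hχ'v x hh
    refine (h2 _).trans ?_
    exact congrArg (fun w : S => (β w : Ω)) (Subtype.ext (hχv x).symm)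
  · rw [show (⟨(α ⟨x, hPS x.2⟩ : Ω), hαx⟩ : img α P) = e x from Subtype.ext (hev x).symm]
    exact hχv x

theorem pGen_le_invPart [Finite S] {ℋ : Set (Subgroup Ω)}
    (hℋ : ∀ P ∈ ℋ, ∀ Q, F.IsConj P Q → Q ∈ ℋ) (hℋS : ∀ P ∈ ℋ, P ≤ S)
    (h : ∀ P ∈ ℋ, (pGen p F P).map (F.autGroup P).subtype ≤ E.autGroup P)
    {P : Subgroup Ω} (hP : P ∈ ℋ) :
    (pGen p F P).map (F.autGroup P).subtype ≤ (invPart F E).autGroup P := by
  rintro _ ⟨γ, hγ, rfl⟩
  have hPS := hℋS P hP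
  refine IsIso.mem_autGroup ⟨(mem_autGroup_iff hPS).1 γ.2, fun α hα => ?_⟩
  obtain ⟨e, he, hev⟩ : ∃ e : P ≃* img α P, IsIso F e ∧
      ∀ x : P, (e x : Ω) = (α ⟨x, hPS x.2⟩ : Ω) :=
    exists_iso_restrict ((mem_autGroup_iff le_rfl).1 hα) hPS
  let f : F.autGroup P →* F.autGroup (img α P) :=
    { toFun := fun β => ⟨MulAut.congr e β, congr_mem_autGroup he β.2⟩
      map_one' := Subtype.ext (map_one _)
      map_mul' := fun a b => Subtype.ext (map_mul _ _ _) }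
  have hf : Function.Injective f := fun a b hab =>
    Subtype.ext ((MulAut.congr e).injective (congrArg Subtype.val hab))
  have hmap : f γ ∈ pGen p F (img α P) := by
    induction hγ using Subgroup.closure_induction with
    | mem x hx =>
      obtain ⟨k, hk⟩ := hx
      exact Subgroup.subset_closure ⟨k, by rw [orderOf_injective f hf, hk]⟩
    | one => rw [map_one]; exact one_mem _
    | mul a b _ _ ha hb => rw [map_mul]; exact mul_mem ha hb
    | inv a _ ha => rw [map_inv]; exact Subgroup.inv_mem _ ha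
  have hmem := h _ (hℋ P hP _ he.isConj) ⟨f γ, hmap, rfl⟩
  refine ⟨hPS, fun x => hPS ((γ : MulAut P) x).2, _, (mem_autGroup_iff he.le_right).1 hmem,
    fun x hx => ?_⟩
  show (MulAut.congr e (γ : MulAut P) ⟨_, hx⟩ : Ω) = _
  rw [show (⟨(α ⟨x, hPS x.2⟩ : Ω), hx⟩ : img α P) = e x from Subtype.ext (hev x).symm, congr_apply,
    hev]
  rfl

variable [Finite S] [Fact p.Prime]

/-- Some `g ∈ N_S(P) \ P` acts on `P` inside `O_p(Aut_F(P))`. -/
def Moves (F : FusionSystem S) (p : ℕ) (P : Subgroup Ω) : Prop :=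
  ∃ g ∈ normalizerIn S P, g ∉ P ∧ ∃ c ∈ pCore p (F.autGroup P),
    ∀ x : P, ((c : MulAut P) x : Ω) = g * x * g⁻¹

/-- With `Aut_F(S)` an invariant such subsystem gives all of `F`. -/
theorem decomp (hS : IsPGroup p S) (hF : F.IsSaturated p) (hinv : AutInvariant E F)
    (h : ∀ P : Subgroup Ω, F.IsCentric P → F.IsFullyNormalized P → P ≠ S →
      (pGen p F P).map (F.autGroup P).subtype ≤ E.autGroup P ∨ Moves F p P)
    {P : Subgroup Ω} {φ : P →* Ω} (hφ : φ ∈ F.Hom P) :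
    ∃ α ∈ F.autGroup S, ∃ φ₀ ∈ E.Hom P,
      ∀ (x : P) (hx : φ₀ x ∈ S), φ x = ((α ⟨φ₀ x, hx⟩ : S) : Ω) := by
  obtain ⟨D, hD⟩ := exists_decomp_system (stronglyClosed_self (F := F)) hinv
  have hFD : F.IsSubsystemOf D := by
    refine isSubsystemOf_of_aut hS hF fun P hP habove α hα => ?_
    have hPS := hP.1
    haveI := finite_of_le hPS
    have hiso : IsIso F α := (mem_autGroup_iff hPS).1 hα
    obtain ⟨hPa, hPr⟩ := automized_receptive hS hF hP
    by_cases hPeq : P = S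
    · subst hPeq
      exact (hD _ _).2 ⟨hiso, α, hα, (P ⊓ P).subtype, subtype_mem inf_le_right, fun x hx => rfl⟩
    by_cases hC : centralizerIn S P ≤ P
    · have hcen := isCentric_of_fullyCentralized hS hF (isFullyCentralized_of_receptive hPr) hC
      rcases h P hcen hP hPeq with hK | ⟨g, hg, hgP, c, hc, hcv⟩
      swap
      · exact aut_mem_of_normal_pgroup hPa hPr habove (pCore p (F.autGroup P))
          CfsgLib.SatCriterion.pCore_normal' (CfsgLib.PLocal.isPGroup_pCore p _) hg hgP hc hcv α hα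
      obtain ⟨g, hg, hgP⟩ := SetLike.exists_of_lt (lt_normalizerIn hS (lt_of_le_of_ne hPS hPeq))
      let c : F.autGroup P := ⟨P.normalizerMonoidHom ⟨g, hg.2⟩,
        autInducedBy_le_autGroup hPS (mem_autInducedBy_iff.2 ⟨g, hg.1, hg.2, fun _ => rfl⟩)⟩
      refine aut_mem_of_normal hS hPa hPr habove (pGen p F P) (pGen_normal P) ?_ hg hgP (c := c) ?_
        (fun _ => rfl) α hα
      · intro k hk
        refine (hD P _).2 ⟨(mem_autGroup_iff hPS).1 k.2, 1, one_mem _, _,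
          restrict_mem ((mem_autGroup_iff hPS).1 (hK ⟨k, hk, rfl⟩)) inf_le_left,
          fun x hx => rfl⟩
      · refine Subgroup.subset_closure ?_
        obtain ⟨j, hj⟩ := ((isPGroup_autInducedBy hS P).exists_orderOf_dvd_pow
          ⟨c, mem_autInducedBy_iff.2 ⟨g, hg.1, hg.2, fun _ => rfl⟩⟩)
        obtain ⟨i, -, hi⟩ := (Nat.dvd_prime_pow (Fact.out : p.Prime)).1 hj
        refine ⟨i, ?_⟩
        rw [← hi, ← Subgroup.orderOf_coe, ← Subgroup.orderOf_coe]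
    · obtain ⟨ψ, hψ, hψv⟩ := exists_extension (T := P ⊔ centralizerIn S P) hPr hiso
        (sup_le (le_extender hPS (F.le_of_mem hiso).2) (centralizerIn_le_extender _))
      haveI := finite_of_le (le_left hψ)
      have hlt : Nat.card P < Nat.card ↥(P ⊔ centralizerIn S P) := by
        by_contra hc
        exact hC ((le_sup_right).trans
          (Subgroup.eq_of_le_of_card_ge le_sup_left (not_lt.1 hc)).ge)
      exact mem_of_agree (habove _ hlt ψ hψ) le_sup_left fun x => (hψv x _).symm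
  obtain ⟨-, α, hα, φ₀, hφ₀, hv⟩ := (hD P φ).1 (hFD P hφ)
  have hle : P ≤ P ⊓ S := le_inf le_rfl (le_left hφ)
  exact ⟨α, hα, restrictHom φ₀ hle, restrict_mem hφ₀ hle, fun x hx => hv ⟨x, hle x.2⟩ hx⟩

/-- The automorphisms of `p`-power order are in the subsystem. -/
theorem pGen_le (hS : IsPGroup p S) (hF : F.IsSaturated p) (hinv : AutInvariant E F)
    (h : ∀ P : Subgroup Ω, F.IsCentric P → F.IsFullyNormalized P → P ≠ S →
      (pGen p F P).map (F.autGroup P).subtype ≤ E.autGroup P ∨ Moves F p P)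
    {P : Subgroup Ω} (hP : P ≤ S) :
    (pGen p F P).map (F.autGroup P).subtype ≤ E.autGroup P := by
  rw [MonoidHom.map_closure, Subgroup.closure_le]
  rintro _ ⟨a, ⟨k, hk⟩, rfl⟩
  haveI := finite_of_le hP
  obtain ⟨Q, hPQ, hQ⟩ := exists_fullyNormalized (F := F) hP
  obtain ⟨hQa, -⟩ := automized_receptive hS hF hQ
  obtain ⟨e₀, he₀⟩ := isConj_iff.1 hPQ
  haveI := finite_of_le hQ.1
  obtain ⟨γ, hγ, hγc⟩ := exists_conj_autInducedBy hQa
    (X := Subgroup.zpowers (MulAut.congr e₀ (a : MulAut P)))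
    (Subgroup.zpowers_le.2 (congr_mem_autGroup he₀ a.2))
    (isPGroup_zpowers_of_pow_eq_one (k := k) (by
      rw [← map_pow, ← SubgroupClass.coe_pow, ← hk, pow_orderOf_eq_one]
      exact map_one _))
  obtain ⟨e, he, hea⟩ : ∃ e : P ≃* Q, IsIso F e ∧
      MulAut.congr e (a : MulAut P) ∈ autInducedBy S Q := by
    refine ⟨e₀.trans γ, he₀.trans ((mem_autGroup_iff hQ.1).1 hγ), ?_⟩
    rw [congr_trans, congr_self_eq]
    exact hγc _ (Subgroup.mem_zpowers _)
  obtain ⟨g, hg, hgN, hga⟩ := mem_autInducedBy_iff.1 hea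
  obtain ⟨β, hβ, f, hf, hfv⟩ := decomp hS hF hinv h (he.symm : IsIso F e.symm)
  obtain ⟨f', hf', hf'v⟩ := exists_iso_range hf
  let c : MulAut Q := Q.normalizerMonoidHom ⟨g, hgN⟩
  have hc : c ∈ E.autGroup Q :=
    autInducedBy_le_autGroup hQ.1 (mem_autInducedBy_iff.2 ⟨g, hg, hgN, fun _ => rfl⟩)
  have hE1 : MulAut.congr f' c ∈ E.autGroup f.range := congr_mem_autGroup hf' hc
  obtain ⟨χ, hχ, hχv⟩ := hinv f.range hf'.le_right _
    ((mem_autGroup_iff hf'.le_right).1 hE1) β hβ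
  have hle : P ≤ img β f.range := by
    intro x hx
    refine ⟨⟨f' (e ⟨x, hx⟩), hf'.le_right (f' _).2⟩, (f' _).2, ?_⟩
    have h1 := hfv (e ⟨x, hx⟩) (apply_mem hf _)
    show (β _ : Ω) = x
    refine Eq.trans (congrArg (fun w : S => (β w : Ω)) (Subtype.ext (hf'v _))) (h1.symm.trans ?_)
    show ((e.symm (e ⟨x, hx⟩) : P) : Ω) = x
    rw [e.symm_apply_apply]
  refine IsIso.mem_autGroup (mem_of_agree hχ hle fun x => ?_)
  have h1 : ∀ y : Q, (β ⟨f' y, hf'.le_right (f' y).2⟩ : Ω) = (e.symm y : Ω) := fun y =>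
    (congrArg (fun w : S => (β w : Ω)) (Subtype.ext (hf'v y))).trans (hfv y (apply_mem hf _)).symm
  have h2 := hχv (f' (e x)) (hf'.le_right (MulAut.congr f' c (f' (e x))).2)
    ⟨⟨f' (e x), hf'.le_right (f' _).2⟩, (f' _).2, rfl⟩
  show ((a : MulAut P) x : Ω) = χ ⟨x, hle x.2⟩
  have h3 : (β ⟨f' (e x), hf'.le_right (f' (e x)).2⟩ : Ω) = x := by
    rw [h1, e.symm_apply_apply]
  refine Eq.symm ((congrArg χ (Subtype.ext h3.symm)).trans (h2.trans ?_))
  show (β ⟨(MulAut.congr f' c (f' (e x)) : Ω), _⟩ : Ω) = _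
  simp only [congr_apply]
  rw [h1]
  have h4 : c (e x) = e ((a : MulAut P) x) := by
    rw [← congr_apply (e := e) (a : MulAut P) x]
    exact Subtype.ext (hga (e x)).symm
  rw [h4, e.symm_apply_apply]

/-- The three conclusions, from a family containing all centric subgroups which are not moved. -/
theorem main' (hS : IsPGroup p S) (hF : F.IsSaturated p) (hEF : E.IsSubsystemOf F)
    {ℋ : Set (Subgroup Ω)} (hℋ : ∀ P ∈ ℋ, ∀ Q, F.IsConj P Q → Q ∈ ℋ) (hℋS : ∀ P ∈ ℋ, P ≤ S)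
    (hmoves : ∀ P : Subgroup Ω, F.IsCentric P → F.IsFullyNormalized P → P ∉ ℋ → Moves F p P)
    (h : ∀ P ∈ ℋ, (pGen p F P).map (F.autGroup P).subtype ≤ E.autGroup P) :
    E.HasPrimeToPIndexIn F p ∧
    (∀ (P : Subgroup Ω) (φ : P →* Ω), φ ∈ F.Hom P → ∃ α ∈ F.autGroup S, ∃ φ₀ ∈ E.Hom P,
      ∀ (x : P) (hx : φ₀ x ∈ S), φ x = ((α ⟨φ₀ x, hx⟩ : S) : Ω)) ∧
    ∀ P : Subgroup Ω, E.IsCentric P ↔ F.IsCentric P := by
  have hinv : AutInvariant (invPart F E) F := autInvariant_invPart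
  have h' : ∀ P : Subgroup Ω, F.IsCentric P → F.IsFullyNormalized P → P ≠ S →
      (pGen p F P).map (F.autGroup P).subtype ≤ (invPart F E).autGroup P ∨ Moves F p P :=
    fun P hP hPn _ => by
      by_cases hPℋ : P ∈ ℋ
      · exact Or.inl (pGen_le_invPart hℋ hℋS h hPℋ)
      · exact Or.inr (hmoves P hP hPn hPℋ)
  have hdec : ∀ (P : Subgroup Ω) (φ : P →* Ω), φ ∈ F.Hom P → ∃ α ∈ F.autGroup S,
      ∃ φ₀ ∈ E.Hom P, ∀ (x : P) (hx : φ₀ x ∈ S), φ x = ((α ⟨φ₀ x, hx⟩ : S) : Ω) := by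
    intro P φ hφ
    obtain ⟨α, hα, φ₀, hφ₀, hv⟩ := decomp hS hF hinv h' hφ
    exact ⟨α, hα, φ₀, invPart_le P hφ₀, hv⟩
  refine ⟨⟨hEF, fun P hP => (pGen_le hS hF hinv h' hP).trans fun a ha =>
    (mem_autGroup_iff hP).2 (invPart_le P ((mem_autGroup_iff hP).1 ha))⟩, hdec,
    fun P => ⟨fun hP => ?_, fun hP => ⟨hP.1, fun Q hQ => ?_⟩⟩⟩
  · refine ⟨hP.1, fun Q hQ c hc => ?_⟩
    obtain ⟨φ, hφ, rfl⟩ := hQ
    obtain ⟨α, hα, φ₀, hφ₀, hv⟩ := hdec P φ hφ
    have h0 := hP.2 φ₀.range ⟨φ₀, hφ₀, rfl⟩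
    obtain ⟨hcS, hcc⟩ := mem_centralizerIn'.1 hc
    obtain ⟨c₀, hc₀⟩ := α.surjective ⟨c, hcS⟩
    have hmem : (c₀ : Ω) ∈ centralizerIn S φ₀.range := by
      refine mem_centralizerIn'.2 ⟨c₀.2, ?_⟩
      rintro _ ⟨x, rfl⟩
      have h1 : c₀ * ⟨φ₀ x, apply_mem hφ₀ x⟩ * c₀⁻¹ = ⟨φ₀ x, apply_mem hφ₀ x⟩ := by
        refine α.injective (Subtype.ext ?_)
        rw [map_mul, map_mul, map_inv, hc₀, Subgroup.coe_mul, Subgroup.coe_mul, InvMemClass.coe_inv,
          ← hv x]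
        exact hcc (φ x) ⟨x, rfl⟩
      exact congrArg Subtype.val h1
    obtain ⟨x, hx⟩ := h0 hmem
    refine ⟨x, ?_⟩
    rw [hv x (apply_mem hφ₀ x), show (⟨φ₀ x, apply_mem hφ₀ x⟩ : S) = c₀ from Subtype.ext hx, hc₀]
  · obtain ⟨φ, hφ, hr⟩ := hQ
    exact hP.2 Q ⟨φ, hEF P hφ, hr⟩

/-- The three conclusions. -/
theorem main (hS : IsPGroup p S) (hF : F.IsSaturated p) (hEF : E.IsSubsystemOf F)
    (h : ∀ P : Subgroup Ω, F.IsCentric P →
      (pGen p F P).map (F.autGroup P).subtype ≤ E.autGroup P) :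
    E.HasPrimeToPIndexIn F p ∧
    (∀ (P : Subgroup Ω) (φ : P →* Ω), φ ∈ F.Hom P → ∃ α ∈ F.autGroup S, ∃ φ₀ ∈ E.Hom P,
      ∀ (x : P) (hx : φ₀ x ∈ S), φ x = ((α ⟨φ₀ x, hx⟩ : S) : Ω)) ∧
    ∀ P : Subgroup Ω, E.IsCentric P ↔ F.IsCentric P :=
  main' hS hF hEF (ℋ := {P | F.IsCentric P}) (fun _ hP _ hQ => isCentric_of_isConj hP hQ)
    (fun _ hP => hP.1) (fun _ hP _ hn => absurd hP hn) h

end CfsgLib.PrimeToPIndex
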